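import Cfsg.Agent.Lib.SolvCent.Perms
import Mathlib.GroupTheory.Perm.List
import Mathlib.GroupTheory.Perm.Cycle.Type
import Mathlib.GroupTheory.Solvable
import Mathlib.Tactic.Group

/-!
# Tools for lists of permutations killing all vectors
-/

set_option autoImplicit false

namespace CfsgLib.SolvCent

open scoped commutatorElement

variable {n : ℕ}

/-- An even permutation with checked sign gives a valid list. -/
theorem valid_of_perm (g : Equiv.Perm (Fin n)) (h : Equiv.Perm.sign g = 1) {l : List ℕ}
    (hl : (List.ofFn fun i => ((g i : Fin n) : ℕ)) = l) : Valid n l :=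
  ⟨⟨g, Equiv.Perm.mem_alternatingGroup.2 h⟩, hl⟩

/-- No non-zero vector is fixed by a non-solvable subgroup. -/
def NoFix (n : ℕ) (V : Type*) [AddCommGroup V] [DistribMulAction (alternatingGroup (Fin n)) V] : Prop :=
  ∀ w : V, w ≠ 0 → ∀ S : Subgroup (alternatingGroup (Fin n)), ¬ Group.IsSolvable S → ∃ s ∈ S, s • w ≠ w

/-- A product of generators along a word. -/
def wordProd {G : Type*} [Group G] (a b : G) : List Bool → G
  | [] => 1
  | x :: r => (if x then b else a) * wordProd a b r

theorem wordProd_mem {G : Type*} [Group G] (a b : G) :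
    ∀ w : List Bool, wordProd a b w ∈ Subgroup.closure ({a, b} : Set G)
  | [] => one_mem _
  | x :: r => by
      rw [wordProd]
      refine mul_mem ?_ (wordProd_mem a b r)
      cases x <;> exact Subgroup.subset_closure (by simp)

/-- Two elements which are commutators of their words generate a non-solvable subgroup. -/
theorem not_isSolvable_closure {G : Type*} [Group G] (a b : G) (ha1 : a ≠ 1) (u v u' v' : List Bool)
    (ha : a = ⁅wordProd a b u, wordProd a b v⁆) (hb : b = ⁅wordProd a b u', wordProd a b v'⁆) :
    ¬ Group.IsSolvable (Subgroup.closure ({a, b} : Set G)) := by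
  intro hsol
  set S := Subgroup.closure ({a, b} : Set G) with hS
  have hne : S ≠ ⊥ := fun h => ha1 (Subgroup.mem_bot.1 (h ▸ Subgroup.subset_closure (by simp)))
  haveI := hsol
  haveI : Nontrivial S := (Subgroup.nontrivial_iff_ne_bot S).2 hne
  refine (Group.IsSolvable.commutator_lt_top_of_nontrivial S).ne ?_
  apply Subgroup.map_injective S.subtype_injective
  rw [Subgroup.map_subtype_commutator, ← MonoidHom.range_eq_map, Subgroup.range_subtype]
  refine le_antisymm (Subgroup.commutator_le_self S) ((Subgroup.closure_le _).2 ?_)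
  intro x hx
  rcases hx with rfl | rfl
  · rw [SetLike.mem_coe, ha]; exact Subgroup.commutator_mem_commutator (wordProd_mem _ _ _) (wordProd_mem _ _ _)
  · rw [SetLike.mem_coe, hb]; exact Subgroup.commutator_mem_commutator (wordProd_mem _ _ _) (wordProd_mem _ _ _)

section Module

variable {V : Type*} [AddCommGroup V] [DistribMulAction (alternatingGroup (Fin n)) V]

/-- A pair generating a non-solvable subgroup kills everything. -/
theorem killed_of_noFix (hV : NoFix n V) (a b : alternatingGroup (Fin n)) {la lb : List ℕ}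
    (hla : imgL a = la) (hlb : imgL b = lb) (ha1 : a ≠ 1) (u v u' v' : List Bool)
    (ha : a = ⁅wordProd a b u, wordProd a b v⁆) (hb : b = ⁅wordProd a b u', wordProd a b v'⁆) :
    Killed n V [(la, 1), (lb, 1)] := by
  intro w hw
  by_contra hw0
  obtain ⟨s, hs, hsw⟩ := hV w hw0 _ (not_isSolvable_closure a b ha1 u v u' v' ha hb)
  refine hsw ?_
  have hle : Subgroup.closure ({a, b} : Set (alternatingGroup (Fin n))) ≤
      MulAction.stabilizer (alternatingGroup (Fin n)) w := by
    rw [Subgroup.closure_le]
    intro x hx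
    rcases hx with hx | hx <;> rw [hx]
    · show a • w = w
      have := hw (la, 1) (by simp) a hla
      rwa [one_nsmul] at this
    · show b • w = w
      have := hw (lb, 1) (by simp) b hlb
      rwa [one_nsmul] at this
  exact hle hs

/-- Conjugate lists kill as well. -/
theorem Killed.conj {S T : List (List ℕ × ℕ)} (hS : Killed n V S) (h : alternatingGroup (Fin n))
    (hT : ∀ x ∈ T, Valid n x.1)
    (hST : ∀ x ∈ S, ∃ y ∈ T, y.2 = x.2 ∧ comp y.1 (imgL h) = comp (imgL h) x.1) : Killed n V T := by
  intro w hw
  have key : SFix n S (h⁻¹ • w) := by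
    intro x hx a ha
    obtain ⟨y, hy, hs, hc⟩ := hST x hx
    obtain ⟨b, hb⟩ := hT y hy
    have hrel : b * h = h * a := imgL_injective (by rw [imgL_mul, imgL_mul, hb, ha]; exact hc)
    have : a * h⁻¹ = h⁻¹ * b := by
      calc a * h⁻¹ = h⁻¹ * (h * a) * h⁻¹ := by group
        _ = h⁻¹ * (b * h) * h⁻¹ := by rw [hrel]
        _ = h⁻¹ * b := by group
    rw [← mul_smul, this, mul_smul, hw y hy b hb, hs]
    exact map_nsmul (DistribSMul.toAddMonoidHom V h⁻¹) _ _
  exact (smul_eq_zero_iff_eq _).1 (hS _ key)

/-- If no non-zero eigenvector is also fixed by `y` of order `p` commuting with the list, there is none. -/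
theorem Killed.of_fix [Finite V] {p : ℕ} [hpp : Fact p.Prime] (hp : ∀ x : V, p • x = 0)
    {S : List (List ℕ × ℕ)} {ly : List ℕ} (y : alternatingGroup (Fin n)) (hy : imgL y = ly) (hyp : y ^ p = 1)
    (hc : ∀ x ∈ S, comp x.1 ly = comp ly x.1) (h : Killed n V (S ++ [(ly, 1)])) : Killed n V S := by
  classical
  intro w hw
  by_contra hw0
  let W : AddSubgroup V :=
    { carrier := {v | SFix n S v}
      zero_mem' := fun x _ a _ => by simp
      add_mem' := fun {u v} hu hv x hx a ha => by rw [smul_add, hu x hx a ha, hv x hx a ha, nsmul_add]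
      neg_mem' := fun {u} hu x hx a ha => by rw [smul_neg, hu x hx a ha, neg_nsmul] }
  have hyW : ∀ v ∈ W, y • v ∈ W := by
    intro v hv x hx a ha
    have hrel : a * y = y * a := imgL_injective (by rw [imgL_mul, imgL_mul, hy, ha]; exact hc x hx)
    rw [← mul_smul, hrel, mul_smul, hv x hx a ha]
    exact map_nsmul (DistribSMul.toAddMonoidHom V y) _ _
  let f : W → W := fun v => ⟨y • (v : V), hyW v v.2⟩
  have hf : Function.Injective f := fun u v huv =>
    Subtype.ext (MulAction.injective y (congrArg Subtype.val huv))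
  let σ : Equiv.Perm W := Equiv.ofBijective f hf.bijective_of_finite
  have hpow : ∀ (m : ℕ) (v : W), ((σ ^ m) v : V) = y ^ m • (v : V) := by
    intro m
    induction m with
    | zero => intro v; simp
    | succ m ih =>
        intro v
        rw [pow_succ', Equiv.Perm.mul_apply, pow_succ', mul_smul, ← ih v]
        rfl
  have hσ : σ ^ p ^ 1 = 1 := by
    refine Equiv.ext fun v => Subtype.ext ?_
    rw [pow_one, hpow, hyp, one_smul]; rfl
  haveI := Fintype.ofFinite W
  have hdiv : p ∣ Fintype.card W := by
    have h1 : addOrderOf (⟨w, hw⟩ : W) = p :=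
      addOrderOf_eq_prime (Subtype.ext (hp w)) fun h => hw0 (congrArg Subtype.val h)
    rw [← h1]; exact addOrderOf_dvd_card
  obtain ⟨v, hv, hv0⟩ :=
    Equiv.Perm.exists_fixed_point_of_prime' hdiv hσ (a := 0) (Subtype.ext (smul_zero y))
  refine hv0 (Subtype.ext (h (v : V) ?_))
  intro x hx a ha
  rcases List.mem_append.1 hx with hx | hx
  · exact v.2 x hx a ha
  · rw [List.mem_singleton.1 hx] at ha ⊢
    rw [one_nsmul, imgL_injective (ha.trans hy.symm)]
    exact congrArg Subtype.val hv

end Module

end CfsgLib.SolvCent
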