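import Cfsg.Agent.Lib.SolvCent.Perms
import Mathlib.Data.Nat.ModEq
import Mathlib.Tactic.Abel

/-!
# A checker for certificates that a monomial permutation module has no admissible quotient
-/

set_option autoImplicit false

namespace CfsgLib.SolvCent

/-- A derivation step: the image of a vector known to vanish, or a new vanishing vector: one fixed, modulo the
vanishing ones, by a conjugate of one of the hypothesis lists. -/
inductive Step
  | img (t k : ℕ)
  | fix (w : List (ℕ × ℕ)) (si h : ℕ) (data : List (ℕ × List (ℕ × ℕ)))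

/-- The certificate data. -/
structure Cert where
  els : List (ℕ × ℕ)
  stab : List (ℕ × ℕ)
  reps : List ℕ
  tabs : List (ℕ × List (ℕ × ℕ))
  steps : List Step
  fin : List (ℕ × ℕ)
  i0 : ℕ
  c0 : ℕ

/-- The known eigen-elements: closure of the given list under the listed products. -/
def buildStab (p n : ℕ) : List (ℕ × ℕ) → List (List ℕ × ℕ) → List (List ℕ × ℕ)
  | [], acc => acc
  | (a, b) :: r, acc =>
      buildStab p n r (acc ++ [(comp (acc.getD a (List.range n, 1)).1 (acc.getD b (List.range n, 1)).1,
        (acc.getD a (List.range n, 1)).2 * (acc.getD b (List.range n, 1)).2 % p)])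

/-- Add `c` at position `i` of a dense vector. -/
def addAt : List ℕ → ℕ → ℕ → List ℕ
  | [], 0, c => [c]
  | [], i + 1, c => 0 :: addAt [] i c
  | d :: r, 0, c => (d + c) :: r
  | d :: r, i + 1, c => d :: addAt r i c

/-- Dense form of a sparse vector. -/
def dense : List (ℕ × ℕ) → List ℕ
  | [] => []
  | (i, c) :: r => addAt (dense r) i c

/-- The sparse vector vanishes modulo `p`. -/
def isZ (p : ℕ) (w : List (ℕ × ℕ)) : Bool := (dense w).all fun d => d % p == 0

/-- Scalar multiple. -/
def scale (c : ℕ) (w : List (ℕ × ℕ)) : List (ℕ × ℕ) := w.map fun x => (x.1, c * x.2)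

/-- A linear combination of the listed vectors. -/
def comb (Z : List (List (ℕ × ℕ))) : List (ℕ × ℕ) → List (ℕ × ℕ)
  | [] => []
  | (c, k) :: r => scale c (Z.getD k []) ++ comb Z r

/-- Image of a vector by a table. -/
def imgV (p : ℕ) (Qs : List (List ℕ × ℕ)) (n : ℕ) (t : List (ℕ × ℕ)) (w : List (ℕ × ℕ)) : List (ℕ × ℕ) :=
  w.map fun x => ((t.getD x.1 (0, 0)).1, x.2 * (Qs.getD (t.getD x.1 (0, 0)).2 (List.range n, 1)).2 % p)

/-- All indices are in range. -/
def inb (N : ℕ) (w : List (ℕ × ℕ)) : Bool := w.all fun x => decide (x.1 < N)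

section Defs

variable (p n : ℕ) (E : List (List ℕ)) (R : List ℕ) (Qs : List (List ℕ × ℕ))

/-- The element list entry. -/
def el (i : ℕ) : List ℕ := E.getD i (List.range n)

/-- Check of the rows of a table from row `i` on. -/
def rowsOK (x : ℕ) : ℕ → List (ℕ × ℕ) → Bool
  | _, [] => true
  | i, (j, q) :: r =>
      (comp (el n E x) (el n E (R.getD i 0)) ==
        comp (el n E (R.getD j 0)) (Qs.getD q (List.range n, 1)).1) && decide (j < R.length) && rowsOK x (i + 1) r

/-- Check of a table. -/
def tabOK (t : ℕ × List (ℕ × ℕ)) : Bool :=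
  decide (t.2.length = R.length) && rowsOK n E R Qs t.1 0 t.2

variable (T : List (ℕ × List (ℕ × ℕ))) (HS : List (List (List ℕ × ℕ)))

/-- Check of the generators of a hypothesis list against the witnesses. -/
def fixOK (Z : List (List (ℕ × ℕ))) (w : List (ℕ × ℕ)) (h : ℕ) :
    List (List ℕ × ℕ) → List (ℕ × List (ℕ × ℕ)) → Bool
  | [], _ => true
  | _ :: _, [] => false
  | (l, s) :: S, (ti, cb) :: D =>
      decide (ti < T.length) &&
        (comp (el n E (T.getD ti (0, [])).1) (el n E h) == comp (el n E h) l) &&
        isZ p (imgV p Qs n (T.getD ti (0, [])).2 w ++ (scale (p - s % p) w ++ comb Z cb)) && fixOK Z w h S D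

/-- Check of one step, returning the new list of vanishing vectors. -/
def stepOK (Z : List (List (ℕ × ℕ))) : Step → Option (List (List (ℕ × ℕ)))
  | .img t k => if t < T.length then some (Z ++ [imgV p Qs n (T.getD t (0, [])).2 (Z.getD k [])]) else none
  | .fix w si h D =>
      if inb R.length w && decide (si < HS.length) && fixOK p n E Qs T Z w h (HS.getD si []) D then
        some (Z ++ [w]) else none

/-- Check of all steps. -/
def stepsOK : List Step → List (List (ℕ × ℕ)) → Option (List (List (ℕ × ℕ)))
  | [], Z => some Z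
  | s :: r, Z =>
      match stepOK p n E R Qs T HS Z s with
      | none => none
      | some Z' => stepsOK r Z'

end Defs

/-- The whole check. -/
def check (p n : ℕ) (gens : List (List ℕ)) (Q0 : List (List ℕ × ℕ)) (HS : List (List (List ℕ × ℕ)))
    (C : Cert) : Bool :=
  let E := buildEls n gens C.els [List.range n]
  let Qs := buildStab p n C.stab ((List.range n, 1) :: Q0)
  (C.tabs.all (tabOK n E C.reps Qs)) && (el n E (C.reps.getD C.i0 0) == List.range n) &&
    decide (C.c0 % p ≠ 0) &&
    match stepsOK p n E C.reps Qs C.tabs HS C.steps [] with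
    | none => false
    | some Z => isZ p ((C.i0, C.c0) :: comb Z C.fin)

end CfsgLib.SolvCent
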