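import Cfsg.Agent.Lib.SolvCent.Check

/-!
# Certificate for modules of A10 in characteristic 5

The checker of `Check.lean` evaluated by the kernel on explicit data.
-/

set_option autoImplicit false

namespace CfsgLib.SolvCent

/-- Generators. -/
def fourFourGens : List (List ℕ) :=
  [[1, 2, 3, 4, 0, 5, 6, 7, 8, 9],
   [1, 2, 0, 3, 4, 5, 6, 7, 8, 9],
   [0, 1, 2, 3, 4, 6, 7, 8, 9, 5],
   [0, 1, 2, 3, 4, 6, 7, 5, 8, 9]]

/-- The list to be killed. -/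
def fourFourTarget : List (List ℕ × ℕ) :=
  [([1, 2, 0, 3, 4, 5, 6, 7, 8, 9], 1), ([1, 0, 3, 2, 4, 5, 6, 7, 8, 9], 1), ([0, 1, 2, 3, 4, 6, 7, 5, 8, 9], 1), ([0, 1, 2, 3, 4, 6, 5, 8, 7, 9], 1)]

/-- The hypothesis lists. -/
def fourFourHyps : List (List (List ℕ × ℕ)) :=
  [[([1, 2, 3, 4, 0, 5, 6, 7, 8, 9], 1), ([1, 2, 0, 3, 4, 5, 6, 7, 8, 9], 1)],
   [([0, 1, 2, 3, 4, 6, 7, 8, 9, 5], 1), ([0, 1, 2, 3, 4, 6, 7, 5, 8, 9], 1)],
   [([1, 2, 3, 4, 0, 6, 7, 8, 9, 5], 1), ([1, 2, 0, 3, 4, 6, 7, 5, 8, 9], 1)],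
   [([1, 2, 3, 4, 0, 6, 7, 9, 5, 8], 1), ([1, 2, 0, 3, 4, 6, 7, 5, 8, 9], 1)]]

/-- The certificate. -/
def fourFourCert : Cert where
  els := [
    (0, 0), (1, 0), (2, 0), (3, 0), (0, 1), (2, 1), (3, 2), (2, 3), (0, 5), (2, 5), (2, 6), (2, 8), (0, 9),
    (2, 9), (2, 10), (2, 11), (2, 12), (2, 13), (2, 14), (2, 15), (2, 16), (2, 18), (2, 19), (2, 20), (2, 22),
    (2, 23), (2, 25)]
  stab := [
    (1, 1), (2, 1), (3, 1), (4, 1), (1, 2), (3, 2), (4, 2), (3, 3), (4, 3), (3, 4), (2, 5), (3, 5), (4, 5),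
    (1, 6), (3, 6), (4, 6), (3, 7), (4, 7), (3, 8), (1, 9), (2, 9), (3, 9), (4, 9), (3, 10), (4, 10), (3, 11),
    (4, 12), (3, 13), (3, 14), (4, 14), (1, 15), (3, 15), (4, 15), (3, 16), (4, 16), (3, 17), (1, 18),
    (3, 18), (4, 18), (3, 19), (4, 19), (3, 20), (4, 21), (3, 22), (3, 23), (4, 23), (3, 24), (4, 24),
    (3, 25), (4, 25), (3, 26), (4, 26), (3, 27), (4, 28), (3, 29), (3, 30), (4, 30), (3, 31), (3, 32),
    (3, 35), (4, 35), (3, 36), (4, 36), (3, 37), (4, 38), (3, 39), (3, 40), (4, 40), (3, 41), (4, 41),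
    (3, 42), (4, 42), (3, 43), (4, 44), (3, 45), (3, 46), (4, 46), (3, 47), (3, 48), (3, 51), (4, 51),
    (3, 52), (3, 53), (4, 53), (3, 54), (4, 55), (3, 56), (3, 57), (4, 57), (3, 58), (3, 59), (3, 64),
    (4, 64), (3, 65), (4, 66), (3, 67), (3, 68), (4, 68), (3, 69), (3, 70), (3, 73), (4, 73), (3, 74),
    (4, 75), (3, 76), (3, 77), (4, 77), (3, 78), (3, 79), (4, 84), (3, 85), (3, 86), (4, 86), (4, 87),
    (3, 88), (3, 89), (4, 89), (3, 90), (3, 91), (4, 96), (3, 97), (3, 98), (4, 98), (3, 99), (3, 100),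
    (4, 105), (3, 106), (3, 107), (4, 107), (3, 108), (3, 109), (3, 114), (3, 115), (3, 118), (3, 119),
    (3, 124), (3, 125), (3, 130), (3, 131)]
  reps := [
    0, 1, 3, 5, 6, 8, 9, 10, 11, 12, 13, 14, 15, 16, 17, 18, 19, 20, 21, 22, 23, 24, 25, 26, 27]
  tabs := [
    (1, [
      (1, 0), (3, 0), (4, 0), (6, 0), (7, 0), (8, 0), (10, 0), (11, 0), (12, 0), (13, 0), (0, 0), (15, 0),
      (16, 0), (17, 0), (18, 0), (2, 0), (19, 0), (20, 0), (21, 0), (5, 0), (22, 0), (23, 0), (9, 0), (24, 0),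
      (14, 0)]),
    (2, [
      (0, 1), (3, 6), (2, 1), (6, 5), (7, 6), (5, 1), (1, 41), (11, 5), (12, 6), (9, 1), (10, 24), (4, 41),
      (16, 5), (17, 6), (14, 1), (15, 24), (8, 41), (20, 5), (21, 6), (19, 24), (13, 41), (23, 5), (22, 24),
      (18, 41), (24, 24)]),
    (3, [
      (2, 0), (4, 0), (5, 0), (7, 0), (8, 0), (9, 0), (11, 0), (12, 0), (13, 0), (14, 0), (15, 0), (16, 0),
      (17, 0), (18, 0), (0, 0), (19, 0), (20, 0), (21, 0), (1, 0), (22, 0), (23, 0), (3, 0), (24, 0), (6, 0),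
      (10, 0)]),
    (4, [
      (0, 3), (1, 3), (5, 13), (3, 3), (8, 13), (9, 12), (6, 3), (12, 13), (13, 12), (2, 63), (10, 3),
      (16, 13), (17, 12), (4, 63), (14, 33), (19, 13), (20, 12), (7, 63), (18, 33), (22, 12), (11, 63),
      (21, 33), (15, 63), (23, 33), (24, 33)]),
    (6, [
      (4, 0), (7, 0), (8, 0), (11, 0), (12, 0), (13, 0), (15, 0), (16, 0), (17, 0), (18, 0), (2, 0), (19, 0),
      (20, 0), (21, 0), (1, 0), (5, 0), (22, 0), (23, 0), (3, 0), (9, 0), (24, 0), (6, 0), (14, 0), (10, 0),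
      (0, 0)]),
    (7, [
      (0, 7), (3, 19), (5, 22), (6, 16), (12, 45), (9, 21), (1, 73), (16, 39), (17, 44), (2, 83), (10, 51),
      (8, 106), (20, 38), (7, 113), (14, 49), (19, 85), (13, 105), (11, 104), (21, 80), (22, 84), (4, 143),
      (23, 71), (15, 137), (18, 132), (24, 116)])]
  steps := [
    .fix [
      (0, 1), (1, 1), (3, 1), (6, 1), (10, 1)] 0 0 [(0, [
]), (1, [
])],
    .img 2 0,
    .img 2 1,
    .img 2 2,
    .img 2 3,
    .fix [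
      (0, 1), (2, 1), (5, 1), (9, 1), (14, 1)] 1 0 [(2, [
]), (3, [
])],
    .img 0 5,
    .img 0 6,
    .img 0 7,
    .fix [
      (0, 1), (1, 3), (2, 3), (3, 3), (4, 1), (5, 3), (6, 3), (7, 3), (8, 3), (9, 3), (11, 3), (12, 1),
      (13, 3), (16, 3), (17, 3), (20, 1)] 2 0 [(4, [
      (1, 5), (2, 1), (2, 2), (2, 3), (3, 6), (3, 7), (3, 8), (4, 4)]), (5, [
])],
    .img 0 9,
    .img 1 9,
    .img 3 9,
    .img 3 10,
    .img 0 11,
    .img 2 11,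
    .fix [
      (0, 4), (2, 1)] 0 0 [(0, [
      (1, 9), (2, 15), (3, 0), (3, 6), (3, 10), (3, 11), (3, 12), (3, 13), (3, 14), (4, 1), (4, 2), (4, 3),
      (4, 5), (4, 7), (4, 8)]), (1, [
])],
    .fix [
      (0, 1)] 1 0 [(2, [
      (4, 16)]), (3, [
])]]
  fin := [
    (4, 17)]
  i0 := 0
  c0 := 1

set_option maxRecDepth 100000 in
theorem fourFourCheck : check 5 10 fourFourGens fourFourTarget fourFourHyps fourFourCert = true := by
  decide +kernel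

end CfsgLib.SolvCent
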