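import Cfsg.Agent.Lib.SolvCent.Check

/-!
# Certificate for modules of A10 in characteristic 5

The checker of `Check.lean` evaluated by the kernel on explicit data.
-/

set_option autoImplicit false

namespace CfsgLib.SolvCent

/-- Generators. -/
def fourTenGens : List (List ℕ) :=
  [[1, 2, 3, 4, 0, 5, 6, 7, 8, 9],
   [1, 2, 0, 3, 4, 5, 6, 7, 8, 9],
   [0, 1, 2, 3, 4, 6, 7, 8, 9, 5],
   [0, 1, 2, 3, 4, 6, 7, 5, 8, 9]]

/-- The list to be killed. -/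
def fourTenTarget : List (List ℕ × ℕ) :=
  [([1, 2, 0, 3, 4, 5, 6, 7, 8, 9], 1), ([1, 0, 3, 2, 4, 5, 6, 7, 8, 9], 1), ([0, 1, 2, 3, 4, 6, 7, 8, 9, 5], 1), ([0, 1, 2, 3, 4, 5, 9, 8, 7, 6], 4)]

/-- The hypothesis lists. -/
def fourTenHyps : List (List (List ℕ × ℕ)) :=
  [[([1, 2, 3, 4, 0, 5, 6, 7, 8, 9], 1), ([1, 2, 0, 3, 4, 5, 6, 7, 8, 9], 1)],
   [([0, 1, 2, 3, 4, 6, 7, 8, 9, 5], 1), ([0, 1, 2, 3, 4, 6, 7, 5, 8, 9], 1)],
   [([1, 2, 3, 4, 0, 6, 7, 8, 9, 5], 1), ([1, 2, 0, 3, 4, 6, 7, 5, 8, 9], 1)],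
   [([1, 2, 3, 4, 0, 6, 7, 9, 5, 8], 1), ([1, 2, 0, 3, 4, 6, 7, 5, 8, 9], 1)],
   [([1, 2, 0, 3, 4, 5, 6, 7, 8, 9], 1), ([1, 0, 3, 2, 4, 5, 6, 7, 8, 9], 1), ([0, 1, 2, 3, 4, 6, 7, 5, 8, 9], 1), ([0, 1, 2, 3, 4, 6, 5, 8, 7, 9], 1)]]

/-- The certificate. -/
def fourTenCert : Cert where
  els := [
    (0, 0), (1, 0), (2, 0), (3, 0), (0, 1), (2, 1), (3, 1), (3, 2), (2, 4), (3, 4), (0, 5), (3, 5), (2, 7),
    (3, 7), (3, 9), (2, 10), (0, 11), (3, 11), (2, 12), (3, 12), (3, 13), (2, 14), (1, 17), (3, 17), (2, 18),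
    (3, 18), (3, 19), (2, 20), (0, 23), (2, 24), (3, 24), (3, 25), (2, 26), (3, 29), (3, 30), (2, 31)]
  stab := [
    (1, 1), (2, 1), (3, 1), (4, 1), (1, 2), (3, 2), (4, 2), (3, 3), (4, 3), (3, 4), (2, 5), (3, 5), (4, 5),
    (1, 6), (3, 6), (4, 6), (3, 7), (4, 7), (3, 8), (1, 9), (2, 9), (3, 9), (4, 9), (3, 10), (4, 10), (3, 11),
    (3, 12), (4, 12), (3, 14), (4, 14), (1, 15), (3, 15), (4, 15), (3, 16), (4, 16), (3, 17), (1, 18),
    (3, 18), (4, 18), (3, 19), (4, 19), (3, 20), (3, 21), (4, 21), (3, 23), (4, 23), (3, 24), (4, 24),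
    (3, 25), (4, 25), (3, 26), (4, 26), (3, 27), (3, 28), (4, 28), (3, 30), (4, 30), (3, 35), (4, 35),
    (3, 36), (4, 36), (3, 37), (3, 38), (4, 38), (3, 40), (4, 40), (3, 41), (4, 41), (3, 42), (4, 42),
    (3, 43), (3, 44), (4, 44), (3, 46), (4, 46), (3, 51), (4, 51), (3, 52), (3, 53), (4, 53), (3, 54),
    (3, 55), (4, 55), (3, 57), (4, 57), (3, 62), (4, 62), (3, 63), (3, 64), (4, 64), (3, 66), (4, 66),
    (3, 71), (4, 71), (3, 72), (3, 73), (4, 73), (3, 75), (4, 75), (3, 80), (4, 80), (3, 82), (4, 82),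
    (3, 83), (4, 83), (3, 85), (4, 85), (3, 90), (4, 90), (3, 92), (4, 92), (3, 97), (4, 97), (3, 99), (4, 99)]
  reps := [
    0, 1, 4, 5, 7, 9, 10, 11, 12, 13, 14, 15, 16, 17, 18, 19, 20, 21, 22, 24, 25, 26, 27, 28, 30, 31, 32, 33,
    35, 36]
  tabs := [
    (1, [
      (1, 0), (3, 0), (4, 0), (7, 0), (8, 0), (9, 0), (10, 0), (13, 0), (14, 0), (15, 0), (16, 0), (17, 0),
      (18, 0), (0, 0), (19, 0), (20, 0), (21, 0), (22, 0), (23, 0), (2, 0), (24, 0), (25, 0), (26, 0),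
      (27, 0), (5, 0), (6, 0), (28, 0), (29, 0), (11, 0), (12, 0)]),
    (2, [
      (0, 1), (3, 6), (2, 1), (7, 5), (8, 6), (5, 1), (6, 1), (1, 41), (14, 5), (15, 6), (16, 6), (11, 1),
      (12, 1), (13, 24), (4, 41), (20, 5), (21, 5), (22, 6), (23, 6), (19, 24), (9, 41), (10, 41), (26, 5),
      (27, 5), (24, 24), (25, 24), (17, 41), (18, 41), (28, 24), (29, 24)]),
    (4, [
      (2, 0), (4, 0), (6, 0), (8, 0), (10, 0), (11, 0), (0, 0), (14, 0), (16, 0), (17, 0), (1, 0), (12, 14),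
      (5, 14), (19, 0), (21, 0), (22, 0), (3, 0), (18, 14), (9, 14), (25, 0), (26, 0), (7, 0), (23, 14),
      (15, 14), (28, 0), (13, 0), (27, 14), (20, 14), (29, 14), (24, 14)]),
    (3, [
      (0, 3), (1, 3), (5, 0), (3, 3), (9, 0), (6, 31), (12, 0), (7, 3), (15, 0), (10, 31), (18, 0), (2, 4),
      (11, 32), (13, 3), (20, 0), (16, 31), (23, 0), (4, 4), (17, 32), (24, 0), (21, 31), (27, 0), (8, 4),
      (22, 32), (25, 31), (29, 0), (14, 4), (26, 32), (19, 4), (28, 32)]),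
    (6, [
      (1, 3), (3, 3), (9, 0), (7, 3), (15, 0), (10, 31), (18, 0), (13, 3), (20, 0), (16, 31), (23, 0), (4, 4),
      (17, 32), (0, 3), (24, 0), (21, 31), (27, 0), (8, 4), (22, 32), (5, 0), (25, 31), (29, 0), (14, 4),
      (26, 32), (6, 31), (12, 0), (19, 4), (28, 32), (2, 4), (11, 32)]),
    (8, [
      (2, 1), (8, 6), (6, 1), (14, 5), (16, 6), (11, 1), (0, 1), (4, 41), (21, 5), (22, 6), (3, 6), (12, 23),
      (5, 23), (19, 24), (10, 41), (26, 5), (7, 5), (23, 46), (15, 46), (25, 24), (17, 41), (1, 41), (27, 40),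
      (20, 40), (28, 24), (13, 24), (18, 99), (9, 99), (29, 82), (24, 82)]),
    (34, [
      (2, 24), (4, 1), (6, 24), (14, 6), (10, 1), (11, 24), (0, 24), (19, 5), (21, 6), (17, 1), (1, 1),
      (12, 82), (5, 82), (8, 41), (25, 5), (26, 6), (7, 6), (18, 23), (9, 23), (16, 41), (28, 5), (13, 5),
      (27, 46), (20, 46), (22, 41), (3, 41), (29, 40), (24, 40), (23, 99), (15, 99)])]
  steps := [
    .fix [
      (0, 1), (1, 1), (3, 1), (7, 1), (13, 1)] 0 0 [(0, [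
]), (1, [
])],
    .img 2 0,
    .img 3 1,
    .img 2 1,
    .img 2 2,
    .img 3 3,
    .fix [
      (0, 3), (1, 1), (2, 3), (3, 4), (4, 2), (5, 1), (6, 3), (7, 2), (8, 1), (9, 4), (10, 4), (11, 1),
      (12, 4), (14, 4), (15, 3), (16, 2), (17, 2), (18, 2), (20, 2), (21, 1), (22, 4), (23, 3), (26, 3),
      (27, 1)] 2 0 [(4, [
      (1, 2), (1, 4), (3, 0), (3, 1), (3, 3), (4, 5)]), (5, [
])],
    .img 0 6,
    .img 1 6,
    .img 3 6,
    .img 2 6,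
    .img 1 7,
    .img 2 7,
    .img 0 8,
    .img 3 8,
    .fix [
      (0, 2), (1, 4), (2, 1), (3, 4), (4, 1), (9, 1), (14, 3), (15, 3), (20, 1)] 2 1 [(4, [
      (1, 6), (1, 13), (2, 7), (3, 2), (3, 3), (3, 8), (3, 12), (4, 0), (4, 4), (4, 5), (4, 9), (4, 10),
      (4, 14)]), (6, [
      (1, 7), (1, 12), (2, 2), (2, 4), (2, 9), (2, 13), (3, 0), (3, 5), (3, 11), (3, 14), (4, 8), (4, 10)])],
    .img 0 15,
    .img 1 15,
    .img 3 15,
    .img 2 15,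
    .img 1 16,
    .img 0 17,
    .img 3 17,
    .fix [
      (0, 1)] 0 0 [(0, [
      (1, 6), (1, 22), (2, 0), (2, 3), (2, 11), (2, 14), (2, 16), (2, 20), (3, 5), (3, 7), (3, 10), (3, 15),
      (3, 21), (4, 1), (4, 4), (4, 13), (4, 18), (4, 19)]), (1, [
])]]
  fin := [
    (4, 23)]
  i0 := 0
  c0 := 1

set_option maxRecDepth 100000 in
theorem fourTenCheck : check 5 10 fourTenGens fourTenTarget fourTenHyps fourTenCert = true := by
  decide +kernel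

end CfsgLib.SolvCent
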