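import Cfsg.Agent.Lib.SolvCent.Check

/-!
# Certificate for modules of A10 in characteristic 5

The checker of `Check.lean` evaluated by the kernel on explicit data.
-/

set_option autoImplicit false

namespace CfsgLib.SolvCent

/-- Generators. -/
def fourFiveGens : List (List ℕ) :=
  [[1, 2, 0, 3, 4, 5, 6, 7, 8, 9],
   [1, 0, 3, 2, 4, 5, 6, 7, 8, 9],
   [0, 1, 2, 3, 5, 6, 4, 7, 8, 9],
   [0, 1, 2, 3, 4, 6, 7, 8, 9, 5]]

/-- The list to be killed. -/
def fourFiveTarget : List (List ℕ × ℕ) :=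
  [([1, 2, 0, 3, 4, 5, 6, 7, 8, 9], 1), ([1, 0, 3, 2, 4, 5, 6, 7, 8, 9], 1), ([0, 1, 2, 3, 4, 6, 7, 8, 9, 5], 1)]

/-- The hypothesis lists. -/
def fourFiveHyps : List (List (List ℕ × ℕ)) :=
  [[([0, 1, 2, 3, 4, 6, 7, 8, 9, 5], 1), ([0, 1, 2, 3, 4, 6, 7, 5, 8, 9], 1)],
   [([0, 1, 2, 3, 5, 6, 7, 8, 4, 9], 1), ([0, 1, 2, 3, 9, 8, 6, 7, 5, 4], 1)],
   [([1, 2, 0, 3, 4, 5, 6, 7, 8, 9], 1), ([1, 0, 3, 2, 4, 5, 6, 7, 8, 9], 1), ([0, 1, 2, 3, 4, 6, 7, 5, 8, 9], 1), ([0, 1, 2, 3, 4, 6, 5, 8, 7, 9], 1)],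
   [([1, 2, 0, 3, 4, 5, 6, 7, 8, 9], 1), ([1, 0, 3, 2, 4, 5, 6, 7, 8, 9], 1), ([0, 1, 2, 3, 4, 6, 7, 8, 9, 5], 1), ([0, 1, 2, 3, 4, 5, 9, 8, 7, 6], 4)]]

/-- The certificate. -/
def fourFiveCert : Cert where
  els := [
    (0, 0), (1, 0), (2, 0), (3, 0), (2, 3), (3, 3), (2, 4), (3, 4), (3, 5), (2, 6), (3, 6), (2, 7), (3, 8),
    (2, 9), (3, 9), (2, 10), (3, 10), (2, 11), (3, 11), (3, 12), (2, 13), (3, 13), (2, 14), (3, 14), (2, 15),
    (3, 15), (3, 16), (2, 17), (3, 17), (2, 18), (3, 18), (2, 19), (3, 19), (3, 20), (3, 21), (2, 22),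
    (3, 23), (2, 24), (3, 24), (3, 25), (2, 26), (2, 27), (3, 27), (2, 28), (2, 29), (3, 29), (3, 30),
    (2, 31), (3, 31), (3, 32), (2, 33), (2, 34), (2, 35), (3, 36), (3, 37), (2, 38), (3, 38), (3, 39),
    (2, 40), (3, 40), (3, 41), (2, 42), (3, 42), (2, 43), (2, 45), (3, 45), (3, 46), (2, 47), (3, 50),
    (3, 52), (2, 53), (2, 54), (2, 55), (3, 55), (2, 58), (2, 59), (3, 59), (2, 60), (2, 61), (3, 63),
    (2, 64), (3, 64), (3, 65), (2, 66), (2, 70), (3, 71), (3, 73), (2, 74), (3, 74), (2, 75), (3, 76),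
    (3, 78), (2, 79), (2, 84), (2, 86), (2, 87), (3, 88), (3, 94), (2, 96), (2, 98)]
  stab := [
    (1, 1), (2, 1), (3, 1), (1, 2), (3, 2), (3, 3), (2, 4), (3, 4), (1, 5), (3, 5), (3, 6), (1, 7), (2, 7),
    (3, 7), (3, 8), (3, 9), (1, 10), (3, 10), (3, 11), (1, 12), (3, 12), (3, 13), (3, 14), (3, 15), (3, 16),
    (3, 17), (3, 18), (3, 19), (3, 20), (3, 21), (3, 22), (3, 23), (3, 24), (3, 25), (3, 26), (3, 27),
    (3, 28), (3, 29), (3, 30), (3, 32), (3, 33), (3, 34), (3, 35), (3, 36), (3, 37), (3, 39), (3, 40),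
    (3, 41), (3, 43), (3, 44), (3, 46), (3, 47), (3, 49), (3, 50), (3, 52), (3, 54)]
  reps := [
    0, 3, 5, 6, 9, 10, 11, 14, 15, 16, 17, 18, 19, 23, 24, 25, 26, 27, 28, 29, 30, 31, 33, 37, 38, 39, 40, 41,
    42, 43, 44, 45, 46, 47, 48, 49, 51, 55, 56, 57, 58, 59, 60, 61, 62, 63, 64, 65, 66, 67, 68, 73, 74, 75,
    76, 77, 78, 79, 80, 81, 82, 83, 87, 88, 89, 90, 91, 92, 93, 96, 97, 99]
  tabs := [
    (4, [
      (0, 3), (3, 0), (4, 0), (6, 0), (8, 0), (10, 0), (12, 0), (14, 0), (16, 0), (17, 0), (19, 0), (21, 0),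
      (22, 0), (23, 0), (25, 0), (26, 0), (18, 3), (29, 0), (2, 31), (32, 0), (33, 0), (35, 0), (1, 0),
      (37, 0), (39, 0), (40, 0), (42, 0), (43, 0), (45, 0), (24, 3), (7, 19), (48, 0), (49, 0), (27, 0),
      (36, 3), (44, 31), (31, 3), (52, 0), (41, 9), (9, 31), (30, 9), (55, 0), (56, 19), (57, 9), (53, 31),
      (58, 0), (60, 0), (61, 0), (59, 31), (5, 0), (51, 31), (62, 0), (64, 0), (11, 9), (66, 0), (47, 9),
      (67, 0), (20, 19), (65, 3), (34, 31), (54, 31), (38, 3), (63, 31), (70, 0), (13, 0), (68, 3), (69, 9),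
      (15, 9), (28, 19), (46, 31), (50, 9), (71, 31)]),
    (72, [
      (5, 31), (47, 3), (13, 31), (7, 0), (1, 3), (19, 9), (18, 0), (31, 9), (24, 0), (2, 3), (28, 0),
      (43, 31), (34, 0), (9, 0), (21, 19), (60, 31), (41, 0), (11, 0), (57, 31), (0, 31), (44, 0), (50, 0),
      (27, 9), (15, 0), (33, 19), (22, 0), (36, 19), (25, 19), (68, 31), (52, 0), (20, 0), (3, 19), (58, 9),
      (8, 9), (38, 9), (39, 3), (51, 3), (16, 3), (12, 19), (54, 9), (63, 3), (37, 31), (64, 0), (17, 3),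
      (30, 0), (65, 31), (62, 0), (4, 19), (67, 31), (32, 19), (14, 9), (26, 3), (69, 0), (46, 3), (35, 9),
      (48, 19), (70, 0), (6, 3), (49, 0), (40, 31), (23, 3), (42, 9), (53, 31), (59, 0), (61, 19), (71, 3),
      (56, 0), (55, 19), (10, 3), (29, 0), (66, 0), (45, 0)]),
    (3, [
      (1, 0), (2, 0), (0, 0), (5, 0), (7, 0), (9, 0), (11, 0), (13, 0), (15, 0), (3, 0), (18, 0), (20, 0),
      (8, 9), (4, 0), (24, 0), (12, 19), (27, 0), (28, 0), (30, 0), (31, 0), (6, 0), (34, 0), (36, 0),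
      (21, 19), (38, 0), (37, 3), (41, 0), (35, 9), (44, 0), (46, 0), (10, 0), (47, 0), (42, 9), (50, 0),
      (23, 9), (16, 19), (39, 0), (51, 0), (14, 0), (22, 0), (53, 0), (54, 0), (56, 0), (57, 0), (17, 0),
      (52, 0), (59, 0), (19, 0), (58, 9), (55, 0), (60, 3), (25, 31), (63, 0), (65, 0), (26, 0), (64, 0),
      (32, 19), (68, 0), (66, 0), (29, 0), (33, 31), (67, 31), (69, 0), (45, 0), (49, 0), (40, 0), (48, 19),
      (70, 19), (43, 0), (71, 0), (61, 19), (62, 0)]),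
    (69, [
      (18, 19), (57, 9), (6, 19), (67, 0), (21, 9), (55, 19), (24, 0), (50, 9), (5, 3), (48, 3), (42, 31),
      (33, 19), (0, 31), (14, 31), (58, 31), (19, 19), (22, 0), (7, 3), (64, 31), (52, 0), (8, 0), (68, 3),
      (39, 3), (28, 0), (49, 31), (16, 3), (26, 19), (27, 9), (31, 19), (34, 0), (61, 9), (69, 0), (1, 0),
      (65, 31), (10, 9), (25, 19), (54, 19), (41, 0), (32, 9), (35, 0), (2, 0), (36, 3), (47, 31), (53, 19),
      (3, 3), (44, 9), (38, 9), (29, 0), (11, 19), (40, 19), (71, 0), (37, 31), (30, 9), (13, 31), (51, 9),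
      (63, 31), (4, 9), (46, 31), (43, 0), (12, 0), (45, 31), (15, 19), (56, 3), (20, 9), (59, 31), (9, 31),
      (17, 3), (60, 19), (62, 31), (70, 3), (23, 3), (66, 3)]),
    (85, [
      (41, 3), (33, 31), (69, 0), (17, 3), (7, 19), (22, 19), (70, 0), (4, 9), (43, 3), (50, 3), (37, 9),
      (61, 0), (52, 31), (67, 31), (66, 0), (62, 3), (32, 31), (3, 31), (34, 31), (36, 9), (29, 9), (44, 19),
      (5, 9), (31, 3), (40, 31), (65, 19), (28, 19), (49, 19), (26, 9), (20, 19), (57, 19), (23, 31), (16, 3),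
      (1, 3), (18, 3), (71, 3), (19, 19), (10, 19), (55, 19), (58, 3), (24, 3), (0, 31), (60, 9), (8, 31),
      (21, 9), (51, 19), (59, 9), (53, 9), (56, 19), (27, 9), (9, 31), (45, 9), (12, 3), (47, 19), (68, 31),
      (38, 9), (48, 9), (30, 9), (39, 31), (46, 19), (42, 19), (11, 0), (15, 31), (64, 31), (63, 3), (25, 9),
      (14, 0), (13, 3), (54, 3), (2, 0), (6, 0), (35, 31)]),
    (1, [
      (0, 1), (1, 1), (2, 1), (3, 1), (4, 1), (5, 1), (6, 1), (7, 1), (8, 1), (9, 1), (10, 1), (11, 1),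
      (12, 1), (13, 1), (14, 1), (15, 1), (16, 1), (17, 1), (18, 1), (19, 1), (20, 1), (21, 1), (22, 1),
      (23, 1), (24, 1), (25, 1), (26, 1), (27, 1), (28, 1), (29, 1), (30, 1), (31, 1), (32, 1), (33, 1),
      (34, 1), (35, 1), (36, 1), (37, 1), (38, 1), (39, 1), (40, 1), (41, 1), (42, 1), (43, 1), (44, 1),
      (45, 1), (46, 1), (47, 1), (48, 1), (49, 1), (50, 1), (51, 1), (52, 1), (53, 1), (54, 1), (55, 1),
      (56, 1), (57, 1), (58, 1), (59, 1), (60, 1), (61, 1), (62, 1), (63, 1), (64, 1), (65, 1), (66, 1),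
      (67, 1), (68, 1), (69, 1), (70, 1), (71, 1)]),
    (2, [
      (0, 2), (1, 2), (2, 2), (3, 2), (4, 2), (5, 2), (6, 2), (7, 2), (8, 2), (9, 2), (10, 2), (11, 2),
      (12, 2), (13, 2), (14, 2), (15, 2), (16, 2), (17, 2), (18, 2), (19, 2), (20, 2), (21, 2), (22, 2),
      (23, 2), (24, 2), (25, 2), (26, 2), (27, 2), (28, 2), (29, 2), (30, 2), (31, 2), (32, 2), (33, 2),
      (34, 2), (35, 2), (36, 2), (37, 2), (38, 2), (39, 2), (40, 2), (41, 2), (42, 2), (43, 2), (44, 2),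
      (45, 2), (46, 2), (47, 2), (48, 2), (49, 2), (50, 2), (51, 2), (52, 2), (53, 2), (54, 2), (55, 2),
      (56, 2), (57, 2), (58, 2), (59, 2), (60, 2), (61, 2), (62, 2), (63, 2), (64, 2), (65, 2), (66, 2),
      (67, 2), (68, 2), (69, 2), (70, 2), (71, 2)]),
    (95, [
      (28, 19), (17, 19), (44, 19), (42, 19), (15, 31), (32, 3), (21, 19), (8, 31), (7, 3), (56, 19),
      (58, 31), (23, 0), (13, 19), (12, 9), (67, 3), (4, 3), (54, 9), (1, 9), (48, 9), (65, 31), (34, 19),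
      (6, 9), (51, 9), (11, 0), (61, 9), (39, 31), (35, 0), (41, 9), (0, 9), (50, 0), (66, 31), (53, 31),
      (5, 31), (46, 0), (20, 9), (26, 0), (37, 9), (36, 19), (70, 31), (25, 3), (47, 3), (27, 19), (3, 9),
      (63, 31), (2, 9), (68, 3), (33, 0), (40, 31), (18, 19), (71, 31), (29, 0), (22, 19), (57, 3), (31, 3),
      (16, 19), (69, 31), (9, 9), (52, 31), (10, 3), (60, 3), (59, 31), (24, 19), (64, 3), (43, 3), (62, 31),
      (19, 3), (30, 3), (14, 31), (45, 31), (55, 3), (38, 3), (49, 3)]),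
    (100, [
      (71, 31), (66, 3), (51, 19), (54, 3), (50, 31), (45, 3), (60, 9), (23, 19), (70, 9), (31, 31), (28, 3),
      (38, 31), (46, 9), (14, 9), (13, 19), (20, 31), (63, 9), (36, 19), (62, 9), (68, 19), (15, 3), (61, 19),
      (69, 19), (7, 9), (59, 9), (64, 19), (57, 3), (56, 31), (10, 31), (34, 9), (37, 3), (9, 3), (65, 9),
      (67, 31), (29, 19), (47, 19), (17, 9), (30, 31), (11, 3), (48, 19), (52, 19), (53, 9), (43, 31),
      (42, 3), (55, 9), (5, 31), (12, 19), (35, 9), (39, 9), (58, 3), (4, 3), (2, 9), (40, 9), (41, 19),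
      (3, 31), (44, 19), (27, 3), (26, 31), (49, 31), (24, 19), (6, 19), (21, 9), (18, 19), (16, 19), (25, 9),
      (32, 19), (1, 31), (33, 3), (19, 9), (22, 9), (8, 19), (0, 3)])]
  steps := [
    .fix [
      (1, 1), (2, 1), (3, 1), (4, 1), (6, 1), (7, 1), (8, 1), (9, 1), (11, 1), (12, 1), (13, 1), (14, 1),
      (15, 1), (16, 1), (17, 1), (18, 1), (20, 1), (21, 1), (22, 1), (23, 1), (24, 1), (25, 1), (26, 1),
      (27, 1), (29, 1), (30, 1), (31, 1), (33, 1), (34, 1), (35, 1), (36, 1), (37, 1), (38, 1), (39, 1),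
      (40, 1), (41, 1), (42, 1), (43, 1), (44, 1), (46, 1), (47, 1), (48, 1), (50, 1), (51, 1), (52, 1),
      (53, 1), (54, 1), (55, 1), (56, 1), (57, 1), (59, 1), (60, 1), (61, 1), (62, 1), (63, 1), (64, 1),
      (66, 1), (67, 1), (69, 1), (70, 1)] 0 0 [(0, [
]), (1, [
])],
    .img 2 0,
    .img 2 1,
    .img 0 2,
    .img 0 3,
    .fix [
      (0, 1), (5, 1), (10, 1), (19, 1), (28, 1), (32, 1), (45, 1), (49, 1), (58, 1), (65, 1), (68, 1), (71, 1)] 0 0 [(0, [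
]), (1, [
])],
    .fix [
      (3, 1), (4, 1), (7, 1), (11, 1), (13, 1), (17, 1), (20, 1), (23, 4), (24, 4), (26, 4), (27, 4), (28, 4),
      (29, 1), (30, 1), (31, 4), (40, 4), (46, 1), (47, 1), (48, 1), (49, 4), (53, 1), (56, 1), (57, 1),
      (59, 1), (61, 1), (63, 1), (64, 1), (67, 1)] 1 0 [(3, [
      (1, 4), (4, 2)]), (4, [
])],
    .img 2 6,
    .img 0 6,
    .img 2 7,
    .img 2 8,
    .fix [
      (1, 1), (2, 2), (4, 3), (6, 3), (9, 2), (10, 2), (11, 3), (12, 2), (13, 2), (15, 3), (18, 3), (20, 2),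
      (22, 2), (23, 1), (24, 1), (26, 3), (27, 3), (28, 3), (30, 4), (31, 4), (33, 3), (34, 2), (38, 2),
      (40, 4), (42, 1), (43, 1), (46, 3), (48, 2), (49, 3), (51, 2), (55, 3), (56, 1), (57, 4), (58, 2),
      (61, 3), (62, 1)] 2 0 [(5, [
]), (6, [
]), (1, [
      (1, 6), (2, 2), (2, 4), (2, 7), (2, 8), (2, 9), (3, 5), (4, 1), (4, 3)]), (7, [
      (2, 6), (3, 0), (3, 2), (3, 7), (4, 1)])],
    .img 2 11,
    .img 0 11,
    .img 2 12,
    .img 0 12,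
    .img 2 13,
    .img 0 13,
    .img 0 14,
    .img 0 15,
    .img 2 16,
    .img 0 16,
    .img 2 17,
    .img 0 17,
    .img 0 18,
    .img 2 19,
    .img 0 19,
    .img 0 21,
    .img 2 23,
    .img 2 24,
    .fix [
      (1, 1), (4, 1), (7, 4), (8, 4), (9, 4), (10, 4), (11, 1), (15, 1), (17, 1), (22, 4), (23, 1), (40, 1),
      (43, 1), (47, 1), (51, 4), (52, 4), (56, 4), (57, 4), (58, 4), (63, 1)] 2 0 [(5, [
]), (6, [
]), (1, [
      (1, 4), (1, 10), (4, 2), (4, 6)]), (7, [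
])],
    .img 2 30,
    .img 0 30,
    .img 2 31,
    .img 0 31,
    .img 0 32,
    .img 0 33,
    .img 0 34,
    .img 0 35,
    .img 0 37,
    .fix [
      (1, 4), (3, 3), (4, 2), (5, 3), (6, 2), (8, 1), (9, 1), (10, 1), (11, 4), (12, 4), (13, 1), (14, 4),
      (15, 4), (16, 2), (18, 2), (19, 3), (21, 1), (22, 4), (23, 4), (25, 3), (26, 3), (29, 1)] 3 0 [(5, [
]), (6, [
]), (0, [
      (1, 8), (1, 9), (1, 10), (1, 11), (1, 12), (1, 16), (1, 25), (1, 28), (1, 33), (1, 34), (1, 37),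
      (1, 38), (2, 0), (2, 2), (2, 3), (2, 4), (2, 6), (2, 13), (2, 17), (2, 18), (2, 23), (2, 26), (2, 32),
      (3, 1), (3, 19), (3, 22), (3, 30), (4, 24), (4, 31), (4, 35), (4, 36), (4, 39)]), (8, [
      (1, 3), (1, 12), (1, 13), (1, 18), (1, 22), (1, 25), (1, 33), (1, 38), (1, 39), (2, 7), (2, 27),
      (2, 31), (3, 2), (3, 4), (3, 8), (3, 9), (3, 10), (3, 15), (3, 17), (3, 21), (3, 24), (3, 35), (3, 37),
      (4, 0), (4, 1), (4, 11), (4, 16), (4, 20), (4, 28), (4, 29), (4, 30), (4, 34), (4, 36)])],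
    .img 2 40,
    .img 2 41,
    .img 0 41,
    .img 0 42,
    .img 2 43,
    .img 2 44,
    .fix [
      (0, 1), (1, 2), (2, 2), (3, 4), (4, 4), (7, 1), (8, 2), (10, 1), (12, 2), (13, 2), (14, 3), (15, 2),
      (16, 3), (17, 3), (18, 3), (19, 3), (22, 1), (23, 3), (24, 1), (25, 4), (26, 3), (27, 4), (30, 1)] 3 0 [(5, [
]), (6, [
]), (0, [
      (1, 9), (1, 11), (1, 13), (1, 19), (1, 27), (1, 30), (1, 35), (1, 38), (2, 17), (2, 21), (2, 23),
      (2, 25), (2, 37), (2, 39), (3, 1), (3, 3), (3, 4), (3, 8), (3, 22), (3, 26), (3, 28), (3, 31), (3, 32),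
      (3, 34), (4, 0), (4, 2), (4, 5), (4, 7), (4, 12), (4, 14), (4, 18), (4, 20), (4, 29)]), (8, [
      (1, 2), (1, 4), (1, 5), (1, 7), (1, 20), (1, 24), (1, 28), (1, 31), (2, 9), (2, 14), (2, 19), (2, 21),
      (2, 22), (2, 34), (2, 36), (3, 0), (3, 12), (3, 13), (3, 15), (3, 17), (3, 18), (3, 26), (3, 29),
      (3, 30), (3, 32), (3, 33), (3, 38), (3, 39), (4, 3), (4, 6), (4, 8), (4, 10), (4, 11), (4, 16), (4, 23),
      (4, 25), (4, 37)])],
    .img 2 47,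
    .img 2 48,
    .img 0 48,
    .img 0 49,
    .img 2 50,
    .img 0 50,
    .img 2 51,
    .img 0 51,
    .img 2 52,
    .img 0 52,
    .img 2 53,
    .img 0 54,
    .img 2 55,
    .fix [
      (0, 4), (1, 4), (2, 3), (3, 3), (4, 4), (5, 1), (6, 4), (8, 3), (9, 3), (10, 3), (11, 2), (12, 4),
      (13, 1), (14, 4), (15, 4), (16, 1), (17, 3), (19, 4), (20, 1), (21, 4), (23, 2), (25, 4), (26, 4),
      (27, 1), (46, 1)] 3 0 [(5, [
]), (6, [
]), (0, [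
      (1, 0), (1, 1), (1, 3), (1, 8), (1, 13), (1, 23), (1, 25), (1, 31), (1, 32), (1, 34), (1, 36), (2, 6),
      (2, 12), (2, 18), (2, 26), (2, 29), (2, 35), (3, 2), (3, 4), (3, 5), (3, 9), (3, 14), (3, 15), (3, 19),
      (3, 37), (4, 10), (4, 20), (4, 30), (4, 33), (4, 38)]), (8, [
      (1, 6), (1, 12), (1, 16), (1, 18), (1, 25), (1, 31), (1, 32), (2, 0), (2, 5), (2, 10), (2, 19), (2, 27),
      (3, 2), (3, 7), (3, 11), (3, 13), (3, 14), (3, 15), (3, 21), (3, 22), (4, 4), (4, 9), (4, 17), (4, 20),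
      (4, 23), (4, 28), (4, 34)])],
    .img 2 61,
    .img 2 62,
    .img 0 62,
    .img 0 63,
    .img 2 64,
    .img 0 64,
    .img 2 65]
  fin := [
    (1, 0), (1, 6), (1, 7), (1, 17), (1, 18), (1, 22), (1, 30), (1, 32), (1, 34), (1, 40), (1, 44), (1, 47),
    (1, 49), (1, 51), (1, 53), (1, 56), (1, 61), (1, 62), (2, 2), (2, 4), (2, 24), (2, 29), (2, 36), (2, 38),
    (2, 41), (2, 45), (2, 48), (2, 50), (2, 52), (2, 54), (2, 58), (2, 60), (2, 68), (3, 8), (3, 9), (3, 10),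
    (3, 11), (3, 15), (3, 25), (3, 26), (3, 27), (3, 31), (3, 33), (3, 35), (3, 42), (3, 43), (3, 46),
    (3, 55), (4, 5), (4, 14), (4, 19), (4, 20), (4, 23), (4, 28), (4, 37), (4, 39), (4, 57), (4, 59), (4, 65),
    (4, 66), (4, 67)]
  i0 := 0
  c0 := 1

set_option maxRecDepth 100000 in
theorem fourFiveCheck : check 5 10 fourFiveGens fourFiveTarget fourFiveHyps fourFiveCert = true := by
  decide +kernel

end CfsgLib.SolvCent
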