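import Cfsg.Agent.Lib.SolvCent.Check

/-!
# Certificate for modules of A10 in characteristic 5

The checker of `Check.lean` evaluated by the kernel on explicit data.
-/

set_option autoImplicit false

namespace CfsgLib.SolvCent

/-- Generators. -/
def kleinSixGens : List (List ℕ) :=
  [[1, 2, 3, 4, 0, 5, 6, 7, 8, 9],
   [1, 2, 0, 3, 4, 5, 6, 7, 8, 9],
   [0, 1, 2, 3, 4, 6, 7, 8, 9, 5],
   [0, 1, 2, 3, 4, 6, 7, 5, 8, 9]]

/-- The list to be killed. -/
def kleinSixTarget : List (List ℕ × ℕ) :=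
  [([1, 0, 3, 2, 4, 5, 6, 7, 8, 9], 1), ([2, 3, 0, 1, 4, 5, 6, 7, 8, 9], 1), ([0, 1, 2, 3, 4, 6, 7, 5, 8, 9], 1), ([0, 1, 2, 3, 4, 6, 5, 7, 9, 8], 1)]

/-- The hypothesis lists. -/
def kleinSixHyps : List (List (List ℕ × ℕ)) :=
  [[([1, 2, 3, 4, 0, 5, 6, 7, 8, 9], 1), ([1, 2, 0, 3, 4, 5, 6, 7, 8, 9], 1)],
   [([0, 1, 2, 3, 4, 6, 7, 8, 9, 5], 1), ([0, 1, 2, 3, 4, 6, 7, 5, 8, 9], 1)],
   [([1, 2, 3, 4, 0, 6, 7, 8, 9, 5], 1), ([1, 2, 0, 3, 4, 6, 7, 5, 8, 9], 1)],
   [([1, 2, 3, 4, 0, 6, 7, 9, 5, 8], 1), ([1, 2, 0, 3, 4, 6, 7, 5, 8, 9], 1)],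
   [([1, 2, 0, 3, 4, 5, 6, 7, 8, 9], 1), ([1, 0, 3, 2, 4, 5, 6, 7, 8, 9], 1)],
   [([0, 1, 2, 3, 4, 6, 7, 5, 8, 9], 1), ([0, 1, 2, 3, 4, 6, 5, 8, 7, 9], 1)]]

/-- The certificate. -/
def kleinSixCert : Cert where
  els := [
    (0, 0), (1, 0), (2, 0), (3, 0), (0, 1), (1, 1), (2, 1), (0, 2), (1, 2), (2, 2), (3, 2), (2, 3), (3, 3),
    (0, 5), (1, 5), (2, 5), (0, 6), (2, 6), (2, 7), (3, 7), (1, 8), (2, 8), (0, 9), (2, 9), (2, 10), (3, 10),
    (2, 12), (2, 13), (3, 13), (0, 14), (2, 14), (0, 15), (2, 15), (2, 16), (3, 16), (0, 17), (2, 17),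
    (2, 18), (3, 18), (2, 19), (2, 20), (3, 20), (2, 21), (2, 22), (3, 22), (2, 23), (2, 24), (3, 24),
    (2, 25), (2, 26), (3, 26), (2, 27), (2, 28), (2, 29), (1, 30), (2, 30), (2, 31), (3, 31), (2, 32),
    (2, 33), (3, 33), (2, 34), (2, 35), (3, 35), (2, 36), (2, 37), (3, 37), (2, 38), (2, 39), (3, 39),
    (2, 40), (2, 41), (2, 42), (2, 43), (3, 43), (2, 44), (2, 45), (3, 45), (2, 46), (3, 46), (2, 47),
    (2, 48), (3, 48), (2, 49), (2, 50), (2, 51), (3, 52), (0, 55), (2, 56), (3, 56), (2, 57), (2, 58),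
    (3, 58), (2, 59), (3, 59), (2, 60), (2, 61), (3, 61), (2, 62), (2, 63), (2, 64), (2, 65), (3, 65),
    (2, 66), (2, 67), (3, 67), (2, 68), (2, 69), (2, 70), (2, 74), (2, 75), (3, 75), (2, 76), (2, 77),
    (2, 78), (2, 79), (2, 80), (3, 80), (2, 81), (2, 82), (2, 83), (2, 87), (1, 88), (2, 89), (2, 90),
    (3, 90), (2, 91), (2, 92), (2, 93), (2, 94), (2, 95), (3, 95), (2, 96), (2, 97), (2, 98), (2, 102),
    (2, 103), (3, 103), (2, 104), (2, 105), (2, 106), (2, 110), (2, 111), (2, 112), (2, 116), (2, 117),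
    (2, 118), (3, 122), (2, 124), (2, 125), (2, 126), (2, 130), (2, 131), (2, 132), (2, 136), (2, 137),
    (2, 138)]
  stab := [
    (2, 1), (3, 1), (4, 1), (3, 2), (4, 2), (3, 3), (4, 3), (3, 4), (3, 5), (4, 5), (3, 6), (4, 6), (3, 7),
    (3, 8), (4, 8), (3, 9), (3, 13), (4, 13), (3, 14)]
  reps := [
    0, 1, 2, 3, 5, 6, 7, 8, 9, 10, 12, 13, 14, 15, 16, 17, 18, 19, 20, 21, 22, 23, 24, 25, 26, 27, 28, 29, 30,
    31, 32, 33, 34, 35, 36, 37, 38, 39, 40, 41, 42, 43, 44, 45, 46, 47, 48, 49, 50, 51, 52, 53, 54, 56, 57,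
    58, 59, 60, 61, 62, 63, 64, 65, 66, 67, 68, 69, 70, 71, 72, 73, 74, 75, 76, 77, 78, 79, 80, 81, 82, 83,
    84, 85, 86, 89, 90, 91, 92, 93, 94, 95, 96, 97, 98, 99, 100, 101, 102, 103, 104, 105, 106, 107, 108, 109,
    110, 111, 112, 113, 114, 115, 116, 117, 118, 119, 120, 121, 124, 125, 126, 127, 128, 129, 130, 131, 132,
    133, 134, 135, 136, 137, 138, 139, 140, 141, 142, 143, 144, 145, 146, 147, 149, 150, 151, 152, 153, 154,
    155, 156, 157]
  tabs := [
    (1, [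
      (1, 0), (4, 0), (7, 0), (6, 0), (12, 0), (15, 0), (14, 0), (5, 2), (21, 0), (20, 0), (17, 0), (18, 0),
      (28, 0), (30, 0), (29, 0), (34, 0), (35, 0), (32, 0), (33, 0), (13, 5), (16, 2), (19, 5), (44, 0),
      (42, 0), (43, 0), (38, 0), (39, 0), (40, 0), (0, 0), (53, 0), (8, 0), (56, 0), (54, 0), (55, 0), (2, 2),
      (62, 0), (63, 0), (64, 0), (59, 0), (60, 0), (61, 0), (31, 5), (36, 2), (37, 2), (41, 5), (76, 0),
      (77, 0), (73, 0), (74, 0), (75, 0), (68, 0), (69, 0), (70, 0), (3, 0), (84, 0), (85, 0), (22, 0),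
      (89, 0), (90, 0), (86, 0), (87, 0), (88, 0), (9, 2), (97, 0), (98, 0), (99, 0), (100, 0), (101, 0),
      (94, 0), (95, 0), (96, 0), (57, 5), (58, 5), (65, 2), (66, 2), (67, 2), (71, 5), (72, 5), (111, 0),
      (112, 0), (113, 0), (108, 0), (109, 0), (110, 0), (10, 0), (11, 0), (117, 0), (118, 0), (119, 0),
      (45, 0), (46, 0), (123, 0), (124, 0), (125, 0), (120, 0), (121, 0), (122, 0), (23, 2), (24, 2),
      (129, 0), (130, 0), (131, 0), (132, 0), (133, 0), (134, 0), (91, 5), (92, 5), (93, 5), (102, 2),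
      (103, 2), (104, 2), (105, 5), (106, 5), (107, 5), (138, 0), (139, 0), (140, 0), (25, 0), (26, 0),
      (27, 0), (141, 0), (142, 0), (143, 0), (78, 0), (79, 0), (80, 0), (144, 0), (145, 0), (146, 0), (47, 2),
      (48, 2), (49, 2), (147, 0), (148, 0), (149, 0), (126, 5), (127, 5), (128, 5), (135, 5), (136, 5),
      (137, 5), (50, 0), (51, 0), (52, 0), (114, 0), (115, 0), (116, 0), (81, 2), (82, 2), (83, 2)]),
    (2, [
      (2, 0), (5, 0), (8, 0), (9, 0), (13, 0), (12, 2), (16, 0), (19, 0), (0, 0), (22, 0), (23, 0), (24, 0),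
      (1, 2), (21, 1), (31, 0), (7, 1), (29, 2), (36, 0), (37, 0), (15, 1), (41, 0), (4, 1), (3, 0), (45, 0),
      (46, 0), (47, 0), (48, 0), (49, 0), (30, 1), (6, 2), (34, 1), (44, 1), (57, 0), (58, 0), (28, 0),
      (20, 1), (54, 2), (55, 2), (65, 0), (66, 0), (67, 0), (35, 1), (71, 0), (72, 0), (14, 1), (10, 0),
      (11, 0), (78, 0), (79, 0), (80, 0), (81, 0), (82, 0), (83, 0), (56, 1), (17, 2), (18, 2), (62, 1),
      (76, 1), (77, 1), (91, 0), (92, 0), (93, 0), (53, 0), (42, 1), (43, 1), (86, 2), (87, 2), (88, 2),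
      (102, 0), (103, 0), (104, 0), (63, 1), (64, 1), (105, 0), (106, 0), (107, 0), (32, 1), (33, 1), (25, 0),
      (26, 0), (27, 0), (114, 0), (115, 0), (116, 0), (89, 1), (90, 1), (38, 2), (39, 2), (40, 2), (97, 1),
      (98, 1), (111, 1), (112, 1), (113, 1), (126, 0), (127, 0), (128, 0), (84, 0), (85, 0), (73, 1), (74, 1),
      (75, 1), (120, 2), (121, 2), (122, 2), (99, 1), (100, 1), (101, 1), (135, 0), (136, 0), (137, 0),
      (59, 1), (60, 1), (61, 1), (50, 0), (51, 0), (52, 0), (123, 1), (124, 1), (125, 1), (68, 2), (69, 2),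
      (70, 2), (129, 1), (130, 1), (131, 1), (138, 1), (139, 1), (140, 1), (117, 0), (118, 0), (119, 0),
      (108, 1), (109, 1), (110, 1), (132, 1), (133, 1), (134, 1), (94, 1), (95, 1), (96, 1), (144, 1),
      (145, 1), (146, 1), (147, 1), (148, 1), (149, 1), (141, 0), (142, 0), (143, 0)]),
    (3, [
      (3, 0), (6, 0), (9, 0), (10, 0), (14, 0), (16, 0), (17, 0), (20, 0), (22, 0), (23, 0), (25, 0), (26, 0),
      (29, 0), (31, 0), (32, 0), (35, 0), (36, 0), (38, 0), (39, 0), (41, 0), (42, 0), (44, 0), (45, 0),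
      (47, 0), (48, 0), (50, 0), (51, 0), (52, 0), (53, 0), (54, 0), (56, 0), (57, 0), (59, 0), (60, 0),
      (62, 0), (63, 0), (65, 0), (66, 0), (68, 0), (69, 0), (70, 0), (71, 0), (73, 0), (74, 0), (76, 0),
      (78, 0), (79, 0), (81, 0), (82, 0), (83, 0), (0, 0), (27, 11), (11, 11), (84, 0), (86, 0), (87, 0),
      (89, 0), (91, 0), (92, 0), (94, 0), (95, 0), (96, 0), (97, 0), (99, 0), (100, 0), (102, 0), (103, 0),
      (104, 0), (1, 0), (40, 11), (18, 11), (105, 0), (106, 0), (108, 0), (109, 0), (110, 0), (111, 0),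
      (112, 0), (114, 0), (115, 0), (116, 0), (2, 0), (49, 11), (24, 11), (117, 0), (118, 0), (120, 0),
      (121, 0), (122, 0), (123, 0), (124, 0), (126, 0), (127, 0), (128, 0), (4, 0), (61, 11), (33, 11),
      (129, 0), (130, 0), (132, 0), (133, 0), (134, 0), (5, 0), (67, 11), (37, 11), (135, 0), (136, 0),
      (137, 0), (7, 0), (75, 11), (43, 11), (138, 0), (139, 0), (140, 0), (8, 0), (80, 11), (46, 11),
      (141, 0), (142, 0), (143, 0), (12, 0), (88, 11), (55, 11), (144, 0), (145, 0), (146, 0), (13, 0),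
      (93, 11), (58, 11), (147, 0), (148, 0), (149, 0), (15, 0), (101, 11), (64, 11), (19, 0), (107, 11),
      (72, 11), (21, 0), (113, 11), (77, 11), (28, 0), (119, 11), (85, 11), (30, 0), (125, 11), (90, 11),
      (34, 0), (131, 11), (98, 11)]),
    (4, [
      (0, 3), (1, 3), (2, 3), (11, 0), (4, 3), (5, 3), (18, 0), (7, 3), (8, 3), (24, 0), (25, 10), (27, 0),
      (12, 3), (13, 3), (33, 0), (15, 3), (37, 0), (38, 10), (40, 0), (19, 3), (43, 0), (21, 3), (46, 0),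
      (47, 10), (49, 0), (26, 11), (10, 4), (3, 0), (28, 3), (55, 0), (30, 3), (58, 0), (59, 10), (61, 0),
      (34, 3), (64, 0), (65, 10), (67, 0), (39, 11), (17, 4), (6, 0), (72, 0), (73, 10), (75, 0), (77, 0),
      (78, 10), (80, 0), (48, 11), (23, 4), (9, 0), (52, 10), (50, 0), (51, 3), (85, 0), (86, 10), (88, 0),
      (90, 0), (91, 10), (93, 0), (60, 11), (32, 4), (14, 0), (98, 0), (99, 10), (101, 0), (66, 11), (36, 4),
      (16, 0), (70, 10), (68, 0), (69, 3), (105, 10), (107, 0), (74, 11), (42, 4), (20, 0), (111, 10),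
      (113, 0), (79, 11), (45, 4), (22, 0), (83, 10), (81, 0), (82, 3), (117, 10), (119, 0), (87, 11),
      (54, 4), (29, 0), (123, 10), (125, 0), (92, 11), (57, 4), (31, 0), (96, 10), (94, 0), (95, 3),
      (129, 10), (131, 0), (100, 11), (63, 4), (35, 0), (104, 10), (102, 0), (103, 3), (106, 11), (71, 4),
      (41, 0), (110, 10), (108, 0), (109, 3), (112, 11), (76, 4), (44, 0), (116, 10), (114, 0), (115, 3),
      (118, 11), (84, 4), (53, 0), (122, 10), (120, 0), (121, 3), (124, 11), (89, 4), (56, 0), (128, 10),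
      (126, 0), (127, 3), (130, 11), (97, 4), (62, 0), (134, 10), (132, 0), (133, 3), (137, 10), (135, 0),
      (136, 3), (140, 10), (138, 0), (139, 3), (143, 10), (141, 0), (142, 3), (146, 10), (144, 0), (145, 3),
      (149, 10), (147, 0), (148, 3)]),
    (7, [
      (6, 0), (14, 0), (20, 0), (17, 0), (29, 0), (35, 0), (32, 0), (16, 2), (44, 0), (42, 0), (38, 0),
      (39, 0), (53, 0), (56, 0), (54, 0), (62, 0), (63, 0), (59, 0), (60, 0), (31, 5), (36, 2), (41, 5),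
      (76, 0), (73, 0), (74, 0), (68, 0), (69, 0), (70, 0), (3, 0), (84, 0), (22, 0), (89, 0), (86, 0),
      (87, 0), (9, 2), (97, 0), (99, 0), (100, 0), (94, 0), (95, 0), (96, 0), (57, 5), (65, 2), (66, 2),
      (71, 5), (111, 0), (112, 0), (108, 0), (109, 0), (110, 0), (1, 0), (40, 11), (18, 11), (10, 0),
      (117, 0), (118, 0), (45, 0), (123, 0), (124, 0), (120, 0), (121, 0), (122, 0), (23, 2), (129, 0),
      (130, 0), (132, 0), (133, 0), (134, 0), (4, 0), (61, 11), (33, 11), (91, 5), (92, 5), (102, 2),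
      (103, 2), (104, 2), (105, 5), (106, 5), (138, 0), (139, 0), (140, 0), (7, 0), (75, 11), (43, 11),
      (25, 0), (26, 0), (141, 0), (142, 0), (143, 0), (78, 0), (79, 0), (144, 0), (145, 0), (146, 0), (12, 0),
      (88, 11), (55, 11), (47, 2), (48, 2), (147, 0), (148, 0), (149, 0), (15, 0), (101, 11), (64, 11),
      (126, 5), (127, 5), (128, 5), (5, 2), (67, 19), (37, 19), (135, 5), (136, 5), (137, 5), (21, 0),
      (113, 11), (77, 11), (50, 0), (51, 0), (52, 0), (28, 0), (119, 11), (85, 11), (114, 0), (115, 0),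
      (116, 0), (30, 0), (125, 11), (90, 11), (81, 2), (82, 2), (83, 2), (34, 0), (131, 11), (98, 11),
      (13, 5), (93, 22), (58, 22), (19, 5), (107, 22), (72, 22), (0, 0), (27, 11), (11, 11), (8, 0), (80, 11),
      (46, 11), (2, 2), (49, 19), (24, 19)]),
    (11, [
      (2, 3), (5, 3), (8, 3), (24, 0), (13, 3), (12, 8), (37, 0), (19, 3), (0, 3), (46, 0), (47, 10), (49, 0),
      (1, 8), (21, 6), (58, 0), (7, 6), (55, 2), (65, 10), (67, 0), (15, 6), (72, 0), (4, 6), (11, 0),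
      (78, 10), (80, 0), (48, 11), (23, 4), (9, 0), (30, 6), (18, 2), (34, 6), (77, 1), (91, 10), (93, 0),
      (28, 3), (43, 1), (86, 18), (88, 2), (66, 11), (36, 4), (16, 0), (64, 1), (105, 10), (107, 0), (33, 1),
      (25, 10), (27, 0), (79, 11), (45, 4), (22, 0), (83, 10), (81, 0), (82, 3), (90, 1), (38, 18), (40, 2),
      (98, 1), (111, 15), (113, 1), (92, 11), (57, 4), (31, 0), (85, 0), (73, 15), (75, 1), (87, 19), (54, 9),
      (29, 2), (104, 10), (102, 0), (103, 3), (99, 15), (101, 1), (106, 11), (71, 4), (41, 0), (59, 15),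
      (61, 1), (26, 11), (10, 4), (3, 0), (116, 10), (114, 0), (115, 3), (123, 15), (125, 1), (39, 19),
      (17, 9), (6, 2), (129, 15), (131, 1), (112, 16), (76, 7), (44, 1), (128, 10), (126, 0), (127, 3),
      (117, 10), (119, 0), (74, 16), (42, 7), (20, 1), (122, 18), (120, 2), (121, 8), (100, 16), (63, 7),
      (35, 1), (137, 10), (135, 0), (136, 3), (60, 16), (32, 7), (14, 1), (52, 10), (50, 0), (51, 3),
      (124, 16), (89, 7), (56, 1), (70, 18), (68, 2), (69, 8), (130, 16), (97, 7), (62, 1), (140, 15),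
      (138, 1), (139, 6), (118, 11), (84, 4), (53, 0), (110, 15), (108, 1), (109, 6), (134, 15), (132, 1),
      (133, 6), (96, 15), (94, 1), (95, 6), (146, 15), (144, 1), (145, 6), (149, 15), (147, 1), (148, 6),
      (143, 10), (141, 0), (142, 3)]),
    (123, [
      (0, 1), (19, 0), (2, 2), (3, 1), (7, 1), (21, 0), (41, 0), (4, 1), (8, 5), (9, 2), (10, 1), (11, 1),
      (34, 1), (28, 2), (20, 1), (30, 5), (44, 0), (71, 0), (72, 0), (1, 0), (14, 1), (5, 0), (22, 5),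
      (23, 2), (24, 2), (25, 1), (26, 1), (27, 1), (13, 2), (62, 1), (15, 5), (53, 2), (42, 1), (43, 1),
      (12, 1), (56, 5), (76, 0), (77, 0), (105, 0), (106, 0), (107, 0), (6, 0), (32, 1), (33, 1), (16, 0),
      (45, 5), (46, 5), (47, 2), (48, 2), (49, 2), (50, 1), (51, 1), (52, 1), (31, 2), (97, 1), (98, 1),
      (35, 5), (84, 2), (85, 2), (73, 1), (74, 1), (75, 1), (29, 1), (89, 5), (90, 5), (111, 0), (112, 0),
      (113, 0), (135, 0), (136, 0), (137, 0), (17, 0), (18, 0), (59, 1), (60, 1), (61, 1), (36, 0), (37, 0),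
      (78, 5), (79, 5), (80, 5), (81, 2), (82, 2), (83, 2), (57, 2), (58, 2), (129, 1), (130, 1), (131, 1),
      (63, 5), (64, 5), (117, 2), (118, 2), (119, 2), (108, 1), (109, 1), (110, 1), (54, 1), (55, 1),
      (123, 5), (124, 5), (125, 5), (138, 0), (139, 0), (140, 0), (38, 0), (39, 0), (40, 0), (94, 1), (95, 1),
      (96, 1), (65, 0), (66, 0), (67, 0), (114, 5), (115, 5), (116, 5), (91, 2), (92, 2), (93, 2), (147, 1),
      (148, 1), (149, 1), (99, 5), (100, 5), (101, 5), (141, 2), (142, 2), (143, 2), (86, 1), (87, 1),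
      (88, 1), (144, 5), (145, 5), (146, 5), (68, 0), (69, 0), (70, 0), (102, 0), (103, 0), (104, 0),
      (126, 2), (127, 2), (128, 2), (132, 5), (133, 5), (134, 5), (120, 1), (121, 1), (122, 1)]),
    (148, [
      (27, 4), (40, 4), (49, 4), (11, 3), (61, 4), (67, 4), (18, 3), (75, 4), (80, 4), (24, 3), (10, 4),
      (3, 10), (88, 4), (93, 4), (33, 3), (101, 4), (37, 3), (17, 4), (6, 10), (107, 4), (43, 3), (113, 4),
      (46, 3), (23, 4), (9, 10), (52, 3), (51, 3), (0, 4), (119, 4), (55, 3), (125, 4), (58, 3), (32, 4),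
      (14, 10), (131, 4), (64, 3), (36, 4), (16, 10), (70, 3), (69, 3), (1, 4), (72, 3), (42, 4), (20, 10),
      (77, 3), (45, 4), (22, 10), (83, 3), (82, 3), (2, 4), (50, 11), (26, 10), (25, 10), (85, 3), (54, 4),
      (29, 10), (90, 3), (57, 4), (31, 10), (96, 3), (95, 3), (4, 4), (98, 3), (63, 4), (35, 10), (104, 3),
      (103, 3), (5, 4), (68, 11), (39, 10), (38, 10), (71, 4), (41, 10), (110, 3), (109, 3), (7, 4), (76, 4),
      (44, 10), (116, 3), (115, 3), (8, 4), (81, 11), (48, 10), (47, 10), (84, 4), (53, 10), (122, 3),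
      (121, 3), (12, 4), (89, 4), (56, 10), (128, 3), (127, 3), (13, 4), (94, 11), (60, 10), (59, 10),
      (97, 4), (62, 10), (134, 3), (133, 3), (15, 4), (102, 11), (66, 10), (65, 10), (137, 3), (136, 3),
      (19, 4), (108, 11), (74, 10), (73, 10), (140, 3), (139, 3), (21, 4), (114, 11), (79, 10), (78, 10),
      (143, 3), (142, 3), (28, 4), (120, 11), (87, 10), (86, 10), (146, 3), (145, 3), (30, 4), (126, 11),
      (92, 10), (91, 10), (149, 3), (148, 3), (34, 4), (132, 11), (100, 10), (99, 10), (135, 11), (106, 10),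
      (105, 10), (138, 11), (112, 10), (111, 10), (141, 11), (118, 10), (117, 10), (144, 11), (124, 10),
      (123, 10), (147, 11), (130, 10), (129, 10)])]
  steps := [
    .fix [
      (0, 1), (1, 1), (2, 1), (4, 1), (5, 1), (7, 1), (8, 1), (12, 1), (13, 1), (15, 1), (19, 1), (21, 1),
      (28, 1), (30, 1), (34, 1)] 0 0 [(0, [
]), (1, [
])],
    .img 2 0,
    .img 2 1,
    .img 3 1,
    .img 2 2,
    .img 2 3,
    .img 3 3,
    .img 2 4,
    .img 2 5,
    .img 2 6,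
    .fix [
      (0, 1), (3, 1), (10, 1), (11, 1), (25, 1), (26, 1), (27, 1), (50, 1), (51, 1), (52, 1)] 1 0 [(2, [
]), (3, [
])],
    .img 0 10,
    .img 1 10,
    .img 0 11,
    .img 1 11,
    .img 0 12,
    .img 1 12,
    .img 0 13,
    .img 1 13,
    .img 0 14,
    .img 1 15,
    .img 0 16,
    .img 0 17,
    .img 0 18,
    .fix [
      (0, 4), (3, 4), (4, 1), (5, 4), (10, 4), (11, 3), (13, 1), (15, 4), (16, 4), (21, 1), (24, 4), (26, 3),
      (27, 4), (29, 1), (33, 4), (35, 4), (36, 4), (37, 3), (39, 4), (41, 1), (43, 4), (45, 1), (46, 4),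
      (50, 4), (51, 4), (55, 4), (56, 1), (57, 1), (58, 4), (63, 4), (64, 4), (65, 4), (66, 3), (68, 1),
      (72, 4), (74, 4), (75, 1), (77, 4), (79, 4), (82, 1), (84, 1), (85, 4), (87, 4), (90, 4), (92, 4),
      (99, 4), (100, 3), (101, 4), (102, 4), (103, 4), (106, 4), (109, 1), (111, 1), (112, 4), (114, 1),
      (118, 4), (119, 1), (121, 1), (123, 1), (124, 4), (132, 4), (133, 4), (135, 1)] 2 0 [(4, [
      (1, 0), (1, 1), (1, 2), (1, 4), (1, 5), (1, 6), (1, 7), (1, 9), (2, 8), (3, 10), (3, 14), (4, 12),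
      (4, 13), (4, 15), (4, 16), (4, 17), (4, 18), (4, 19), (4, 20), (4, 21), (4, 22), (4, 23)]), (5, [
      (1, 2), (1, 6), (1, 12), (1, 15), (1, 17), (4, 3), (4, 5), (4, 10), (4, 14), (4, 19)])],
    .img 0 24,
    .img 1 24,
    .img 2 24,
    .img 3 24,
    .img 0 25,
    .img 1 25,
    .img 3 25,
    .img 0 26,
    .img 2 26,
    .img 2 27,
    .img 3 27,
    .img 2 28,
    .img 1 29,
    .img 3 29,
    .img 0 30,
    .img 1 30,
    .img 3 30,
    .img 2 31,
    .img 0 32,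
    .img 1 32,
    .img 2 32,
    .img 2 33,
    .img 3 33,
    .img 3 35,
    .img 3 36,
    .img 1 37,
    .img 3 37,
    .img 2 38,
    .img 1 39,
    .img 3 39,
    .img 0 40,
    .img 2 41,
    .img 3 42,
    .fix [
      (3, 4), (4, 4), (6, 4), (7, 1), (8, 4), (9, 4), (12, 4), (14, 3), (15, 1), (19, 1), (20, 4), (22, 3),
      (23, 1), (25, 4), (26, 1), (29, 3), (32, 4), (33, 4), (35, 4), (38, 4), (40, 1), (41, 4), (44, 4),
      (45, 4), (46, 4), (47, 4), (51, 1), (53, 4), (54, 4), (56, 4), (59, 3), (60, 4), (63, 1), (65, 4),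
      (69, 1), (77, 1), (78, 4), (79, 4), (80, 4), (81, 1), (85, 1), (86, 3), (87, 4), (88, 4), (89, 1),
      (91, 4), (94, 4), (95, 4), (99, 4), (102, 1), (105, 4), (106, 1), (111, 4), (114, 4), (115, 4),
      (117, 4), (118, 1), (120, 4), (121, 4), (123, 4), (125, 1), (127, 1), (138, 1)] 2 0 [(4, [
      (1, 2), (1, 7), (1, 21), (1, 22), (4, 1), (4, 4), (4, 13), (4, 16)]), (5, [
      (1, 3), (1, 5), (1, 10), (1, 11), (1, 18), (4, 1), (4, 4), (4, 13), (4, 16), (4, 17)])],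
    .img 0 58,
    .img 1 58,
    .img 2 58,
    .img 3 58,
    .img 0 59,
    .img 1 59,
    .img 3 59,
    .img 0 60,
    .img 2 60,
    .img 2 61,
    .img 3 61,
    .img 2 62,
    .img 1 63,
    .img 3 63,
    .img 0 64,
    .img 1 64,
    .img 3 64,
    .img 2 65,
    .img 0 66,
    .img 1 66,
    .img 2 66,
    .img 2 67,
    .img 1 71,
    .img 1 73,
    .fix [
      (0, 1), (2, 1), (8, 1)] 4 0 [(1, [
]), (6, [
])],
    .img 2 83,
    .img 2 84,
    .img 3 84,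
    .img 2 85,
    .img 2 86,
    .img 3 86,
    .img 2 88,
    .fix [
      (3, 1), (10, 4), (11, 1)] 5 0 [(3, [
      (1, 1), (1, 9), (1, 15), (1, 17), (1, 19), (1, 28), (1, 29), (1, 30), (1, 31), (1, 34), (1, 42),
      (1, 49), (1, 57), (1, 65), (1, 66), (1, 68), (1, 75), (1, 78), (2, 5), (2, 8), (2, 16), (2, 25),
      (2, 45), (2, 48), (2, 50), (2, 55), (2, 56), (2, 61), (2, 69), (2, 71), (2, 72), (2, 73), (2, 80),
      (2, 82), (2, 84), (2, 87), (3, 0), (3, 3), (3, 21), (3, 22), (3, 23), (3, 27), (3, 36), (3, 40),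
      (3, 44), (3, 46), (3, 51), (3, 52), (3, 59), (3, 62), (3, 64), (3, 85), (3, 89), (4, 2), (4, 6),
      (4, 10), (4, 13), (4, 14), (4, 18), (4, 26), (4, 35), (4, 38), (4, 41), (4, 43), (4, 47), (4, 54),
      (4, 58), (4, 60), (4, 74), (4, 81)]), (7, [
])],
    .img 2 91,
    .img 2 92,
    .img 2 93]
  fin := [
    (1, 12), (1, 13), (1, 14), (1, 34), (1, 54), (1, 56), (1, 75), (1, 77), (1, 81), (2, 2), (2, 3), (2, 6),
    (2, 10), (2, 16), (2, 18), (2, 21), (2, 24), (2, 25), (2, 32), (2, 46), (2, 59), (2, 67), (2, 69),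
    (2, 78), (3, 0), (3, 1), (3, 11), (3, 26), (3, 33), (3, 40), (3, 42), (3, 43), (3, 45), (3, 50), (3, 53),
    (3, 58), (3, 60), (3, 66), (3, 73), (3, 74), (3, 76), (3, 82), (3, 92), (3, 93), (3, 94), (4, 4), (4, 7),
    (4, 15), (4, 17), (4, 22), (4, 23), (4, 27), (4, 28), (4, 29), (4, 30), (4, 35), (4, 36), (4, 38),
    (4, 39), (4, 41), (4, 44), (4, 47), (4, 52), (4, 55), (4, 57), (4, 62), (4, 63), (4, 64), (4, 70),
    (4, 71), (4, 72), (4, 79), (4, 83), (4, 85), (4, 88), (4, 89), (4, 90)]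
  i0 := 0
  c0 := 1

set_option maxRecDepth 100000 in
theorem kleinSixCheck : check 5 10 kleinSixGens kleinSixTarget kleinSixHyps kleinSixCert = true := by
  decide +kernel

end CfsgLib.SolvCent
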