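import Cfsg.Agent.Lib.SolvCent.Check

/-!
# Certificate for modules of A10 in characteristic 5

The checker of `Check.lean` evaluated by the kernel on explicit data.
-/

set_option autoImplicit false

namespace CfsgLib.SolvCent

/-- Generators. -/
def kleinFiveGens : List (List ℕ) :=
  [[1, 0, 3, 2, 4, 5, 6, 7, 8, 9],
   [2, 3, 0, 1, 4, 5, 6, 7, 8, 9],
   [0, 1, 2, 3, 5, 6, 4, 7, 8, 9],
   [0, 1, 2, 3, 4, 6, 7, 8, 9, 5]]

/-- The list to be killed. -/
def kleinFiveTarget : List (List ℕ × ℕ) :=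
  [([1, 0, 3, 2, 4, 5, 6, 7, 8, 9], 1), ([2, 3, 0, 1, 4, 5, 6, 7, 8, 9], 1), ([0, 1, 2, 3, 4, 6, 7, 8, 9, 5], 1)]

/-- The hypothesis lists. -/
def kleinFiveHyps : List (List (List ℕ × ℕ)) :=
  [[([1, 0, 3, 2, 4, 5, 6, 7, 8, 9], 1), ([2, 3, 0, 1, 4, 5, 6, 7, 8, 9], 1), ([0, 1, 2, 3, 4, 6, 7, 5, 8, 9], 1), ([0, 1, 2, 3, 4, 6, 5, 7, 9, 8], 1)]]

/-- The certificate. -/
def kleinFiveCert : Cert where
  els := [
    (0, 0), (1, 0), (2, 0), (3, 0), (2, 3), (3, 3), (3, 4), (3, 5), (2, 6), (3, 6), (3, 7), (2, 8), (3, 8),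
    (2, 9), (3, 9), (2, 10), (3, 10), (3, 11), (2, 12), (3, 12), (2, 13), (3, 13), (3, 14), (2, 15), (3, 15),
    (2, 16), (3, 16), (3, 17), (2, 18), (3, 19), (2, 20), (3, 20), (3, 21), (2, 22), (2, 23), (3, 23),
    (2, 24), (2, 25), (3, 25), (3, 26), (2, 27), (3, 27), (2, 28), (3, 29), (3, 30), (2, 31), (3, 31),
    (3, 32), (2, 33), (3, 33), (3, 34), (2, 35), (3, 35), (2, 36), (2, 38), (3, 38), (3, 39), (2, 40),
    (2, 44), (2, 45), (3, 45), (2, 48), (2, 49), (3, 49), (2, 50), (2, 51), (3, 53), (2, 54), (3, 54),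
    (3, 55), (3, 60), (2, 61), (3, 61), (2, 62), (3, 63), (3, 65), (2, 66), (3, 67), (2, 71), (3, 72), (2, 79)]
  stab := [
    (2, 1), (3, 1), (3, 2), (3, 3), (3, 4), (3, 5), (3, 6), (3, 7), (3, 8), (3, 9), (3, 10), (3, 11), (3, 12),
    (3, 13), (3, 14), (3, 16)]
  reps := [
    0, 3, 5, 6, 8, 9, 10, 12, 13, 14, 15, 16, 17, 19, 20, 21, 22, 23, 24, 25, 26, 27, 28, 30, 31, 32, 33, 34,
    35, 36, 37, 38, 39, 40, 41, 42, 43, 45, 46, 47, 48, 49, 50, 51, 52, 53, 54, 55, 56, 57, 58, 60, 61, 62,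
    63, 64, 65, 66, 67, 68, 69, 70, 71, 72, 73, 74, 75, 76, 77, 79, 80, 81]
  tabs := [
    (1, [
      (0, 1), (1, 1), (2, 1), (3, 1), (4, 1), (5, 1), (6, 1), (7, 1), (8, 1), (9, 1), (10, 1), (11, 1),
      (12, 1), (13, 1), (14, 1), (15, 1), (16, 1), (17, 1), (18, 1), (19, 1), (20, 1), (21, 1), (22, 1),
      (23, 1), (24, 1), (25, 1), (26, 1), (27, 1), (28, 1), (29, 1), (30, 1), (31, 1), (32, 1), (33, 1),
      (34, 1), (35, 1), (36, 1), (37, 1), (38, 1), (39, 1), (40, 1), (41, 1), (42, 1), (43, 1), (44, 1),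
      (45, 1), (46, 1), (47, 1), (48, 1), (49, 1), (50, 1), (51, 1), (52, 1), (53, 1), (54, 1), (55, 1),
      (56, 1), (57, 1), (58, 1), (59, 1), (60, 1), (61, 1), (62, 1), (63, 1), (64, 1), (65, 1), (66, 1),
      (67, 1), (68, 1), (69, 1), (70, 1), (71, 1)]),
    (2, [
      (0, 2), (1, 2), (2, 2), (3, 2), (4, 2), (5, 2), (6, 2), (7, 2), (8, 2), (9, 2), (10, 2), (11, 2),
      (12, 2), (13, 2), (14, 2), (15, 2), (16, 2), (17, 2), (18, 2), (19, 2), (20, 2), (21, 2), (22, 2),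
      (23, 2), (24, 2), (25, 2), (26, 2), (27, 2), (28, 2), (29, 2), (30, 2), (31, 2), (32, 2), (33, 2),
      (34, 2), (35, 2), (36, 2), (37, 2), (38, 2), (39, 2), (40, 2), (41, 2), (42, 2), (43, 2), (44, 2),
      (45, 2), (46, 2), (47, 2), (48, 2), (49, 2), (50, 2), (51, 2), (52, 2), (53, 2), (54, 2), (55, 2),
      (56, 2), (57, 2), (58, 2), (59, 2), (60, 2), (61, 2), (62, 2), (63, 2), (64, 2), (65, 2), (66, 2),
      (67, 2), (68, 2), (69, 2), (70, 2), (71, 2)]),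
    (59, [
      (5, 15), (47, 3), (13, 15), (7, 0), (1, 3), (19, 7), (18, 0), (31, 7), (24, 0), (2, 3), (28, 0),
      (43, 15), (34, 0), (9, 0), (21, 11), (60, 15), (41, 0), (11, 0), (57, 15), (0, 15), (44, 0), (50, 0),
      (27, 7), (15, 0), (33, 11), (22, 0), (36, 11), (25, 11), (68, 15), (52, 0), (20, 0), (3, 11), (58, 7),
      (8, 7), (38, 7), (39, 3), (51, 3), (16, 3), (12, 11), (54, 7), (63, 3), (37, 15), (64, 0), (17, 3),
      (30, 0), (65, 15), (62, 0), (4, 11), (67, 15), (32, 11), (14, 7), (26, 3), (69, 0), (46, 3), (35, 7),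
      (48, 11), (70, 0), (6, 3), (49, 0), (40, 15), (23, 3), (42, 7), (53, 15), (59, 0), (61, 11), (71, 3),
      (56, 0), (55, 11), (10, 3), (29, 0), (66, 0), (45, 0)]),
    (78, [
      (65, 3), (53, 3), (40, 3), (52, 11), (46, 11), (45, 11), (70, 3), (29, 11), (36, 7), (63, 11), (32, 15),
      (67, 11), (39, 15), (59, 11), (41, 15), (22, 7), (21, 15), (55, 3), (56, 3), (71, 3), (61, 15), (16, 3),
      (15, 11), (27, 15), (26, 15), (60, 7), (24, 3), (23, 3), (49, 3), (7, 7), (42, 3), (69, 3), (10, 3),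
      (51, 0), (35, 11), (34, 7), (8, 11), (50, 0), (54, 15), (12, 3), (2, 15), (14, 3), (30, 15), (48, 0),
      (64, 3), (5, 7), (4, 7), (62, 3), (43, 0), (28, 15), (37, 0), (33, 0), (3, 7), (1, 15), (38, 3),
      (17, 15), (18, 15), (66, 7), (68, 11), (13, 7), (25, 11), (20, 3), (47, 15), (9, 7), (44, 15), (0, 15),
      (57, 11), (11, 7), (58, 7), (31, 15), (6, 15), (19, 15)]),
    (3, [
      (1, 0), (2, 0), (0, 0), (5, 0), (7, 0), (9, 0), (11, 0), (13, 0), (15, 0), (3, 0), (18, 0), (20, 0),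
      (8, 7), (4, 0), (24, 0), (12, 11), (27, 0), (28, 0), (30, 0), (31, 0), (6, 0), (34, 0), (36, 0),
      (21, 11), (38, 0), (37, 3), (41, 0), (35, 7), (44, 0), (46, 0), (10, 0), (47, 0), (42, 7), (50, 0),
      (23, 7), (16, 11), (39, 0), (51, 0), (14, 0), (22, 0), (53, 0), (54, 0), (56, 0), (57, 0), (17, 0),
      (52, 0), (59, 0), (19, 0), (58, 7), (55, 0), (60, 3), (25, 15), (63, 0), (65, 0), (26, 0), (64, 0),
      (32, 11), (68, 0), (66, 0), (29, 0), (33, 15), (67, 15), (69, 0), (45, 0), (49, 0), (40, 0), (48, 11),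
      (70, 11), (43, 0), (71, 0), (61, 11), (62, 0)]),
    (4, [
      (0, 3), (3, 0), (4, 0), (6, 0), (8, 0), (10, 0), (12, 0), (14, 0), (16, 0), (17, 0), (19, 0), (21, 0),
      (22, 0), (23, 0), (25, 0), (26, 0), (18, 3), (29, 0), (2, 15), (32, 0), (33, 0), (35, 0), (1, 0),
      (37, 0), (39, 0), (40, 0), (42, 0), (43, 0), (45, 0), (24, 3), (7, 11), (48, 0), (49, 0), (27, 0),
      (36, 3), (44, 15), (31, 3), (52, 0), (41, 7), (9, 15), (30, 7), (55, 0), (56, 11), (57, 7), (53, 15),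
      (58, 0), (60, 0), (61, 0), (59, 15), (5, 0), (51, 15), (62, 0), (64, 0), (11, 7), (66, 0), (47, 7),
      (67, 0), (20, 11), (65, 3), (34, 15), (54, 15), (38, 3), (63, 15), (70, 0), (13, 0), (68, 3), (69, 7),
      (15, 7), (28, 11), (46, 15), (50, 7), (71, 15)])]
  steps := [
    .fix [
      (14, 1), (16, 1), (21, 1), (37, 1), (41, 1), (50, 1)] 0 0 [(0, [
]), (1, [
]), (2, [
]), (3, [
])],
    .img 4 0,
    .img 5 0,
    .img 4 1,
    .img 5 1,
    .img 4 2,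
    .img 5 2,
    .img 5 3,
    .img 4 4,
    .img 5 4,
    .img 4 5,
    .img 5 5,
    .img 4 6,
    .img 5 6,
    .img 4 7,
    .img 5 7,
    .img 4 8,
    .img 5 8,
    .img 4 9,
    .img 5 9,
    .img 5 10,
    .img 5 11,
    .img 5 12,
    .img 4 13,
    .img 5 14,
    .img 4 15,
    .img 5 15,
    .img 4 17,
    .img 5 17,
    .img 5 19,
    .img 5 21,
    .img 5 23,
    .img 5 25,
    .img 5 27,
    .img 4 28,
    .img 5 28,
    .fix [
      (8, 1), (24, 1), (26, 1), (33, 1), (36, 1), (51, 1)] 0 0 [(0, [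
]), (1, [
]), (2, [
]), (3, [
])],
    .img 4 36,
    .img 5 36,
    .img 4 37,
    .img 5 37,
    .img 4 38,
    .img 5 38,
    .img 5 39,
    .img 4 40,
    .img 5 40,
    .img 4 41,
    .img 4 42,
    .img 5 42,
    .img 4 43,
    .img 4 44,
    .img 4 45,
    .img 5 45,
    .img 5 46,
    .img 5 48,
    .img 4 49,
    .img 5 49]
  fin := [
    (1, 6), (1, 16), (1, 20), (1, 29), (1, 30), (1, 36), (1, 39), (1, 40), (2, 2), (2, 3), (2, 4), (2, 9),
    (2, 13), (2, 15), (2, 17), (2, 27), (2, 32), (2, 47), (2, 50), (2, 51), (2, 55), (2, 56), (3, 7), (3, 12),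
    (3, 14), (3, 18), (3, 19), (3, 23), (3, 24), (3, 26), (3, 28), (3, 34), (3, 37), (3, 38), (3, 43),
    (3, 46), (3, 48), (3, 52), (3, 53), (3, 54), (4, 5), (4, 22), (4, 31), (4, 33), (4, 35), (4, 49)]
  i0 := 0
  c0 := 1

set_option maxRecDepth 100000 in
theorem kleinFiveCheck : check 5 10 kleinFiveGens kleinFiveTarget kleinFiveHyps kleinFiveCert = true := by
  decide +kernel

end CfsgLib.SolvCent
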