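import Cfsg.Agent.Lib.SolvCent.Check

/-!
# Certificate for modules of A10 in characteristic 5

The checker of `Check.lean` evaluated by the kernel on explicit data.
-/

set_option autoImplicit false

namespace CfsgLib.SolvCent

/-- Generators. -/
def fiveFiveGens : List (List ℕ) :=
  [[1, 2, 3, 4, 0, 5, 6, 7, 8, 9],
   [1, 2, 0, 3, 4, 5, 6, 7, 8, 9],
   [0, 1, 2, 3, 4, 6, 7, 8, 9, 5],
   [0, 1, 2, 3, 4, 6, 7, 5, 8, 9]]

/-- The list to be killed. -/
def fiveFiveTarget : List (List ℕ × ℕ) :=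
  [([1, 2, 3, 4, 0, 5, 6, 7, 8, 9], 1), ([0, 1, 2, 3, 4, 6, 7, 8, 9, 5], 1)]

/-- The hypothesis lists. -/
def fiveFiveHyps : List (List (List ℕ × ℕ)) :=
  [[([1, 2, 3, 4, 0, 5, 6, 7, 8, 9], 1), ([1, 2, 0, 3, 4, 5, 6, 7, 8, 9], 1)],
   [([0, 1, 2, 3, 4, 6, 7, 8, 9, 5], 1), ([0, 1, 2, 3, 4, 6, 7, 5, 8, 9], 1)],
   [([1, 2, 3, 4, 0, 6, 7, 8, 9, 5], 1), ([1, 2, 0, 3, 4, 6, 7, 5, 8, 9], 1)],
   [([1, 2, 3, 4, 0, 6, 7, 9, 5, 8], 1), ([1, 2, 0, 3, 4, 6, 7, 5, 8, 9], 1)],
   [([1, 0, 3, 2, 4, 5, 6, 7, 8, 9], 1), ([2, 3, 0, 1, 4, 5, 6, 7, 8, 9], 1)],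
   [([0, 1, 2, 3, 4, 6, 5, 8, 7, 9], 1), ([0, 1, 2, 3, 4, 7, 8, 5, 6, 9], 1)]]

/-- The certificate. -/
def fiveFiveCert : Cert where
  els := [
    (0, 0), (1, 0), (2, 0), (3, 0), (0, 1), (1, 1), (2, 1), (0, 2), (1, 2), (3, 2), (2, 3), (3, 3), (2, 4),
    (3, 4), (0, 5), (1, 6), (1, 8), (3, 8), (0, 9), (3, 9), (2, 10), (3, 10), (2, 11), (3, 12), (3, 13),
    (2, 14), (0, 15), (0, 16), (0, 17), (1, 17), (3, 17), (2, 18), (3, 18), (0, 19), (1, 19), (3, 19),
    (2, 20), (3, 20), (3, 21), (2, 22), (2, 23), (2, 24), (2, 25), (3, 25), (2, 26), (3, 26), (1, 27),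
    (0, 28), (1, 29), (3, 29), (3, 30), (2, 31), (3, 31), (3, 32), (2, 33), (3, 34), (2, 35), (3, 35),
    (2, 36), (3, 36), (3, 37), (2, 38), (2, 39), (3, 39), (2, 40), (3, 40), (3, 41), (2, 42), (3, 43),
    (0, 47), (1, 49), (3, 49), (2, 50), (3, 50), (2, 51), (3, 51), (3, 52), (2, 53), (2, 54), (3, 54),
    (2, 55), (3, 55), (2, 56), (3, 56), (2, 58), (3, 58), (3, 59), (2, 60), (2, 61), (3, 61), (2, 62),
    (3, 62), (3, 63), (2, 67), (3, 69), (1, 70), (3, 70), (3, 71), (2, 72), (3, 72), (3, 73), (2, 74),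
    (3, 75), (2, 76), (2, 77), (3, 77), (2, 78), (3, 78), (3, 79), (3, 83), (2, 84), (3, 85), (2, 86),
    (2, 87), (3, 87), (2, 88), (3, 88), (3, 89), (3, 93), (3, 94), (2, 98), (3, 98), (3, 99), (2, 100),
    (2, 101), (3, 101), (2, 102), (3, 102), (2, 103), (3, 103), (2, 104), (3, 104), (3, 105), (3, 109),
    (2, 110), (3, 110), (2, 111), (3, 111), (2, 112), (3, 112), (2, 113), (3, 113), (3, 114), (3, 118),
    (3, 121), (2, 122), (2, 123), (3, 123), (2, 124), (3, 124), (3, 125), (3, 129), (3, 133), (3, 135),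
    (3, 139), (3, 143), (2, 145), (3, 145), (2, 146), (3, 146), (3, 147), (3, 151), (3, 152), (3, 154),
    (3, 155), (3, 157), (3, 161), (3, 166)]
  stab := [
    (1, 1), (2, 1), (2, 2), (1, 3), (2, 3), (2, 4), (2, 5), (1, 6), (2, 6), (2, 7), (2, 8), (2, 9), (2, 10),
    (2, 11), (2, 12), (2, 13), (2, 15), (2, 16), (2, 17), (2, 19), (2, 20), (2, 22)]
  reps := [
    0, 2, 4, 8, 9, 10, 13, 14, 17, 18, 19, 20, 21, 22, 25, 26, 29, 30, 31, 32, 33, 34, 35, 36, 37, 38, 39, 40,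
    43, 44, 45, 46, 49, 50, 51, 52, 53, 54, 55, 56, 58, 59, 60, 61, 62, 63, 64, 65, 66, 69, 71, 72, 73, 74,
    75, 76, 77, 78, 79, 80, 81, 82, 83, 84, 85, 86, 87, 88, 89, 90, 91, 92, 93, 95, 98, 99, 100, 101, 102,
    103, 104, 105, 106, 107, 108, 109, 110, 111, 112, 113, 114, 115, 116, 117, 118, 119, 121, 122, 123, 124,
    125, 126, 127, 128, 129, 130, 131, 132, 133, 134, 135, 136, 137, 138, 139, 140, 141, 142, 143, 144, 145,
    146, 147, 148, 149, 150, 151, 152, 153, 154, 155, 156, 157, 158, 159, 160, 161, 162, 163, 164, 165, 166,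
    167, 168]
  tabs := [
    (1, [
      (0, 1), (3, 0), (2, 1), (4, 6), (10, 0), (9, 0), (6, 1), (7, 1), (16, 0), (11, 6), (21, 0), (23, 0),
      (19, 0), (20, 0), (14, 1), (15, 1), (22, 1), (8, 3), (33, 0), (24, 6), (25, 6), (1, 3), (32, 1),
      (39, 0), (41, 0), (42, 0), (37, 0), (38, 0), (28, 1), (29, 1), (30, 1), (31, 1), (17, 1), (40, 1),
      (18, 3), (52, 0), (53, 0), (43, 6), (44, 6), (5, 3), (51, 1), (62, 0), (63, 0), (66, 0), (67, 0),
      (58, 0), (59, 0), (60, 0), (61, 0), (49, 1), (50, 10), (34, 1), (64, 1), (65, 1), (35, 3), (36, 3),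
      (77, 0), (78, 0), (68, 6), (69, 6), (70, 6), (71, 6), (12, 3), (13, 3), (75, 1), (76, 1), (86, 0),
      (87, 0), (90, 0), (91, 0), (92, 0), (93, 0), (85, 0), (73, 1), (74, 10), (54, 1), (55, 1), (88, 1),
      (89, 1), (56, 3), (57, 3), (100, 0), (101, 0), (102, 0), (103, 0), (94, 6), (26, 3), (27, 3), (98, 1),
      (99, 1), (110, 0), (111, 0), (112, 0), (113, 0), (118, 0), (109, 0), (96, 10), (97, 10), (79, 1),
      (80, 1), (114, 1), (115, 1), (116, 1), (117, 1), (81, 3), (82, 3), (83, 3), (84, 3), (126, 0), (119, 6),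
      (45, 3), (46, 3), (47, 3), (48, 3), (122, 1), (123, 1), (124, 1), (125, 1), (129, 0), (131, 0),
      (120, 10), (121, 10), (104, 1), (105, 1), (106, 1), (107, 1), (130, 1), (108, 3), (137, 0), (72, 3),
      (136, 1), (139, 0), (132, 10), (133, 10), (134, 10), (135, 10), (127, 1), (140, 1), (128, 3), (95, 3),
      (142, 1), (141, 10), (138, 1), (143, 10)]),
    (2, [
      (1, 0), (4, 0), (5, 0), (8, 0), (0, 0), (11, 0), (12, 0), (13, 0), (17, 0), (18, 0), (22, 0), (2, 0),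
      (24, 0), (25, 0), (26, 0), (27, 0), (32, 0), (3, 0), (34, 0), (35, 0), (36, 0), (10, 6), (21, 3),
      (40, 0), (6, 0), (7, 0), (43, 0), (44, 0), (45, 0), (46, 0), (47, 0), (48, 0), (50, 0), (51, 0), (9, 0),
      (54, 0), (55, 0), (56, 0), (57, 0), (23, 6), (39, 3), (64, 0), (65, 0), (14, 0), (15, 0), (68, 0),
      (69, 0), (70, 0), (71, 0), (72, 0), (16, 0), (74, 0), (75, 0), (76, 0), (19, 0), (20, 0), (79, 0),
      (80, 0), (81, 0), (82, 0), (83, 0), (84, 0), (41, 6), (42, 6), (62, 3), (63, 3), (88, 0), (89, 0),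
      (28, 0), (29, 0), (30, 0), (31, 0), (94, 0), (95, 0), (33, 0), (96, 0), (97, 0), (98, 0), (99, 0),
      (37, 0), (38, 0), (104, 0), (105, 0), (106, 0), (107, 0), (108, 0), (66, 6), (67, 6), (86, 3), (87, 3),
      (114, 0), (115, 0), (116, 0), (117, 0), (49, 0), (119, 0), (52, 0), (53, 0), (120, 0), (121, 0),
      (122, 0), (123, 0), (124, 0), (125, 0), (58, 0), (59, 0), (60, 0), (61, 0), (127, 0), (128, 0), (90, 6),
      (91, 6), (92, 6), (93, 6), (110, 3), (111, 3), (112, 3), (113, 3), (130, 0), (73, 0), (77, 0), (78, 0),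
      (132, 0), (133, 0), (134, 0), (135, 0), (136, 0), (85, 0), (138, 0), (118, 6), (129, 3), (140, 0),
      (100, 0), (101, 0), (102, 0), (103, 0), (141, 0), (142, 0), (109, 0), (131, 6), (139, 3), (126, 0),
      (143, 0), (137, 0)]),
    (4, [
      (2, 0), (5, 0), (7, 0), (9, 0), (11, 0), (13, 0), (14, 0), (0, 0), (18, 0), (20, 0), (23, 0), (25, 0),
      (26, 0), (1, 0), (29, 0), (31, 0), (33, 0), (34, 0), (36, 0), (37, 0), (3, 0), (39, 0), (40, 0),
      (42, 0), (43, 0), (4, 0), (46, 0), (48, 0), (49, 0), (6, 0), (15, 9), (30, 5), (51, 0), (53, 0),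
      (55, 0), (56, 0), (8, 0), (59, 0), (61, 0), (63, 0), (65, 0), (66, 0), (10, 0), (69, 0), (71, 0),
      (72, 0), (12, 0), (27, 9), (47, 5), (73, 0), (74, 0), (76, 0), (77, 0), (16, 0), (79, 0), (17, 0),
      (82, 0), (84, 0), (85, 0), (19, 0), (38, 9), (60, 5), (86, 0), (21, 0), (88, 0), (22, 0), (91, 0),
      (93, 0), (94, 0), (24, 0), (44, 9), (70, 5), (95, 0), (28, 0), (97, 0), (98, 0), (32, 0), (101, 0),
      (103, 0), (105, 0), (107, 0), (108, 0), (35, 0), (57, 9), (83, 5), (109, 0), (111, 0), (113, 0),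
      (115, 0), (117, 0), (118, 0), (41, 0), (67, 9), (92, 5), (119, 0), (45, 0), (120, 0), (50, 0), (123, 0),
      (125, 0), (126, 0), (52, 0), (78, 9), (102, 5), (127, 0), (54, 0), (80, 9), (106, 5), (128, 0), (58, 0),
      (129, 0), (62, 0), (87, 9), (112, 5), (130, 0), (64, 0), (89, 9), (116, 5), (131, 0), (68, 0), (133, 0),
      (135, 0), (136, 0), (75, 0), (99, 9), (124, 5), (137, 0), (138, 0), (81, 0), (139, 0), (140, 0),
      (90, 0), (141, 0), (96, 0), (121, 9), (134, 5), (142, 0), (100, 0), (104, 0), (110, 0), (114, 0),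
      (143, 0), (122, 0), (132, 0)]),
    (3, [
      (0, 2), (1, 2), (6, 0), (3, 2), (4, 2), (12, 0), (7, 9), (15, 0), (8, 2), (19, 0), (10, 2), (24, 0),
      (13, 9), (27, 0), (28, 0), (30, 0), (16, 2), (17, 2), (35, 0), (20, 9), (38, 0), (21, 2), (22, 2),
      (41, 0), (25, 9), (44, 0), (45, 0), (47, 0), (31, 2), (14, 5), (2, 5), (49, 2), (32, 2), (52, 0),
      (54, 0), (36, 9), (57, 0), (58, 0), (60, 0), (62, 0), (64, 0), (42, 9), (67, 0), (68, 0), (70, 0),
      (48, 2), (26, 5), (5, 5), (72, 2), (29, 2), (50, 2), (75, 0), (53, 9), (78, 0), (55, 9), (80, 0),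
      (81, 0), (83, 0), (61, 2), (37, 5), (9, 5), (85, 2), (63, 9), (87, 0), (65, 9), (89, 0), (90, 0),
      (92, 0), (71, 2), (43, 5), (11, 5), (94, 2), (46, 2), (73, 14), (96, 0), (76, 9), (99, 0), (100, 0),
      (102, 0), (104, 0), (106, 0), (84, 2), (56, 5), (18, 5), (108, 2), (59, 2), (110, 0), (112, 0),
      (114, 0), (116, 0), (93, 2), (66, 5), (23, 5), (118, 2), (69, 2), (95, 14), (97, 9), (121, 0), (122, 0),
      (124, 0), (103, 2), (77, 5), (33, 5), (126, 2), (107, 2), (79, 5), (34, 5), (127, 2), (82, 2),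
      (109, 14), (113, 2), (86, 5), (39, 5), (129, 2), (117, 2), (88, 5), (40, 5), (130, 2), (91, 2),
      (119, 14), (132, 0), (134, 0), (125, 2), (98, 5), (51, 5), (136, 2), (101, 2), (105, 2), (128, 14),
      (111, 2), (115, 2), (131, 14), (135, 2), (120, 5), (74, 5), (141, 2), (123, 2), (137, 14), (138, 14),
      (139, 14), (140, 14), (133, 2), (142, 14), (143, 14)]),
    (7, [
      (0, 4), (3, 2), (6, 1), (4, 11), (10, 2), (19, 0), (7, 13), (15, 1), (16, 2), (24, 6), (21, 2), (41, 0),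
      (20, 9), (38, 0), (28, 1), (30, 1), (22, 4), (8, 7), (52, 0), (25, 20), (44, 6), (1, 7), (32, 4),
      (62, 0), (42, 9), (67, 0), (58, 0), (60, 0), (31, 4), (14, 8), (2, 8), (49, 4), (17, 4), (64, 1),
      (35, 3), (53, 9), (78, 0), (68, 6), (70, 6), (12, 3), (75, 1), (63, 9), (87, 0), (90, 0), (92, 0),
      (61, 2), (37, 5), (9, 5), (85, 2), (29, 4), (50, 15), (54, 1), (65, 13), (89, 1), (36, 17), (57, 3),
      (100, 0), (102, 0), (71, 11), (43, 16), (11, 16), (94, 11), (13, 17), (27, 3), (76, 13), (99, 1),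
      (110, 0), (112, 0), (93, 2), (66, 5), (23, 5), (118, 2), (59, 2), (73, 18), (96, 10), (55, 13), (80, 1),
      (114, 1), (116, 1), (81, 3), (83, 3), (103, 2), (77, 5), (33, 5), (126, 2), (69, 11), (45, 3), (47, 3),
      (122, 1), (124, 1), (113, 2), (86, 5), (39, 5), (129, 2), (91, 2), (109, 14), (97, 22), (121, 10),
      (104, 1), (106, 1), (117, 4), (88, 8), (40, 8), (130, 4), (84, 7), (56, 12), (18, 12), (108, 7),
      (101, 2), (119, 23), (48, 7), (26, 12), (5, 12), (72, 7), (125, 4), (98, 8), (51, 8), (136, 4),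
      (111, 2), (131, 14), (132, 10), (134, 10), (107, 4), (79, 8), (34, 8), (127, 4), (115, 4), (82, 7),
      (137, 14), (46, 7), (123, 4), (139, 14), (135, 15), (120, 19), (74, 19), (141, 15), (105, 4), (140, 18),
      (128, 21), (95, 21), (142, 18), (133, 15), (138, 18), (143, 24)]),
    (10, [
      (5, 0), (11, 0), (13, 0), (18, 0), (2, 0), (25, 0), (26, 0), (1, 0), (34, 0), (36, 0), (40, 0), (7, 0),
      (43, 0), (4, 0), (46, 0), (48, 0), (51, 0), (9, 0), (55, 0), (56, 0), (8, 0), (23, 6), (39, 3), (65, 0),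
      (14, 0), (0, 0), (69, 0), (71, 0), (72, 0), (12, 0), (27, 9), (47, 5), (74, 0), (76, 0), (20, 0),
      (79, 0), (17, 0), (82, 0), (84, 0), (42, 6), (63, 3), (88, 0), (22, 0), (29, 0), (31, 0), (94, 0),
      (24, 0), (44, 9), (70, 5), (95, 0), (33, 0), (97, 0), (98, 0), (32, 0), (37, 0), (3, 0), (105, 0),
      (107, 0), (108, 0), (35, 0), (57, 9), (83, 5), (66, 6), (10, 6), (86, 3), (21, 3), (115, 0), (117, 0),
      (49, 0), (6, 0), (15, 9), (30, 5), (119, 0), (45, 0), (53, 0), (120, 0), (50, 0), (123, 0), (125, 0),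
      (59, 0), (61, 0), (127, 0), (54, 0), (80, 9), (106, 5), (128, 0), (91, 6), (93, 6), (111, 3), (113, 3),
      (130, 0), (64, 0), (89, 9), (116, 5), (73, 0), (68, 0), (77, 0), (16, 0), (133, 0), (135, 0), (136, 0),
      (75, 0), (99, 9), (124, 5), (85, 0), (19, 0), (38, 9), (60, 5), (138, 0), (81, 0), (118, 6), (41, 6),
      (67, 20), (92, 16), (129, 3), (62, 3), (87, 17), (112, 12), (140, 0), (28, 0), (101, 0), (103, 0),
      (141, 0), (96, 0), (121, 9), (134, 5), (142, 0), (109, 0), (104, 0), (131, 6), (139, 3), (114, 0),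
      (126, 0), (52, 0), (78, 9), (102, 5), (143, 0), (122, 0), (58, 0), (90, 6), (110, 3), (137, 0),
      (132, 0), (100, 0)]),
    (97, [
      (9, 10), (39, 1), (20, 10), (23, 0), (33, 3), (63, 1), (37, 10), (3, 10), (11, 1), (42, 0), (2, 1),
      (53, 3), (86, 1), (21, 1), (59, 10), (61, 10), (18, 3), (74, 6), (25, 1), (66, 0), (10, 0), (51, 1),
      (34, 0), (7, 1), (77, 3), (16, 3), (111, 1), (113, 1), (85, 10), (19, 10), (38, 22), (60, 19), (5, 6),
      (36, 3), (97, 6), (43, 1), (4, 1), (91, 0), (93, 0), (76, 1), (55, 0), (14, 1), (0, 1), (101, 3),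
      (103, 3), (129, 1), (62, 1), (87, 13), (112, 8), (109, 10), (40, 3), (13, 6), (56, 3), (8, 3), (120, 6),
      (50, 6), (69, 1), (71, 1), (118, 0), (41, 0), (67, 9), (92, 5), (98, 1), (32, 1), (79, 0), (17, 0),
      (29, 1), (31, 1), (126, 3), (52, 3), (78, 17), (102, 12), (139, 1), (58, 10), (65, 3), (26, 6), (1, 6),
      (82, 3), (84, 3), (133, 6), (135, 6), (94, 1), (24, 1), (44, 13), (70, 8), (131, 0), (123, 1), (125, 1),
      (105, 0), (107, 0), (49, 1), (6, 1), (15, 13), (30, 8), (137, 3), (110, 1), (88, 3), (22, 3), (46, 6),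
      (48, 6), (108, 3), (35, 3), (57, 17), (83, 12), (141, 6), (96, 6), (121, 20), (134, 16), (119, 1),
      (90, 0), (136, 1), (75, 1), (99, 13), (124, 8), (127, 0), (54, 0), (80, 9), (106, 5), (73, 1), (100, 3),
      (115, 3), (117, 3), (72, 6), (12, 6), (27, 20), (47, 16), (128, 3), (143, 6), (68, 1), (142, 1),
      (138, 0), (28, 1), (130, 3), (64, 3), (89, 17), (116, 12), (95, 6), (81, 3), (132, 6), (122, 1),
      (104, 0), (140, 3), (45, 6), (114, 3)]),
    (57, [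
      (22, 2), (1, 4), (64, 0), (17, 7), (8, 2), (12, 1), (65, 9), (89, 0), (0, 11), (54, 3), (4, 15),
      (35, 0), (13, 13), (27, 1), (114, 0), (116, 0), (16, 15), (32, 2), (6, 6), (55, 17), (80, 3), (50, 15),
      (10, 11), (24, 10), (36, 9), (57, 0), (45, 1), (47, 1), (117, 2), (88, 5), (40, 5), (130, 2), (21, 11),
      (52, 10), (75, 0), (7, 20), (15, 6), (104, 3), (106, 3), (96, 10), (41, 6), (25, 22), (44, 10), (81, 0),
      (83, 0), (48, 4), (26, 8), (5, 8), (72, 4), (115, 2), (3, 4), (62, 6), (53, 22), (78, 10), (76, 9),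
      (99, 0), (28, 6), (30, 6), (107, 7), (79, 12), (34, 12), (127, 7), (97, 22), (121, 10), (42, 20),
      (67, 6), (68, 10), (70, 10), (84, 2), (56, 5), (18, 5), (108, 2), (46, 4), (140, 14), (19, 1), (63, 20),
      (87, 6), (100, 10), (102, 10), (122, 0), (124, 0), (31, 11), (14, 16), (2, 16), (49, 11), (105, 7),
      (132, 10), (134, 10), (90, 6), (92, 6), (71, 15), (43, 19), (11, 19), (94, 15), (82, 2), (95, 18),
      (20, 13), (38, 1), (110, 6), (112, 6), (103, 15), (77, 19), (33, 19), (126, 15), (125, 2), (98, 5),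
      (51, 5), (136, 2), (29, 11), (138, 21), (135, 15), (120, 19), (74, 19), (141, 15), (93, 11), (66, 16),
      (23, 16), (118, 11), (69, 15), (128, 14), (58, 1), (60, 1), (113, 11), (86, 16), (39, 16), (129, 11),
      (101, 15), (123, 2), (73, 23), (133, 15), (91, 11), (119, 24), (61, 4), (37, 8), (9, 8), (85, 4),
      (111, 11), (137, 24), (142, 14), (143, 24), (131, 23), (59, 4), (139, 23), (109, 18)]),
    (96, [
      (8, 10), (10, 10), (18, 10), (22, 0), (32, 3), (23, 10), (35, 10), (36, 10), (0, 1), (40, 0), (1, 1),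
      (51, 3), (41, 10), (42, 10), (56, 10), (57, 10), (17, 3), (16, 6), (2, 1), (64, 0), (65, 0), (50, 1),
      (3, 0), (5, 1), (75, 3), (76, 3), (66, 10), (67, 10), (81, 10), (82, 10), (83, 10), (84, 10), (4, 6),
      (34, 3), (33, 6), (6, 1), (7, 1), (88, 0), (89, 0), (74, 1), (9, 0), (12, 1), (13, 1), (98, 3), (99, 3),
      (90, 10), (91, 10), (92, 10), (93, 10), (108, 10), (21, 10), (11, 6), (54, 3), (55, 3), (52, 6),
      (53, 6), (14, 1), (15, 1), (114, 0), (115, 0), (116, 0), (117, 0), (96, 1), (97, 1), (19, 0), (20, 0),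
      (26, 1), (27, 1), (122, 3), (123, 3), (124, 3), (125, 3), (118, 10), (128, 10), (39, 10), (24, 6),
      (25, 6), (79, 3), (80, 3), (77, 6), (78, 6), (28, 1), (29, 1), (30, 1), (31, 1), (130, 0), (120, 1),
      (121, 1), (37, 0), (38, 0), (45, 1), (46, 1), (47, 1), (48, 1), (136, 3), (131, 10), (62, 10), (63, 10),
      (43, 6), (44, 6), (104, 3), (105, 3), (106, 3), (107, 3), (100, 6), (101, 6), (102, 6), (103, 6),
      (49, 1), (140, 0), (132, 1), (133, 1), (134, 1), (135, 1), (58, 0), (59, 0), (60, 0), (61, 0), (72, 1),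
      (142, 3), (86, 10), (87, 10), (68, 6), (69, 6), (70, 6), (71, 6), (127, 3), (126, 6), (73, 1), (141, 1),
      (85, 0), (95, 1), (110, 10), (111, 10), (112, 10), (113, 10), (94, 6), (138, 3), (137, 6), (143, 1),
      (109, 0), (129, 10), (119, 6), (139, 10)]),
    (48, [
      (21, 1), (16, 3), (39, 1), (4, 1), (3, 10), (33, 3), (62, 1), (63, 1), (50, 6), (11, 1), (17, 0),
      (9, 10), (52, 3), (53, 3), (86, 1), (87, 1), (1, 6), (10, 0), (74, 6), (24, 1), (25, 1), (0, 10),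
      (32, 6), (34, 0), (19, 10), (20, 10), (77, 3), (78, 3), (110, 1), (111, 1), (112, 1), (113, 1), (22, 3),
      (5, 6), (23, 0), (96, 6), (97, 6), (43, 1), (44, 1), (2, 10), (51, 6), (54, 0), (55, 0), (37, 10),
      (38, 10), (100, 3), (101, 3), (102, 3), (103, 3), (129, 1), (8, 3), (40, 3), (12, 6), (13, 6), (41, 0),
      (42, 0), (120, 6), (121, 6), (68, 1), (69, 1), (70, 1), (71, 1), (6, 10), (7, 10), (75, 6), (76, 6),
      (79, 0), (80, 0), (58, 10), (59, 10), (60, 10), (61, 10), (126, 3), (139, 1), (18, 3), (64, 3), (65, 3),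
      (26, 6), (27, 6), (66, 0), (67, 0), (132, 6), (133, 6), (134, 6), (135, 6), (94, 1), (14, 10), (15, 10),
      (98, 6), (99, 6), (104, 0), (105, 0), (106, 0), (107, 0), (85, 10), (137, 3), (35, 3), (36, 3), (88, 3),
      (89, 3), (45, 6), (46, 6), (47, 6), (48, 6), (90, 0), (91, 0), (92, 0), (93, 0), (141, 6), (119, 1),
      (28, 10), (29, 10), (30, 10), (31, 10), (122, 6), (123, 6), (124, 6), (125, 6), (127, 0), (109, 10),
      (56, 3), (57, 3), (114, 3), (115, 3), (116, 3), (117, 3), (72, 6), (118, 0), (143, 6), (49, 10),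
      (136, 6), (138, 0), (81, 3), (82, 3), (83, 3), (84, 3), (130, 3), (95, 6), (131, 0), (73, 10), (142, 6),
      (108, 3), (140, 3), (128, 3)]),
    (120, [
      (14, 14), (26, 14), (15, 14), (37, 14), (43, 14), (27, 14), (31, 0), (49, 5), (56, 14), (38, 14),
      (66, 14), (44, 14), (48, 0), (72, 5), (0, 2), (2, 2), (77, 14), (79, 14), (57, 14), (61, 0), (85, 5),
      (86, 14), (88, 14), (67, 14), (71, 0), (94, 5), (1, 2), (5, 2), (29, 5), (28, 9), (73, 2), (6, 0),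
      (98, 14), (78, 14), (80, 14), (84, 0), (108, 5), (3, 2), (9, 2), (87, 14), (89, 14), (93, 0), (118, 5),
      (4, 2), (11, 2), (46, 5), (45, 9), (95, 2), (12, 0), (7, 9), (120, 14), (99, 14), (103, 0), (126, 5),
      (107, 0), (127, 5), (8, 2), (18, 2), (59, 5), (58, 9), (109, 2), (19, 0), (113, 0), (129, 5), (117, 0),
      (130, 5), (10, 2), (23, 2), (69, 5), (68, 9), (119, 2), (24, 0), (13, 9), (30, 14), (121, 14), (125, 0),
      (136, 5), (16, 2), (33, 2), (17, 2), (34, 2), (82, 5), (81, 9), (128, 2), (35, 0), (20, 9), (21, 2),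
      (39, 2), (22, 2), (40, 2), (91, 5), (90, 9), (131, 2), (41, 0), (25, 9), (47, 14), (135, 0), (141, 5),
      (32, 2), (51, 2), (101, 5), (100, 9), (137, 2), (52, 0), (105, 5), (104, 9), (138, 2), (54, 0), (36, 9),
      (60, 14), (111, 5), (110, 9), (139, 2), (62, 0), (115, 5), (114, 9), (140, 2), (64, 0), (42, 9),
      (70, 14), (50, 2), (74, 2), (123, 5), (122, 9), (142, 2), (75, 0), (53, 9), (55, 9), (83, 14), (63, 9),
      (65, 9), (92, 14), (133, 5), (132, 9), (143, 2), (96, 0), (76, 9), (102, 14), (106, 14), (112, 14),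
      (116, 14), (97, 9), (124, 14), (134, 14)]),
    (68, [
      (30, 2), (47, 2), (28, 5), (60, 2), (70, 2), (45, 5), (7, 2), (6, 14), (83, 2), (58, 5), (92, 2),
      (68, 5), (13, 2), (12, 14), (73, 9), (29, 0), (102, 2), (106, 2), (81, 5), (20, 2), (19, 14), (112, 2),
      (116, 2), (90, 5), (25, 2), (24, 14), (95, 9), (46, 0), (2, 9), (15, 0), (0, 14), (49, 9), (124, 2),
      (100, 5), (104, 5), (36, 2), (35, 14), (109, 9), (59, 0), (110, 5), (114, 5), (42, 2), (41, 14),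
      (119, 9), (69, 0), (5, 9), (27, 0), (1, 14), (72, 9), (31, 5), (134, 2), (122, 5), (53, 2), (52, 14),
      (55, 2), (54, 14), (128, 9), (82, 0), (9, 9), (38, 0), (3, 14), (85, 9), (63, 2), (62, 14), (65, 2),
      (64, 14), (131, 9), (91, 0), (11, 9), (44, 0), (4, 14), (94, 9), (48, 5), (14, 5), (132, 5), (76, 2),
      (75, 14), (137, 9), (101, 0), (138, 9), (105, 0), (18, 9), (57, 0), (8, 14), (108, 9), (61, 5),
      (139, 9), (111, 0), (140, 9), (115, 0), (23, 9), (67, 0), (10, 14), (118, 9), (71, 5), (26, 5), (97, 2),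
      (96, 14), (142, 9), (123, 0), (33, 9), (78, 0), (16, 14), (126, 9), (34, 9), (80, 0), (17, 14),
      (127, 9), (84, 5), (37, 5), (39, 9), (87, 0), (21, 14), (129, 9), (40, 9), (89, 0), (22, 14), (130, 9),
      (93, 5), (43, 5), (143, 9), (133, 0), (51, 9), (99, 0), (32, 14), (136, 9), (103, 5), (107, 5), (56, 5),
      (113, 5), (117, 5), (66, 5), (74, 9), (121, 0), (50, 14), (141, 9), (125, 5), (77, 5), (79, 5), (86, 5),
      (88, 5), (135, 5), (98, 5), (120, 5)])]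
  steps := [
    .fix [
      (0, 1), (1, 1), (3, 1), (4, 1), (8, 1), (10, 1), (16, 1), (17, 1), (21, 1), (22, 1), (32, 1), (50, 1)] 0 0 [(0, [
]), (1, [
])],
    .img 2 0,
    .img 3 1,
    .img 2 1,
    .img 2 2,
    .img 3 3,
    .img 3 4,
    .img 2 4,
    .img 3 5,
    .img 2 5,
    .img 2 6,
    .fix [
      (0, 1), (2, 1), (6, 1), (7, 1), (14, 1), (15, 1), (28, 1), (29, 1), (30, 1), (31, 1), (49, 1), (73, 1)] 1 0 [(3, [
]), (2, [
])],
    .img 1 11,
    .img 0 12,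
    .img 1 12,
    .img 1 13,
    .img 0 14,
    .img 0 15,
    .img 1 15,
    .img 0 16,
    .img 1 16,
    .img 1 17,
    .fix [
      (0, 3), (1, 4), (2, 4), (3, 4), (4, 4), (6, 4), (7, 4), (8, 4), (10, 4), (14, 4), (15, 4), (16, 4),
      (17, 4), (21, 4), (22, 4), (28, 4), (29, 4), (30, 4), (31, 4), (32, 4), (33, 1), (45, 1), (49, 4),
      (61, 1), (64, 1), (76, 1), (80, 1), (83, 1), (86, 1), (91, 1), (94, 1)] 2 0 [(4, [
]), (5, [
      (1, 1), (1, 12), (4, 0), (4, 11)])],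
    .img 0 22,
    .img 1 22,
    .img 3 22,
    .img 2 22,
    .img 0 23,
    .img 1 23,
    .img 2 23,
    .img 0 24,
    .img 3 24,
    .img 3 25,
    .img 2 25,
    .img 3 26,
    .img 1 27,
    .img 2 27,
    .img 0 28,
    .img 1 28,
    .img 2 28,
    .img 3 29,
    .img 0 30,
    .img 1 30,
    .img 3 30,
    .img 3 31,
    .img 2 31,
    .img 2 33,
    .img 2 34,
    .img 1 35,
    .img 2 35,
    .img 3 36,
    .img 1 37,
    .img 2 37,
    .img 0 38,
    .img 2 38,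
    .img 3 39,
    .img 2 40,
    .img 0 42,
    .img 1 42,
    .img 3 43,
    .img 2 43,
    .img 0 48,
    .img 2 48,
    .img 2 50,
    .img 0 51,
    .fix [
      (0, 1), (1, 4), (2, 1), (3, 4), (5, 4), (6, 2), (7, 4), (8, 3), (9, 4), (10, 2), (13, 2), (14, 3),
      (15, 3), (16, 2), (17, 4), (18, 3), (20, 2), (21, 3), (22, 2), (23, 2), (24, 1), (25, 3), (26, 1),
      (27, 1), (29, 3), (30, 3), (31, 4), (32, 1), (33, 3), (34, 4), (35, 4), (36, 1), (37, 1), (38, 1),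
      (39, 3), (40, 2), (41, 3), (43, 2), (44, 2), (45, 1), (47, 1), (48, 1), (49, 2), (51, 2), (52, 4),
      (55, 2), (59, 1), (60, 1), (62, 4), (63, 1), (64, 3), (66, 4), (67, 4), (68, 1), (69, 2), (70, 2),
      (71, 2), (75, 4), (76, 4), (78, 4), (79, 1), (80, 1)] 2 1 [(4, [
      (1, 0), (1, 3), (1, 4), (1, 5), (1, 13), (1, 14), (1, 15), (1, 18), (1, 33), (1, 34), (1, 36), (1, 39),
      (1, 42), (1, 44), (1, 45), (1, 61), (1, 63), (2, 2), (2, 7), (2, 12), (2, 20), (2, 21), (2, 22),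
      (2, 24), (2, 25), (2, 32), (2, 35), (2, 50), (2, 57), (2, 62), (2, 64), (3, 8), (3, 11), (3, 19),
      (3, 29), (3, 38), (3, 40), (3, 41), (3, 51), (3, 52), (3, 53), (3, 56), (3, 58), (4, 1), (4, 16),
      (4, 27), (4, 28), (4, 30), (4, 31), (4, 37), (4, 43), (4, 46), (4, 47), (4, 60)]), (6, [
      (1, 8), (1, 10), (1, 11), (1, 14), (1, 16), (1, 21), (1, 22), (1, 23), (1, 24), (1, 26), (1, 34),
      (1, 35), (1, 39), (1, 44), (1, 45), (1, 46), (1, 56), (2, 6), (2, 13), (2, 17), (2, 20), (2, 29),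
      (2, 36), (2, 41), (2, 47), (2, 57), (2, 58), (2, 59), (3, 5), (3, 7), (3, 12), (3, 15), (3, 18),
      (3, 33), (3, 37), (3, 38), (3, 49), (3, 53), (3, 55), (3, 60), (4, 0), (4, 9), (4, 19), (4, 31),
      (4, 32), (4, 40), (4, 42), (4, 50), (4, 51), (4, 52), (4, 54), (4, 61), (4, 62)])],
    .img 0 65,
    .img 1 65,
    .img 3 65,
    .img 2 65,
    .img 1 66,
    .img 2 66,
    .img 0 67,
    .img 3 67,
    .fix [
      (1, 2), (2, 4), (3, 4), (4, 1), (5, 1), (6, 1), (7, 1), (9, 3), (12, 3), (13, 3), (16, 3), (18, 4),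
      (22, 1), (23, 4), (24, 2), (25, 2), (26, 2), (27, 2), (28, 1), (31, 4), (32, 4), (33, 1), (34, 4),
      (35, 1), (36, 1), (37, 4), (38, 4), (39, 4), (40, 2), (41, 1), (42, 1), (43, 1), (44, 1), (45, 4),
      (46, 2), (47, 2), (48, 3), (49, 4), (51, 3), (52, 2), (53, 4), (54, 1), (55, 1), (58, 2), (59, 4),
      (60, 4), (61, 1), (62, 1), (63, 1), (64, 3), (65, 2), (69, 1), (70, 1)] 2 2 [(7, [
      (1, 5), (1, 18), (1, 24), (1, 32), (1, 36), (1, 39), (1, 40), (1, 43), (1, 49), (1, 51), (1, 53),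
      (1, 58), (1, 73), (2, 0), (2, 8), (2, 10), (2, 19), (2, 38), (2, 45), (2, 50), (2, 54), (2, 63),
      (2, 64), (3, 3), (3, 7), (3, 15), (3, 26), (3, 27), (3, 30), (3, 31), (3, 33), (3, 34), (3, 46),
      (3, 57), (3, 60), (3, 61), (3, 65), (3, 69), (3, 71), (3, 72), (4, 4), (4, 11), (4, 12), (4, 16),
      (4, 23), (4, 25), (4, 29), (4, 35), (4, 42), (4, 47), (4, 62), (4, 70)]), (5, [
      (1, 7), (1, 11), (1, 12), (1, 18), (1, 19), (1, 25), (1, 40), (1, 61), (1, 63), (1, 66), (1, 73),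
      (2, 0), (2, 1), (2, 4), (2, 21), (2, 22), (2, 32), (2, 42), (2, 44), (2, 49), (2, 57), (2, 59), (2, 68),
      (3, 5), (3, 13), (3, 14), (3, 16), (3, 27), (3, 28), (3, 34), (3, 45), (3, 51), (3, 52), (3, 53),
      (3, 56), (3, 64), (3, 69), (3, 71), (3, 72), (4, 8), (4, 9), (4, 10), (4, 15), (4, 24), (4, 26),
      (4, 29), (4, 31), (4, 33), (4, 35), (4, 38), (4, 41), (4, 43), (4, 47), (4, 48), (4, 50), (4, 58),
      (4, 60), (4, 65), (4, 67), (4, 70)])],
    .img 0 74,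
    .img 1 74,
    .img 3 74,
    .img 2 74,
    .img 0 75,
    .img 1 75,
    .img 3 75,
    .img 2 75,
    .fix [
      (1, 1), (10, 1), (16, 1), (17, 1)] 4 0 [(8, [
]), (9, [
])],
    .img 0 83,
    .img 1 83,
    .img 2 83,
    .img 0 84,
    .img 1 84,
    .img 2 84,
    .img 2 85,
    .img 3 86,
    .img 2 86,
    .img 2 87,
    .img 2 88,
    .img 3 89,
    .img 2 89,
    .img 3 90,
    .img 2 90,
    .img 2 91,
    .img 3 93,
    .img 2 93,
    .img 3 94,
    .img 2 94,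
    .img 2 95,
    .img 2 97,
    .img 2 100,
    .img 2 102,
    .fix [
      (6, 1), (7, 1)] 5 0 [(10, [
      (1, 1), (1, 2), (1, 5), (1, 11), (1, 15), (1, 19), (1, 29), (1, 30), (1, 36), (1, 42), (1, 44), (1, 52),
      (1, 54), (1, 56), (1, 58), (1, 59), (1, 60), (1, 61), (1, 62), (1, 63), (1, 67), (2, 0), (2, 3), (2, 8),
      (2, 22), (2, 24), (2, 28), (2, 38), (2, 49), (2, 51), (2, 68), (2, 69), (2, 71), (2, 79), (2, 80),
      (2, 91), (2, 92), (2, 95), (2, 96), (2, 97), (2, 98), (2, 100), (2, 101), (2, 102), (2, 103), (3, 16),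
      (3, 17), (3, 23), (3, 27), (3, 32), (3, 33), (3, 35), (3, 41), (3, 45), (3, 46), (3, 48), (3, 64),
      (3, 65), (3, 70), (3, 76), (3, 81), (4, 9), (4, 12), (4, 13), (4, 14), (4, 21), (4, 26), (4, 31),
      (4, 34), (4, 37), (4, 39), (4, 40), (4, 43), (4, 50), (4, 53), (4, 57), (4, 66), (4, 72), (4, 73),
      (4, 74), (4, 78), (4, 82)]), (11, [
])],
    .img 3 108,
    .img 2 108,
    .img 3 109,
    .img 2 109]
  fin := [
    (1, 0), (1, 4), (1, 12), (1, 20), (1, 25), (1, 27), (1, 28), (1, 32), (1, 33), (1, 47), (1, 52), (1, 70),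
    (1, 71), (1, 73), (1, 99), (1, 104), (1, 105), (1, 106), (1, 107), (2, 1), (2, 6), (2, 8), (2, 9),
    (2, 10), (2, 16), (2, 23), (2, 29), (2, 37), (2, 38), (2, 43), (2, 49), (2, 54), (2, 56), (2, 66),
    (2, 68), (2, 109), (2, 110), (2, 112), (3, 14), (3, 17), (3, 26), (3, 31), (3, 39), (3, 42), (3, 45),
    (3, 53), (3, 55), (3, 57), (3, 58), (3, 59), (3, 62), (3, 63), (3, 67), (3, 69), (3, 77), (3, 108),
    (3, 111), (4, 5), (4, 7), (4, 11), (4, 13), (4, 18), (4, 21), (4, 22), (4, 24), (4, 34), (4, 36), (4, 40),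
    (4, 41), (4, 50), (4, 51), (4, 60), (4, 64), (4, 65), (4, 72), (4, 74), (4, 75), (4, 76), (4, 80),
    (4, 81), (4, 82), (4, 91), (4, 95), (4, 97), (4, 100), (4, 102)]
  i0 := 0
  c0 := 1

set_option maxRecDepth 100000 in
theorem fiveFiveCheck : check 5 10 fiveFiveGens fiveFiveTarget fiveFiveHyps fiveFiveCert = true := by
  decide +kernel

end CfsgLib.SolvCent
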