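import Cfsg.Agent.Lib.SolvCent.Check
import Mathlib.Data.List.Basic
import Mathlib.GroupTheory.OrderOfElement
import Mathlib.Tactic.Group

/-!
# Soundness of the certificate checker
-/

set_option autoImplicit false

namespace CfsgLib.SolvCent

variable {n : ℕ} {V : Type*} [AddCommGroup V] [DistribMulAction (alternatingGroup (Fin n)) V] {p : ℕ}

theorem mod_nsmul' (hp : ∀ x : V, p • x = 0) (c : ℕ) (x : V) : (c % p) • x = c • x := by
  conv_rhs => rw [← Nat.mod_add_div c p, add_nsmul, mul_nsmul, hp, nsmul_zero, add_zero]

theorem act_nsmul (a : alternatingGroup (Fin n)) (c : ℕ) (x : V) : a • (c • x) = c • (a • x) :=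
  map_nsmul (DistribSMul.toAddMonoidHom V a) c x

/-- A chosen permutation with the given list of images. -/
noncomputable def eltOf (n : ℕ) (l : List ℕ) : alternatingGroup (Fin n) :=
  open Classical in if h : Valid n l then h.choose else 1

theorem imgL_eltOf {l : List ℕ} (h : Valid n l) : imgL (eltOf n l) = l := by
  rw [eltOf, dif_pos h]; exact h.choose_spec

/-- Evaluation of a sparse vector. -/
def evalS (e : ℕ → V) : List (ℕ × ℕ) → V
  | [] => 0
  | x :: r => x.2 • e x.1 + evalS e r

/-- Evaluation of a dense vector from position `k`. -/
def evalD (e : ℕ → V) : ℕ → List ℕ → V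
  | _, [] => 0
  | k, d :: r => d • e k + evalD e (k + 1) r

theorem evalD_addAt (e : ℕ → V) :
    ∀ (d : List ℕ) (i c k : ℕ), evalD e k (addAt d i c) = evalD e k d + c • e (k + i)
  | [], 0, c, k => by simp [addAt, evalD]
  | [], i + 1, c, k => by
      simp only [addAt, evalD, evalD_addAt e [] i c (k + 1)]
      simp [Nat.add_assoc, Nat.add_comm 1 i]
  | d :: r, 0, c, k => by
      simp only [addAt, evalD, add_nsmul, Nat.add_zero]; abel
  | d :: r, i + 1, c, k => by
      rw [addAt, evalD, evalD, evalD_addAt e r i c (k + 1)]
      rw [show k + (i + 1) = k + 1 + i by omega]; abel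

theorem evalD_dense (e : ℕ → V) : ∀ w : List (ℕ × ℕ), evalD e 0 (dense w) = evalS e w
  | [] => rfl
  | (i, c) :: r => by
      rw [dense, evalD_addAt, evalD_dense e r, evalS, Nat.zero_add, add_comm]

theorem evalD_eq_zero (hp : ∀ x : V, p • x = 0) (e : ℕ → V) :
    ∀ (d : List ℕ) (k : ℕ), (d.all fun x => x % p == 0) = true → evalD e k d = 0
  | [], _, _ => rfl
  | x :: r, k, h => by
      simp only [List.all_cons, Bool.and_eq_true, beq_iff_eq] at h
      rw [evalD, ← mod_nsmul' hp, h.1, zero_nsmul, evalD_eq_zero hp e r (k + 1) h.2, add_zero]

theorem evalS_of_isZ (hp : ∀ x : V, p • x = 0) (e : ℕ → V) {w : List (ℕ × ℕ)} (h : isZ p w = true) :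
    evalS e w = 0 := by
  rw [← evalD_dense]; exact evalD_eq_zero hp e _ _ h

theorem evalS_append (e : ℕ → V) : ∀ u w : List (ℕ × ℕ), evalS e (u ++ w) = evalS e u + evalS e w
  | [], w => by simp [evalS]
  | x :: r, w => by simp [evalS, evalS_append e r w, add_assoc]

theorem evalS_scale (e : ℕ → V) (c : ℕ) : ∀ w : List (ℕ × ℕ), evalS e (scale c w) = c • evalS e w
  | [] => by simp [scale, evalS]
  | x :: r => by
      show (c * x.2) • e x.1 + evalS e (scale c r) = _
      rw [evalS_scale e c r, evalS, nsmul_add, mul_nsmul']

theorem evalS_comb (e : ℕ → V) {Z : List (List (ℕ × ℕ))} (hZ : ∀ z ∈ Z, evalS e z = 0) :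
    ∀ cb : List (ℕ × ℕ), evalS e (comb Z cb) = 0
  | [] => rfl
  | (c, k) :: r => by
      rw [comb, evalS_append, evalS_scale, evalS_comb e hZ r, add_zero]
      by_cases hk : k < Z.length
      · rw [List.getD_eq_getElem _ _ hk, hZ _ (List.getElem_mem hk), nsmul_zero]
      · rw [List.getD_eq_default _ _ (Nat.le_of_not_lt hk)]; simp [evalS]

/-- Each entry is valid and multiplies `v` by its scalar. -/
def StabOK (n : ℕ) {V : Type*} [AddCommGroup V] [DistribMulAction (alternatingGroup (Fin n)) V]
    (Qs : List (List ℕ × ℕ)) (v : V) : Prop :=
  ∀ x ∈ Qs, Valid n x.1 ∧ ∀ a : alternatingGroup (Fin n), imgL a = x.1 → a • v = x.2 • v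

theorem StabOK.getD {Qs : List (List ℕ × ℕ)} {v : V} (h : StabOK n Qs v) (q : ℕ) :
    Valid n (Qs.getD q (List.range n, 1)).1 ∧
      ∀ a : alternatingGroup (Fin n), imgL a = (Qs.getD q (List.range n, 1)).1 →
        a • v = (Qs.getD q (List.range n, 1)).2 • v := by
  by_cases hq : q < Qs.length
  · rw [List.getD_eq_getElem _ _ hq]; exact h _ (List.getElem_mem hq)
  · rw [List.getD_eq_default _ _ (Nat.le_of_not_lt hq)]
    refine ⟨valid_range, fun a ha => ?_⟩
    rw [imgL_injective (ha.trans imgL_one.symm), one_smul, one_nsmul]

theorem stabOK_buildStab (hp : ∀ x : V, p • x = 0) {v : V} :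
    ∀ (st : List (ℕ × ℕ)) (acc : List (List ℕ × ℕ)), StabOK n acc v → StabOK n (buildStab p n st acc) v
  | [], acc, h => h
  | (a, b) :: r, acc, h => by
      rw [buildStab]
      refine stabOK_buildStab hp r _ fun x hx => ?_
      rcases List.mem_append.1 hx with hx | hx
      · exact h x hx
      rw [List.mem_singleton.1 hx]
      refine ⟨valid_comp (h.getD a).1 (h.getD b).1, fun c hc => ?_⟩
      obtain ⟨a', ha'⟩ := (h.getD a).1
      obtain ⟨b', hb'⟩ := (h.getD b).1
      have : c = a' * b' := imgL_injective (by rw [hc, imgL_mul, ha', hb'])
      rw [this, mul_smul, (h.getD b).2 b' hb', act_nsmul, (h.getD a).2 a' ha', mul_comm, mod_nsmul' hp,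
        ← mul_nsmul']

theorem valid_el {E : List (List ℕ)} (hE : ∀ l ∈ E, Valid n l) (i : ℕ) : Valid n (el n E i) :=
  valid_getD hE i

theorem evalS_imgV (hp : ∀ x : V, p • x = 0) {v : V} {E : List (List ℕ)} (hE : ∀ l ∈ E, Valid n l)
    {Qs : List (List ℕ × ℕ)} (hQ : StabOK n Qs v) {R : List ℕ} {tt : ℕ × List (ℕ × ℕ)}
    (ht : tabOK n E R Qs tt = true) :
    ∀ w : List (ℕ × ℕ), inb R.length w = true →
      inb R.length (imgV p Qs n tt.2 w) = true ∧
      evalS (fun i => eltOf n (el n E (R.getD i 0)) • v) (imgV p Qs n tt.2 w) =
        eltOf n (el n E tt.1) • evalS (fun i => eltOf n (el n E (R.getD i 0)) • v) w := by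
  obtain ⟨x, t⟩ := tt
  simp only [tabOK, Bool.and_eq_true, decide_eq_true_eq] at ht
  dsimp only
  have key : ∀ (t : List (ℕ × ℕ)) (k : ℕ), rowsOK n E R Qs x k t = true → ∀ i < t.length,
      comp (el n E x) (el n E (R.getD (k + i) 0)) =
        comp (el n E (R.getD (t.getD i (0, 0)).1 0)) (Qs.getD (t.getD i (0, 0)).2 (List.range n, 1)).1 ∧
      (t.getD i (0, 0)).1 < R.length := by
    intro t
    induction t with
    | nil => intro k _ i hi; simp at hi
    | cons a r ih =>
        intro k hk i hi
        obtain ⟨j, q⟩ := a
        simp only [rowsOK, Bool.and_eq_true, beq_iff_eq, decide_eq_true_eq] at hk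
        rcases i with _ | i
        · simpa using ⟨hk.1.1, hk.1.2⟩
        · have := ih (k + 1) hk.2 i (by simpa using hi)
          rw [show k + 1 + i = k + (i + 1) by omega] at this
          simpa using this
  intro w
  induction w with
  | nil =>
      intro _
      exact ⟨rfl, by simp [imgV, evalS]⟩
  | cons a r ih =>
      intro hw
      obtain ⟨i, c⟩ := a
      simp only [inb, List.all_cons, Bool.and_eq_true, decide_eq_true_eq] at hw
      obtain ⟨ih1, ih2⟩ := ih hw.2
      obtain ⟨he, hj⟩ := key t 0 ht.2 i (by rw [ht.1]; exact hw.1)
      rw [Nat.zero_add] at he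
      set j := (t.getD i (0, 0)).1 with hjdef
      set q := (t.getD i (0, 0)).2 with hqdef
      obtain ⟨aq, haq⟩ := (hQ.getD q).1
      have hcons : imgV p Qs n t ((i, c) :: r) =
          (j, c * (Qs.getD q (List.range n, 1)).2 % p) :: imgV p Qs n t r := rfl
      rw [hcons]
      refine ⟨?_, ?_⟩
      · simp only [inb, List.all_cons, Bool.and_eq_true, decide_eq_true_eq]
        exact ⟨hj, ih1⟩
      have hprod : eltOf n (el n E x) * eltOf n (el n E (R.getD i 0)) = eltOf n (el n E (R.getD j 0)) * aq := by
        apply imgL_injective
        rw [imgL_mul, imgL_mul, imgL_eltOf (n := n) (valid_el hE _), imgL_eltOf (n := n) (valid_el hE _),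
          imgL_eltOf (n := n) (valid_el hE _), haq]
        exact he
      have hei : eltOf n (el n E x) • (eltOf n (el n E (R.getD i 0)) • v) =
          (Qs.getD q (List.range n, 1)).2 • (eltOf n (el n E (R.getD j 0)) • v) := by
        rw [← mul_smul, hprod, mul_smul, (hQ.getD q).2 aq haq, act_nsmul]
      simp only [evalS]
      rw [smul_add, act_nsmul, hei, ih2, ← mul_nsmul', mod_nsmul' hp]

/-- The main theorem: a checked certificate kills the list `Q0`. -/
theorem killed_of_check [hpp : Fact p.Prime] (hp : ∀ x : V, p • x = 0) {gens : List (List ℕ)}
    {Q0 : List (List ℕ × ℕ)} {HS : List (List (List ℕ × ℕ))} (C : Cert)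
    (hgens : ∀ l ∈ gens, Valid n l) (hQ0 : ∀ x ∈ Q0, Valid n x.1) (hHS : ∀ S ∈ HS, Killed n V S)
    (h : check p n gens Q0 HS C = true) : Killed n V Q0 := by
  intro v hv
  simp only [check, Bool.and_eq_true, beq_iff_eq, decide_eq_true_eq] at h
  obtain ⟨⟨⟨hT, hR0⟩, hc0⟩, hsteps⟩ := h
  set E := buildEls n gens C.els [List.range n] with hEdef
  have hE : ∀ l ∈ E, Valid n l := valid_buildEls hgens _ _ (by simp [valid_range])
  set Qs := buildStab p n C.stab ((List.range n, 1) :: Q0) with hQdef
  have hQ : StabOK n Qs v := by
    refine stabOK_buildStab hp _ _ fun x hx => ?_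
    rcases List.mem_cons.1 hx with hx | hx
    · subst hx
      refine ⟨valid_range, fun a ha => ?_⟩
      rw [imgL_injective (ha.trans imgL_one.symm), one_smul, one_nsmul]
    · exact ⟨hQ0 x hx, hv x hx⟩
  let e : ℕ → V := fun i => eltOf n (el n E (C.reps.getD i 0)) • v
  have tabs : ∀ k < C.tabs.length, tabOK n E C.reps Qs (C.tabs.getD k (0, [])) = true := by
    intro k hk
    rw [List.getD_eq_getElem _ _ hk]
    exact (List.all_eq_true.1 hT) _ (List.getElem_mem hk)
  have main : ∀ (ss : List Step) (Z Z' : List (List (ℕ × ℕ))),
      stepsOK p n E C.reps Qs C.tabs HS ss Z = some Z' →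
      (∀ z ∈ Z, evalS e z = 0 ∧ inb C.reps.length z = true) → ∀ z ∈ Z', evalS e z = 0 := by
    intro ss
    induction ss with
    | nil =>
        intro Z Z' hZ' hZ z hz
        simp only [stepsOK, Option.some.injEq] at hZ'
        subst hZ'
        exact (hZ z hz).1
    | cons s r ih =>
        intro Z Z' hZ' hZ
        rw [stepsOK] at hZ'
        cases hs : stepOK p n E C.reps Qs C.tabs HS Z s with
        | none => rw [hs] at hZ'; simp at hZ'
        | some Z1 =>
          rw [hs] at hZ'
          refine ih Z1 Z' hZ' ?_
          cases s with
          | img t k =>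
              simp only [stepOK] at hs
              split at hs
              · rename_i ht
                simp only [Option.some.injEq] at hs
                subst hs
                have hk : evalS e (Z.getD k []) = 0 ∧ inb C.reps.length (Z.getD k []) = true := by
                  by_cases hk : k < Z.length
                  · rw [List.getD_eq_getElem _ _ hk]; exact hZ _ (List.getElem_mem hk)
                  · rw [List.getD_eq_default _ _ (Nat.le_of_not_lt hk)]; exact ⟨rfl, rfl⟩
                have this : _ ∧ evalS e _ = _ • evalS e _ := evalS_imgV hp hE hQ (tabs t ht) (Z.getD k []) hk.2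
                intro z hz
                rcases List.mem_append.1 hz with hz | hz
                · exact hZ z hz
                · rw [List.mem_singleton.1 hz]
                  refine ⟨?_, this.1⟩
                  show evalS e _ = 0
                  rw [this.2]
                  show _ • evalS e _ = 0
                  rw [hk.1, smul_zero]
              · simp at hs
          | fix w si hh D =>
              simp only [stepOK] at hs
              split at hs
              · rename_i hc
                simp only [Option.some.injEq] at hs
                subst hs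
                simp only [Bool.and_eq_true, decide_eq_true_eq] at hc
                obtain ⟨⟨hw, hsi⟩, hfix⟩ := hc
                have hS : Killed n V (HS.getD si []) := by
                  rw [List.getD_eq_getElem _ _ hsi]; exact hHS _ (List.getElem_mem hsi)
                have hW : evalS e w = 0 := by
                  have key : ∀ (S : List (List ℕ × ℕ)) (D : List (ℕ × List (ℕ × ℕ))),
                      fixOK p n E Qs C.tabs Z w hh S D = true →
                      ∀ x ∈ S, ∀ a : alternatingGroup (Fin n), imgL a = x.1 →
                        a • ((eltOf n (el n E hh))⁻¹ • evalS e w) =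
                          x.2 • ((eltOf n (el n E hh))⁻¹ • evalS e w) := by
                    intro S
                    induction S with
                    | nil => intro D _ x hx; simp at hx
                    | cons y S ihS =>
                        intro D hD x hx a ha
                        obtain ⟨l, s⟩ := y
                        cases D with
                        | nil => simp [fixOK] at hD
                        | cons d D =>
                          obtain ⟨ti, cb⟩ := d
                          simp only [fixOK, Bool.and_eq_true, decide_eq_true_eq, beq_iff_eq] at hD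
                          obtain ⟨⟨⟨hti, hconj⟩, hz⟩, hrest⟩ := hD
                          rcases List.mem_cons.1 hx with hx | hx
                          · subst hx
                            have him : _ ∧ evalS e _ = _ • evalS e _ := evalS_imgV hp hE hQ (tabs ti hti) w hw
                            have h0 := evalS_of_isZ hp e hz
                            rw [evalS_append, evalS_append, evalS_scale,
                              evalS_comb e (fun z hz => (hZ z hz).1), add_zero, him.2] at h0
                            set ax := eltOf n (el n E (C.tabs.getD ti (0, [])).1) with hax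
                            set ah := eltOf n (el n E hh) with hah
                            have hfixW : ax • evalS e w = s • evalS e w := by
                              have hcancel : (p - s % p) • evalS e w + s • evalS e w = 0 := by
                                rw [← mod_nsmul' hp s, ← add_nsmul,
                                  Nat.sub_add_cancel (Nat.mod_lt _ hpp.out.pos).le, hp]
                              exact add_right_cancel (h0.trans (hcancel.symm.trans (add_comm _ _)))
                            have hrel : ax * ah = ah * a := by
                              apply imgL_injective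
                              rw [imgL_mul, imgL_mul, imgL_eltOf (n := n) (valid_el hE _),
                                imgL_eltOf (n := n) (valid_el hE _), ha]
                              exact hconj
                            have : a * ah⁻¹ = ah⁻¹ * ax := by
                              calc a * ah⁻¹ = ah⁻¹ * (ah * a) * ah⁻¹ := by group
                                _ = ah⁻¹ * (ax * ah) * ah⁻¹ := by rw [hrel]
                                _ = ah⁻¹ * ax := by group
                            rw [← mul_smul, this, mul_smul, hfixW, act_nsmul]
                          · exact ihS D hrest x hx a ha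
                  have := hS _ (key _ _ hfix)
                  exact (smul_eq_zero_iff_eq _).1 this
                intro z hz
                rcases List.mem_append.1 hz with hz | hz
                · exact hZ z hz
                · rw [List.mem_singleton.1 hz]; exact ⟨hW, hw⟩
              · simp at hs
  cases hss : stepsOK p n E C.reps Qs C.tabs HS C.steps [] with
  | none => rw [hss] at hsteps; simp at hsteps
  | some Z =>
    rw [hss] at hsteps
    have hz := evalS_of_isZ hp e hsteps
    rw [evalS, evalS_comb e (main _ _ _ hss (by simp)), add_zero] at hz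
    have he0 : e C.i0 = v := by
      show eltOf n (el n E (C.reps.getD C.i0 0)) • v = v
      have : eltOf n (el n E (C.reps.getD C.i0 0)) = 1 :=
        imgL_injective (by rw [imgL_eltOf (valid_el hE _), imgL_one]; exact hR0)
      rw [this, one_smul]
    simp only at hz
    rw [he0] at hz
    by_contra hv0
    have h1 : addOrderOf v = p := addOrderOf_eq_prime (hp v) hv0
    have h2 := addOrderOf_dvd_of_nsmul_eq_zero hz
    rw [h1] at h2
    exact hc0 (Nat.mod_eq_zero_of_dvd h2)

end CfsgLib.SolvCent
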