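import Cfsg.Agent.Lib.SolvCent.Base
import Cfsg.Agent.Lib.SolvCent.Sound
import Cfsg.Agent.Lib.SolvCent.FiveA
import Cfsg.Agent.Lib.SolvCent.FiveB
import Cfsg.Agent.Lib.SolvCent.FiveC
import Cfsg.Agent.Lib.SolvCent.FiveD
import Cfsg.Agent.Lib.SolvCent.FiveE
import Cfsg.Agent.Lib.SolvCent.FiveF

/-!
# Modules of A10 in characteristic 5 have vectors fixed by non-solvable subgroups
-/

set_option autoImplicit false

namespace CfsgLib.SolvCent.Five

open Equiv

/-- An even permutation as an element of A10. -/
def ev (g : Perm (Fin 10)) (h : Perm.sign g = 1 := by decide +kernel) : alternatingGroup (Fin 10) :=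
  ⟨g, Perm.mem_alternatingGroup.2 h⟩

/-- (0 1 2 3 4) -/
def cA : alternatingGroup (Fin 10) := ev (List.formPerm [0, 1, 2, 3, 4])
/-- (0 1 2) -/
def cB : alternatingGroup (Fin 10) := ev (List.formPerm [0, 1, 2])
/-- (5 6 7 8 9) -/
def cA' : alternatingGroup (Fin 10) := ev (List.formPerm [5, 6, 7, 8, 9])
/-- (5 6 7) -/
def cB' : alternatingGroup (Fin 10) := ev (List.formPerm [5, 6, 7])
/-- (5 6 7 9 8) -/
def cA'' : alternatingGroup (Fin 10) := ev (List.formPerm [5, 6, 7, 9, 8])
/-- (4 5 6 7 8) -/
def cT : alternatingGroup (Fin 10) := ev (List.formPerm [4, 5, 6, 7, 8])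
/-- (4 9)(5 8) -/
def cU : alternatingGroup (Fin 10) := ev (List.formPerm [4, 9] * List.formPerm [5, 8])
/-- (0 5)(1 6)(2 7)(3 8) -/
def cH : alternatingGroup (Fin 10) :=
  ev (List.formPerm [0, 5] * List.formPerm [1, 6] * List.formPerm [2, 7] * List.formPerm [3, 8])

variable {V : Type*} [AddCommGroup V] [DistribMulAction (alternatingGroup (Fin 10)) V]

theorem five_killed (hV : NoFix 10 V) : ∀ S ∈ fourFourHyps, Killed 10 V S := by
  intro S hS
  simp only [fourFourHyps, List.mem_cons, List.not_mem_nil, or_false] at hS
  rcases hS with rfl | rfl | rfl | rfl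
  · exact killed_of_noFix hV cA cB (by decide +kernel) (by decide +kernel) (by decide +kernel)
      [true] [true, false, true, false] [false, false] [false, true, false, true] (by decide +kernel) (by decide +kernel)
  · exact killed_of_noFix hV cA' cB' (by decide +kernel) (by decide +kernel) (by decide +kernel)
      [true] [true, false, true, false] [false, false] [false, true, false, true] (by decide +kernel) (by decide +kernel)
  · exact killed_of_noFix hV (cA * cA') (cB * cB') (by decide +kernel) (by decide +kernel) (by decide +kernel)
      [true] [true, false, true, false] [false, false] [false, true, false, true] (by decide +kernel) (by decide +kernel)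
  · exact killed_of_noFix hV (cA * cA'') (cB * cB') (by decide +kernel) (by decide +kernel) (by decide +kernel)
      [true] [true, false, true, false] [false, false] [false, true, false, true] (by decide +kernel) (by decide +kernel)

theorem six_killed (hV : NoFix 10 V) : Killed 10 V (fourFiveHyps.getD 1 []) :=
  killed_of_noFix hV cT cU (by decide +kernel) (by decide +kernel) (by decide +kernel)
    [true, false, true] [true, false, false] [false, false, false, true, false]
    [false, false, false, true, false, true] (by decide +kernel) (by decide +kernel)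

theorem valid_ev (g : alternatingGroup (Fin 10)) {l : List ℕ} (h : imgL g = l) : Valid 10 l := ⟨g, h⟩

theorem valid_all (l : List ℕ)
    (h : l ∈ [imgL cA, imgL cB, imgL cA', imgL cB'] ++ fourFourTarget.map Prod.fst ++ fourTenTarget.map Prod.fst ++
      fourFiveGens ++ kleinSixTarget.map Prod.fst ++ kleinFiveGens) : Valid 10 l := by
  simp only [fourFourTarget, fourTenTarget, fourFiveGens, kleinSixTarget, kleinFiveGens, List.map_cons,
    List.map_nil, List.cons_append, List.nil_append, List.mem_cons, List.not_mem_nil, or_false] at h
  rcases h with rfl | rfl | rfl | rfl | h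
  · exact ⟨cA, rfl⟩
  · exact ⟨cB, rfl⟩
  · exact ⟨cA', rfl⟩
  · exact ⟨cB', rfl⟩
  rcases h with rfl | rfl | rfl | rfl | rfl | rfl | rfl | rfl | rfl | rfl | rfl | rfl | rfl | rfl | rfl | rfl |
    rfl | rfl | rfl | rfl
  all_goals first
    | exact valid_ev cA' (by decide +kernel)
    | exact valid_ev cB (by decide +kernel)
    | exact valid_ev cB' (by decide +kernel)
    | exact valid_ev (ev (List.formPerm [0, 1] * List.formPerm [2, 3])) (by decide +kernel)
    | exact valid_ev (ev (List.formPerm [0, 2] * List.formPerm [1, 3])) (by decide +kernel)
    | exact valid_ev (ev (List.formPerm [5, 6] * List.formPerm [7, 8])) (by decide +kernel)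
    | exact valid_ev (ev (List.formPerm [5, 6] * List.formPerm [8, 9])) (by decide +kernel)
    | exact valid_ev (ev (List.formPerm [6, 9] * List.formPerm [7, 8])) (by decide +kernel)
    | exact valid_ev (ev (List.formPerm [4, 5, 6])) (by decide +kernel)

variable [Finite V]

/-- The characteristic-5 module fact. -/
theorem exists_fixed [Nontrivial V] (hp : ∀ v : V, 5 • v = 0) :
    ∃ w : V, w ≠ 0 ∧ ∃ S : Subgroup (alternatingGroup (Fin 10)), ¬ Group.IsSolvable S ∧ ∀ s ∈ S, s • w = w := by
  haveI : Fact (Nat.Prime 5) := ⟨by decide⟩
  by_contra hcon
  have hV : NoFix 10 V := fun w hw S hS => by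
    by_contra h
    exact hcon ⟨w, hw, S, hS, fun s hs => by by_contra h'; exact h ⟨s, hs, h'⟩⟩
  have base := five_killed hV
  have g55 : ∀ l ∈ fourFourGens, Valid 10 l := fun l hl => valid_all l (by revert l; decide +kernel)
  have k1 : Killed 10 V fourFourTarget :=
    killed_of_check hp fourFourCert g55 (fun x hx => valid_all _ (by revert x; decide +kernel)) base fourFourCheck
  have k2 : Killed 10 V fourTenTarget :=
    killed_of_check hp fourTenCert (fun l hl => valid_all l (by revert l; decide +kernel))
      (fun x hx => valid_all _ (by revert x; decide +kernel))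
      (fun S hS => by
        have e : fourTenHyps = fourFourHyps ++ [fourFourTarget] := by decide +kernel
        rw [e, List.mem_append, List.mem_singleton] at hS
        rcases hS with hS | rfl
        · exact base S hS
        · exact k1) fourTenCheck
  have k3 : Killed 10 V fourFiveTarget :=
    killed_of_check hp fourFiveCert (fun l hl => valid_all l (by revert l; decide +kernel))
      (fun x hx => valid_all _ (by revert x; decide +kernel))
      (fun S hS => by
        have e : fourFiveHyps =
            [fourFourHyps.getD 1 [], fourFiveHyps.getD 1 [], fourFourTarget, fourTenTarget] := by decide +kernel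
        rw [e] at hS
        simp only [List.mem_cons, List.not_mem_nil, or_false] at hS
        rcases hS with rfl | rfl | rfl | rfl
        · exact base _ (by decide +kernel)
        · exact six_killed hV
        · exact k1
        · exact k2) fourFiveCheck
  have kA : Killed 10 V (kleinSixHyps.getD 4 []) :=
    Killed.of_fix hp cA' (ly := imgL cA') rfl (by decide +kernel) (by decide +kernel) (by
      have e : kleinSixHyps.getD 4 [] ++ [(imgL cA', 1)] = fourFiveTarget := by decide +kernel
      rw [e]; exact k3)
  have kA' : Killed 10 V (kleinSixHyps.getD 5 []) :=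
    kA.conj cH (fun x hx => valid_all _ (by revert x; decide +kernel)) (by decide +kernel)
  have k4 : Killed 10 V kleinSixTarget :=
    killed_of_check hp kleinSixCert (fun l hl => valid_all l (by revert l; decide +kernel))
      (fun x hx => valid_all _ (by revert x; decide +kernel))
      (fun S hS => by
        have e : kleinSixHyps = fourFourHyps ++ [kleinSixHyps.getD 4 [], kleinSixHyps.getD 5 []] := by
          decide +kernel
        rw [e, List.mem_append] at hS
        rcases hS with hS | hS
        · exact base S hS
        · simp only [List.mem_cons, List.not_mem_nil, or_false] at hS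
          rcases hS with rfl | rfl
          · exact kA
          · exact kA') kleinSixCheck
  have k5 : Killed 10 V kleinFiveTarget :=
    killed_of_check hp kleinFiveCert (fun l hl => valid_all l (by revert l; decide +kernel))
      (fun x hx => valid_all _ (by revert x; decide +kernel))
      (fun S hS => by
        have e : kleinFiveHyps = [kleinSixTarget] := by decide +kernel
        rw [e, List.mem_singleton] at hS
        rw [hS]; exact k4) kleinFiveCheck
  have kV : Killed 10 V (fiveFiveHyps.getD 4 []) :=
    Killed.of_fix hp cA' (ly := imgL cA') rfl (by decide +kernel) (by decide +kernel) (by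
      have e : fiveFiveHyps.getD 4 [] ++ [(imgL cA', 1)] = kleinFiveTarget := by decide +kernel
      rw [e]; exact k5)
  have kV' : Killed 10 V (fiveFiveHyps.getD 5 []) :=
    kV.conj cH (fun x hx => by
      have : x.1 = [0, 1, 2, 3, 4, 6, 5, 8, 7, 9] ∨ x.1 = [0, 1, 2, 3, 4, 7, 8, 5, 6, 9] := by
        revert x; decide +kernel
      rcases this with h | h <;> rw [h]
      · exact valid_ev (ev (List.formPerm [5, 6] * List.formPerm [7, 8])) (by decide +kernel)
      · exact valid_ev (ev (List.formPerm [5, 7] * List.formPerm [6, 8])) (by decide +kernel))
      (by decide +kernel)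
  have k6 : Killed 10 V fiveFiveTarget :=
    killed_of_check hp fiveFiveCert (fun l hl => valid_all l (by revert l; decide +kernel))
      (fun x hx => valid_all _ (by revert x; decide +kernel))
      (fun S hS => by
        have e : fiveFiveHyps = fourFourHyps ++ [fiveFiveHyps.getD 4 [], fiveFiveHyps.getD 5 []] := by
          decide +kernel
        rw [e, List.mem_append] at hS
        rcases hS with hS | hS
        · exact base S hS
        · simp only [List.mem_cons, List.not_mem_nil, or_false] at hS
          rcases hS with rfl | rfl
          · exact kV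
          · exact kV') fiveFiveCheck
  have k7 : Killed 10 V [(imgL cA, 1)] :=
    Killed.of_fix hp cA' (ly := imgL cA') rfl (by decide +kernel) (by decide +kernel) (by
      have e : [(imgL cA, 1)] ++ [(imgL cA', 1)] = fiveFiveTarget := by decide +kernel
      rw [e]; exact k6)
  have k8 : Killed 10 V [] :=
    Killed.of_fix hp cA (ly := imgL cA) rfl (by decide +kernel) (by simp) k7
  obtain ⟨v, hv⟩ := exists_ne (0 : V)
  exact hv (k8 v (by simp [SFix]))

end CfsgLib.SolvCent.Five
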