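import Cfsg.Agent.Lib.SolvCent.Reduce
import Cfsg.Agent.Lib.SolvCent.FiveMain
import Mathlib.GroupTheory.Perm.ViaEmbedding
import Mathlib.GroupTheory.Perm.Fin

/-!
# Alternating sections of groups whose non-central p-elements have solvable centralisers

Assembly for all odd primes other than 3, and the reduction for the prime 2.
-/

set_option autoImplicit false

namespace CfsgLib.SolvCent

open Equiv

universe u

/-- The embedding of alternating groups along an embedding of point sets. -/
noncomputable def altEmb {α β : Type*} [Fintype α] [DecidableEq α] [Fintype β] [DecidableEq β] (ι : α ↪ β) :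
    alternatingGroup α →* alternatingGroup β :=
  ((Perm.viaEmbeddingHom ι).comp (alternatingGroup α).subtype).codRestrict (alternatingGroup β) fun g => by
    rw [Perm.mem_alternatingGroup]
    show Perm.sign (Perm.viaEmbedding (g : Perm α) ι) = 1
    rw [Perm.viaEmbedding, Perm.sign_extendDomain, Perm.mem_alternatingGroup.1 g.2]

theorem altEmb_injective {α β : Type*} [Fintype α] [DecidableEq α] [Fintype β] [DecidableEq β] (ι : α ↪ β) :
    Function.Injective (altEmb ι) := fun a b h =>
  Subtype.ext (Perm.viaEmbeddingHom_injective ι (congrArg Subtype.val h))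

variable {G : Type u} [Group G] [Finite G]

/-- A minimal cover of a subgroup of a section. -/
theorem exists_cover {X H : Type*} [Group X] [Group H] {K R : Subgroup G} [(R.subgroupOf K).Normal]
    (e : K ⧸ R.subgroupOf K ≃* X) (f : H →* X) (hf : Function.Injective f) :
    ∃ (K' : Subgroup G) (χ : K' →* H), Function.Surjective χ ∧ Group.IsNilpotent χ.ker := by
  let q : K →* X := e.toMonoidHom.comp (QuotientGroup.mk' (R.subgroupOf K))
  have hq : Function.Surjective q := e.surjective.comp (QuotientGroup.mk'_surjective _)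
  let L : Subgroup K := f.range.comap q
  let L' : Subgroup G := L.map K.subtype
  let e2 := (L.equivMapOfInjective K.subtype K.subtype_injective).symm
  let r : L →* H := (MonoidHom.ofInjective hf).symm.toMonoidHom.comp
    ((q.comp L.subtype).codRestrict f.range fun x => x.2)
  have hr : Function.Surjective r := by
    intro h
    obtain ⟨k, hk⟩ := hq (f h)
    refine ⟨⟨k, ⟨h, hk.symm⟩⟩, ?_⟩
    show (MonoidHom.ofInjective hf).symm ⟨q k, _⟩ = h
    rw [MulEquiv.symm_apply_eq]
    exact Subtype.ext hk
  exact exists_minimal_cover (K0 := L') (r.comp e2.toMonoidHom) (hr.comp e2.surjective)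

/-- For a prime `p` at least 7 the section `A_{p+5}` is impossible. -/
theorem false_big {p : ℕ} [Fact p.Prime] (h7 : 7 ≤ p) (h : SolvableCentralizers p G)
    {K : Subgroup G} (χ : K →* alternatingGroup (Fin 5 ⊕ Fin p)) (hχ : Function.Surjective χ)
    (hnil : Group.IsNilpotent χ.ker) : False := by
  have hp : p.Prime := Fact.out
  obtain ⟨k, rfl⟩ : ∃ k, p = k + 2 := ⟨p - 2, by omega⟩
  have hodd : Odd (k + 2) := hp.odd_of_ne_two (by omega)
  let f : alternatingGroup (Fin 5) →* alternatingGroup (Fin 5 ⊕ Fin (k + 2)) :=
    ((Perm.sumCongrHom (Fin 5) (Fin (k + 2))).comp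
      ((alternatingGroup (Fin 5)).subtype.prod 1)).codRestrict _ fun g => by
        rw [Perm.mem_alternatingGroup]
        show Perm.sign (Perm.sumCongr (g : Perm (Fin 5)) 1) = 1
        rw [Perm.sign_sumCongr, Perm.mem_alternatingGroup.1 g.2, map_one, mul_one]
  have hf : Function.Injective f := fun a b hab => by
    have h1 : Perm.sumCongr (a : Perm (Fin 5)) (1 : Perm (Fin (k + 2))) = Perm.sumCongr (b : Perm (Fin 5)) 1 :=
      congrArg Subtype.val hab
    refine Subtype.ext (Equiv.ext fun i => ?_)
    simpa using Equiv.congr_fun h1 (Sum.inl i)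
  have hmem : Perm.sumCongr (1 : Perm (Fin 5)) (finRotate (k + 2)) ∈ alternatingGroup (Fin 5 ⊕ Fin (k + 2)) := by
    rw [Perm.mem_alternatingGroup, Perm.sign_sumCongr, map_one, one_mul, sign_finRotate]
    obtain ⟨j, hj⟩ := hodd
    rw [show k + 2 - 1 = 2 * j by omega, pow_mul]; simp
  set y0 : alternatingGroup (Fin 5 ⊕ Fin (k + 2)) := ⟨_, hmem⟩ with hy0def
  have hy0 : orderOf y0 = k + 2 := by
    rw [← Subgroup.orderOf_coe]
    show orderOf (Perm.sumCongr (1 : Perm (Fin 5)) (finRotate (k + 2))) = k + 2
    have : Perm.sumCongr (1 : Perm (Fin 5)) (finRotate (k + 2)) =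
        Perm.sumCongrHom (Fin 5) (Fin (k + 2)) (1, finRotate (k + 2)) := rfl
    rw [this, orderOf_injective _ Perm.sumCongrHom_injective, Prod.orderOf_mk, orderOf_one, Nat.lcm_one_left,
      (isCycle_finRotate (n := k)).orderOf, support_finRotate, Finset.card_univ, Fintype.card_fin]
  have hcen : y0 ∉ Subgroup.center (alternatingGroup (Fin 5 ⊕ Fin (k + 2))) := by
    rw [alternatingGroup.center_eq_bot (by simp; omega), Subgroup.mem_bot]
    intro h1
    rw [h1, orderOf_one] at hy0
    omega
  have hns : ¬ Group.IsSolvable f.range := fun hs => by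
    have := Group.isSolvable_of_isSolvable_injective (f := (MonoidHom.ofInjective hf).toMonoidHom)
      (MonoidHom.ofInjective hf).injective
    exact Equiv.Perm.fin_5_not_solvable (Group.isSolvable_of_ker_le_range (alternatingGroup (Fin 5)).subtype
      Perm.sign (by rw [Subgroup.range_subtype]; exact fun x hx => hx))
  have hcard : ¬ (k + 2) ∣ Nat.card f.range := by
    rw [← Nat.card_congr (MonoidHom.ofInjective hf).toEquiv, Nat.card_eq_fintype_card]
    intro hd
    have h60 : Fintype.card (alternatingGroup (Fin 5)) = 60 := rfl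
    rw [h60, show 60 = 2 ^ 2 * 3 * 5 from rfl] at hd
    rcases hp.dvd_mul.1 hd with hd | hd
    · rcases hp.dvd_mul.1 hd with hd | hd
      · have := Nat.le_of_dvd (by norm_num) (hp.dvd_of_dvd_pow hd); omega
      · have := Nat.le_of_dvd (by norm_num) hd; omega
    · have := Nat.le_of_dvd (by norm_num) hd; omega
  refine false_of_coprime (solvableCentralizers_subgroup h K) χ hχ hnil hy0 hcen hns ?_ hcard
  rintro _ ⟨a, rfl⟩
  refine Subtype.ext (Equiv.ext fun x => ?_)
  show Perm.sumCongr (a : Perm (Fin 5)) (1 : Perm (Fin (k + 2)))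
      (Perm.sumCongr (1 : Perm (Fin 5)) (finRotate (k + 2)) x) =
    Perm.sumCongr (1 : Perm (Fin 5)) (finRotate (k + 2))
      (Perm.sumCongr (a : Perm (Fin 5)) (1 : Perm (Fin (k + 2))) x)
  rcases x with x | x <;> simp

open Five in
/-- For `p = 5` the section `A_10` is impossible. -/
theorem false_five (h : SolvableCentralizers 5 G)
    {K : Subgroup G} (χ : K →* alternatingGroup (Fin 10)) (hχ : Function.Surjective χ)
    (hnil : Group.IsNilpotent χ.ker) : False := by
  haveI : Fact (Nat.Prime 5) := ⟨by decide⟩
  refine false_of_module (solvableCentralizers_subgroup h K) χ hχ hnil (y0 := cA')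
    (orderOf_eq_prime (by decide +kernel) (by decide +kernel))
    (fun hc => absurd (Subgroup.mem_center_iff.1 hc cB') (by decide +kernel))
    (S0 := Subgroup.closure {cA, cB})
    (not_isSolvable_closure cA cB (by decide +kernel) [true] [true, false, true, false] [false, false]
      [false, true, false, true] (by decide +kernel) (by decide +kernel)) ?_ ?_
  · intro s hs
    have hle : Subgroup.closure ({cA, cB} : Set (alternatingGroup (Fin 10))) ≤
        Subgroup.centralizer {cA'} := by
      rw [Subgroup.closure_le]
      intro x hx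
      rcases hx with hx | hx <;> rw [hx] <;>
        exact Subgroup.mem_centralizer_singleton_iff.2 (by decide +kernel)
    exact Subgroup.mem_centralizer_singleton_iff.1 (hle hs)
  · intro V _ _ _ _ hV
    exact Five.exists_fixed hV

/-- The bound for odd primes other than 3. -/
theorem degree_le_of_odd {p : ℕ} [Fact p.Prime] (hp2 : p ≠ 2) (hp3 : p ≠ 3) (h : SolvableCentralizers p G)
    {d : ℕ} {K R : Subgroup G} [(R.subgroupOf K).Normal]
    (e : K ⧸ R.subgroupOf K ≃* alternatingGroup (Fin d)) : d ≤ p + 4 := by
  by_contra hd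
  have hp : p.Prime := Fact.out
  by_cases h5 : p = 5
  · subst h5
    obtain ⟨K', χ, hχ, hnil⟩ := exists_cover e (altEmb (Fin.castLEEmb (show 10 ≤ d by omega))) (altEmb_injective _)
    exact false_five h χ hχ hnil
  · have h4 : p ≠ 4 := fun hh => absurd (hh ▸ hp) (by decide)
    have h6 : p ≠ 6 := fun hh => absurd (hh ▸ hp) (by decide)
    have hb : p ≥ 7 := by have := hp.two_le; omega
    obtain ⟨K', χ, hχ, hnil⟩ := exists_cover e
      (altEmb ((finSumFinEquiv (m := 5) (n := p)).toEmbedding.trans (Fin.castLEEmb (show 5 + p ≤ d by omega))))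
      (altEmb_injective _)
    exact false_big hb h χ hχ hnil

end CfsgLib.SolvCent
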