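import Cfsg.Agent.Lib.SolvCent.Main

/-!
# The prime 2: reduction to modules of the alternating group of degree 9
-/

set_option autoImplicit false

namespace CfsgLib.SolvCent

universe u

/-- (4 5 6 7 8) -/
def nA : alternatingGroup (Fin 9) :=
  ⟨List.formPerm [4, 5, 6, 7, 8], Equiv.Perm.mem_alternatingGroup.2 (by decide +kernel)⟩
/-- (4 5 6) -/
def nB : alternatingGroup (Fin 9) :=
  ⟨List.formPerm [4, 5, 6], Equiv.Perm.mem_alternatingGroup.2 (by decide +kernel)⟩
/-- (0 1)(2 3) -/
def nY : alternatingGroup (Fin 9) :=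
  ⟨List.formPerm [0, 1] * List.formPerm [2, 3], Equiv.Perm.mem_alternatingGroup.2 (by decide +kernel)⟩

variable {G : Type u} [Group G] [Finite G]

/-- For `p = 2` the section `A_9` is impossible, given the module fact. -/
theorem degree_le_two (h : SolvableCentralizers 2 G)
    (hmod : ∀ (V : Type u) [AddCommGroup V] [Finite V] [Nontrivial V]
      [DistribMulAction (alternatingGroup (Fin 9)) V], (∀ v : V, 2 • v = 0) →
      ∃ w : V, w ≠ 0 ∧ ∃ S : Subgroup (alternatingGroup (Fin 9)), ¬ Group.IsSolvable S ∧ ∀ s ∈ S, s • w = w)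
    {d : ℕ} {K R : Subgroup G} [(R.subgroupOf K).Normal]
    (e : K ⧸ R.subgroupOf K ≃* alternatingGroup (Fin d)) : d ≤ 8 := by
  by_contra hd
  haveI : Fact (Nat.Prime 2) := ⟨Nat.prime_two⟩
  obtain ⟨K', χ, hχ, hnil⟩ :=
    exists_cover e (altEmb (Fin.castLEEmb (show 9 ≤ d by omega))) (altEmb_injective _)
  refine false_of_module (solvableCentralizers_subgroup h K') χ hχ hnil (y0 := nY)
    (orderOf_eq_prime (by decide +kernel) (by decide +kernel))
    (fun hc => absurd (Subgroup.mem_center_iff.1 hc ⟨List.formPerm [1, 2, 4],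
      Equiv.Perm.mem_alternatingGroup.2 (by decide +kernel)⟩) (by decide +kernel))
    (S0 := Subgroup.closure {nA, nB})
    (not_isSolvable_closure nA nB (by decide +kernel) [true] [true, false, true, false] [false, false]
      [false, true, false, true] (by decide +kernel) (by decide +kernel)) ?_ hmod
  intro s hs
  have hle : Subgroup.closure ({nA, nB} : Set (alternatingGroup (Fin 9))) ≤ Subgroup.centralizer {nY} := by
    rw [Subgroup.closure_le]
    intro x hx
    rcases hx with hx | hx <;> rw [hx] <;>
      exact Subgroup.mem_centralizer_singleton_iff.2 (by decide +kernel)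
  exact Subgroup.mem_centralizer_singleton_iff.1 (hle hs)

end CfsgLib.SolvCent
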