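import Mathlib.GroupTheory.SpecificGroups.Alternating
import Mathlib.Data.List.OfFn
import Mathlib.Data.List.GetD

/-!
# Even permutations as lists of images, and fixed-vector hypotheses stated on such lists
-/

set_option autoImplicit false

namespace CfsgLib.SolvCent

variable {n : ℕ}

/-- The list of images of an even permutation. -/
def imgL (a : alternatingGroup (Fin n)) : List ℕ := List.ofFn fun i => ((a : Equiv.Perm (Fin n)) i : ℕ)

/-- Composition of lists of images (`g` first). -/
def comp (f g : List ℕ) : List ℕ := g.map fun i => f.getD i 0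

/-- The list is the image list of an even permutation. -/
def Valid (n : ℕ) (l : List ℕ) : Prop := ∃ a : alternatingGroup (Fin n), imgL a = l

theorem imgL_injective {a b : alternatingGroup (Fin n)} (h : imgL a = imgL b) : a = b :=
  Subtype.ext (Equiv.ext fun i => Fin.ext (congrFun (List.ofFn_inj.1 h) i))

theorem imgL_mul (a b : alternatingGroup (Fin n)) : imgL (a * b) = comp (imgL a) (imgL b) := by
  simp [imgL, comp, List.map_ofFn, Function.comp_def]

theorem imgL_one : imgL (1 : alternatingGroup (Fin n)) = List.range n := by
  simp [imgL, List.ext_get_iff]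

theorem valid_range : Valid n (List.range n) := ⟨1, imgL_one⟩

theorem valid_comp {f g : List ℕ} (hf : Valid n f) (hg : Valid n g) : Valid n (comp f g) := by
  obtain ⟨a, rfl⟩ := hf
  obtain ⟨b, rfl⟩ := hg
  exact ⟨a * b, imgL_mul a b⟩

/-- Elements built from generators: each entry multiplies an earlier one by a generator. -/
def buildEls (n : ℕ) (gens : List (List ℕ)) : List (ℕ × ℕ) → List (List ℕ) → List (List ℕ)
  | [], acc => acc
  | (g, q) :: r, acc =>
      buildEls n gens r (acc ++ [comp (gens.getD g (List.range n)) (acc.getD q (List.range n))])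

theorem valid_getD {L : List (List ℕ)} (h : ∀ l ∈ L, Valid n l) (i : ℕ) :
    Valid n (L.getD i (List.range n)) := by
  by_cases hi : i < L.length
  · rw [List.getD_eq_getElem _ _ hi]; exact h _ (List.getElem_mem hi)
  · rw [List.getD_eq_default _ _ (Nat.le_of_not_lt hi)]; exact valid_range

theorem valid_buildEls {gens : List (List ℕ)} (hg : ∀ l ∈ gens, Valid n l) :
    ∀ (ch : List (ℕ × ℕ)) (acc : List (List ℕ)), (∀ l ∈ acc, Valid n l) →
      ∀ l ∈ buildEls n gens ch acc, Valid n l
  | [], acc, hacc => hacc
  | (g, q) :: r, acc, hacc => by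
      rw [buildEls]
      refine valid_buildEls hg r _ fun l hl => ?_
      rcases List.mem_append.1 hl with hl | hl
      · exact hacc l hl
      · rw [List.mem_singleton.1 hl]
        exact valid_comp (valid_getD hg g) (valid_getD hacc q)

section Module

variable {V : Type*} [AddCommGroup V] [DistribMulAction (alternatingGroup (Fin n)) V]

/-- Every listed permutation multiplies `w` by the listed scalar. -/
def SFix (n : ℕ) {V : Type*} [AddCommGroup V] [DistribMulAction (alternatingGroup (Fin n)) V]
    (S : List (List ℕ × ℕ)) (w : V) : Prop :=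
  ∀ x ∈ S, ∀ a : alternatingGroup (Fin n), imgL a = x.1 → a • w = x.2 • w

/-- No non-zero vector satisfies `SFix`. -/
def Killed (n : ℕ) (V : Type*) [AddCommGroup V] [DistribMulAction (alternatingGroup (Fin n)) V]
    (S : List (List ℕ × ℕ)) : Prop :=
  ∀ w : V, SFix n S w → w = 0

theorem Killed.mono {S T : List (List ℕ × ℕ)} (h : Killed n V S) (hST : S ⊆ T) : Killed n V T :=
  fun w hw => h w fun x hx => hw x (hST hx)

end Module

end CfsgLib.SolvCent
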