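import Mathlib.GroupTheory.SpecificGroups.Alternating
import Mathlib.GroupTheory.Frattini
import Mathlib.GroupTheory.Perm.Cycle.Type
import Mathlib.GroupTheory.Sylow
import Mathlib.GroupTheory.PGroup
import Mathlib.Tactic.Group
import Cfsg.Agent.Lib.OddLocal.FittingHall
import Cfsg.Agent.Lib.PLength.Constrained

/-!
# Non-central p-elements with solvable centralisers: reduction to modules of the simple section

If all non-central `p`-elements of `K` have solvable centraliser and `χ : K → H` is onto with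
nilpotent kernel, then `H` has no element of order `p` centralising a non-solvable `p'`-subgroup,
and, if it has one centralising a non-solvable subgroup, some non-trivial module of exponent `p`
of `H` has no non-zero vector fixed by a non-solvable subgroup.
-/

set_option autoImplicit false

namespace CfsgLib.SolvCent

open Subgroup

universe u

/-- The hypothesis: non-central `p`-elements have solvable centralisers. -/
def SolvableCentralizers (p : ℕ) (G : Type*) [Group G] : Prop :=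
  ∀ x : G, x ∉ center G → (∃ k : ℕ, orderOf x = p ^ k) → Group.IsSolvable (centralizer ({x} : Set G))

theorem isSolvable_of_le {G : Type*} [Group G] {A B : Subgroup G} (h : A ≤ B) (hB : Group.IsSolvable B) :
    Group.IsSolvable A :=
  Group.isSolvable_of_isSolvable_injective (inclusion_injective h)

theorem isSolvable_map {G H : Type*} [Group G] [Group H] (f : G →* H) {A : Subgroup G}
    (h : Group.IsSolvable A) : Group.IsSolvable (A.map f) :=
  Group.isSolvable_of_surjective (f := f.subgroupMap A) (f.subgroupMap_surjective A)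

theorem solvableCentralizers_subgroup {p : ℕ} {G : Type*} [Group G] (h : SolvableCentralizers p G)
    (K : Subgroup G) : SolvableCentralizers p K := by
  intro x hx hxp
  have hxG : (x : G) ∉ center G := fun hc =>
    hx (mem_center_iff.2 fun g => Subtype.ext (mem_center_iff.1 hc (g : G)))
  obtain ⟨k, hk⟩ := hxp
  have := h (x : G) hxG ⟨k, by rw [orderOf_coe]; exact hk⟩
  have hle : (centralizer ({x} : Set K)).map K.subtype ≤ centralizer ({(x : G)} : Set G) := by
    rintro _ ⟨y, hy, rfl⟩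
    exact mem_centralizer_singleton_iff.2 (congrArg Subtype.val (mem_centralizer_singleton_iff.1 hy))
  have e := equivMapOfInjective (centralizer ({x} : Set K)) K.subtype K.subtype_injective
  have h2 := isSolvable_of_le hle this
  exact Group.isSolvable_of_isSolvable_injective (f := e.toMonoidHom) e.injective

/-- A preimage of prime power order of an element of order `p`. -/
theorem exists_pElement {K H : Type*} [Group K] [Finite K] [Group H] {p : ℕ} [hp : Fact p.Prime]
    (χ : K →* H) {y0 : H} (hy0 : orderOf y0 = p) {z : K} (hz : χ z = y0) :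
    ∃ y ∈ zpowers z, χ y = y0 ∧ ∃ k : ℕ, orderOf y = p ^ k := by
  obtain ⟨k, m, hm, hord⟩ := Nat.exists_eq_pow_mul_and_not_dvd (orderOf_pos z).ne' p hp.out.ne_one
  have hcop : Nat.Coprime m p := (hp.out.coprime_iff_not_dvd.2 hm).symm
  obtain ⟨t, ht⟩ := Nat.exists_mul_mod_eq_one_of_coprime hcop hp.out.one_lt
  refine ⟨z ^ (m * t), pow_mem (mem_zpowers z) _, ?_, ?_⟩
  · rw [map_pow, hz, ← pow_mod_orderOf, hy0, ht.2, pow_one]
  · have : (z ^ (m * t)) ^ p ^ k = 1 := by
      rw [← pow_mul, show m * t * p ^ k = orderOf z * t by rw [hord]; ring, pow_mul, pow_orderOf_eq_one,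
        one_pow]
    obtain ⟨j, -, hj⟩ := (Nat.dvd_prime_pow hp.out).1 (orderOf_dvd_of_pow_eq_one this)
    exact ⟨j, hj⟩

/-- Coprime action on cosets: the centraliser of `y` covers the image of `B`. -/
theorem map_le_map_centralizer {K H : Type*} [Group K] [Finite K] [Group H] {p : ℕ} [Fact p.Prime]
    (χ : K →* H) {y : K} (hy : ∃ k : ℕ, orderOf y = p ^ k) {B Qn : Subgroup K}
    (hQ : ¬ p ∣ Nat.card Qn) (hQy : ∀ q ∈ Qn, y * q * y⁻¹ ∈ Qn)
    (hcomm : ∀ b ∈ B, y * b * y⁻¹ * b⁻¹ ∈ Qn) (hQχ : Qn ≤ χ.ker) :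
    B.map χ ≤ (centralizer ({y} : Set K)).map χ := by
  classical
  rintro _ ⟨b, hb, rfl⟩
  let f : Qn → Qn := fun q => ⟨y * q * y⁻¹ * (y * b * y⁻¹ * b⁻¹), mul_mem (hQy q q.2) (hcomm b hb)⟩
  have hf : Function.Injective f := by
    intro a c hac
    simpa [f] using congrArg Subtype.val hac
  let σ : Equiv.Perm Qn := Equiv.ofBijective f hf.bijective_of_finite
  have key : ∀ (m : ℕ) (q : Qn), (((σ ^ m) q : Qn) : K) * b = y ^ m * ((q : K) * b) * (y ^ m)⁻¹ := by
    intro m
    induction m with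
    | zero => intro q; simp
    | succ m ih =>
        intro q
        rw [pow_succ', Equiv.Perm.mul_apply]
        have hs : ((σ ((σ ^ m) q) : Qn) : K) * b = y * (((σ ^ m) q : Qn) * b : K) * y⁻¹ := by
          show y * ((σ ^ m) q : Qn) * y⁻¹ * (y * b * y⁻¹ * b⁻¹) * b = _
          group
        rw [hs, ih q, pow_succ']
        group
  obtain ⟨k, hk⟩ := hy
  have hσ : σ ^ p ^ k = 1 := by
    refine Equiv.ext fun q => Subtype.ext (mul_right_cancel (b := b) ?_)
    rw [key, ← hk, pow_orderOf_eq_one]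
    simp
  haveI := Fintype.ofFinite Qn
  obtain ⟨q, hq⟩ := Equiv.Perm.exists_fixed_point_of_prime (by rwa [← Nat.card_eq_fintype_card]) hσ
  refine ⟨(q : K) * b, ?_, ?_⟩
  · refine mem_centralizer_singleton_iff.2 ?_
    have h1 := key 1 q
    rw [pow_one, hq, pow_one] at h1
    calc (q : K) * b * y = y * ((q : K) * b) * y⁻¹ * y := by rw [← h1]
      _ = y * ((q : K) * b) := by group
  · rw [map_mul, MonoidHom.mem_ker.1 (hQχ q.2), one_mul]

variable {K : Type u} [Group K] [Finite K] {H : Type*} [Group H] {p : ℕ} [hp : Fact p.Prime]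

/-- An element commuting modulo a `p'`-subgroup with a non-solvable section is central. -/
theorem false_of_cover (hK : SolvableCentralizers p K) (χ : K →* H) (hχ : Function.Surjective χ)
    {y : K} (hy : ∃ k : ℕ, orderOf y = p ^ k) (hyc : χ y ∉ center H) {B Qn : Subgroup K}
    (hQ : ¬ p ∣ Nat.card Qn) (hQy : ∀ q ∈ Qn, y * q * y⁻¹ ∈ Qn)
    (hcomm : ∀ b ∈ B, y * b * y⁻¹ * b⁻¹ ∈ Qn) (hQχ : Qn ≤ χ.ker) (hB : ¬ Group.IsSolvable (B.map χ)) :
    False := by
  have hync : y ∉ center K := fun hc => hyc (mem_center_iff.2 fun h => by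
    obtain ⟨g, rfl⟩ := hχ h
    rw [← map_mul, ← map_mul, mem_center_iff.1 hc g])
  exact hB (isSolvable_of_le (map_le_map_centralizer χ hy hQ hQy hcomm hQχ)
    (isSolvable_map χ (hK y hync hy)))

/-- The normal `p`-part of a nilpotent kernel. -/
theorem exists_pPart (χ : K →* H) (hnil : Group.IsNilpotent χ.ker) :
    ∃ W : Subgroup K, W.Normal ∧ IsPGroup p W ∧ W ≤ χ.ker ∧ ¬ p ∣ W.relIndex χ.ker ∧
      (∀ r : K, r ∈ χ.ker → (∃ j : ℕ, orderOf r = p ^ j) → r ∈ W) ∧
      (∀ r ∈ χ.ker, ∀ w ∈ W, (orderOf r).Coprime p → r * w = w * r) := by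
  haveI := hnil
  obtain ⟨P⟩ : Nonempty (Sylow p χ.ker) := inferInstance
  haveI hPn : (P : Subgroup χ.ker).Normal :=
    Sylow.normal_of_normalizerCondition Group.normalizerCondition_of_isNilpotent P
  haveI := P.characteristic_of_normal hPn
  refine ⟨(P : Subgroup χ.ker).map χ.ker.subtype, inferInstance, P.isPGroup'.map _, map_subtype_le _, ?_, ?_, ?_⟩
  · have h : ((P : Subgroup χ.ker).map χ.ker.subtype).subgroupOf χ.ker = P :=
      comap_map_eq_self_of_injective χ.ker.subtype_injective _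
    rw [relIndex, h]
    exact P.not_dvd_index
  · rintro r hr ⟨j, hj⟩
    have hle : IsPGroup p (zpowers (⟨r, hr⟩ : χ.ker)) :=
      IsPGroup.of_card (n := j) (by rw [Nat.card_zpowers, ← orderOf_coe]; exact hj)
    obtain ⟨g, hg⟩ := hle.exists_le_sylow
    haveI := Sylow.unique_of_normal P hPn
    rw [Subsingleton.elim g P] at hg
    exact ⟨⟨r, hr⟩, hg (mem_zpowers _), rfl⟩
  · rintro r hr _ ⟨w, hw, rfl⟩ hcop
    obtain ⟨j, hj⟩ := IsPGroup.iff_orderOf.1 P.isPGroup' ⟨w, hw⟩
    rw [orderOf_mk] at hj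
    exact congrArg Subtype.val (CfsgLib.OddLocal.commute_of_coprime_of_isNilpotent hnil
      (x := ⟨r, hr⟩) (y := w) (by rw [orderOf_mk, hj]; exact hcop.pow_right _)).eq

/-- Decomposition of an element into its `p`-part and `p'`-part. -/
theorem exists_decomp (r : K) :
    ∃ a ∈ zpowers r, ∃ b ∈ zpowers r, (∃ j : ℕ, orderOf a = p ^ j) ∧ (orderOf b).Coprime p ∧ r = a * b := by
  obtain ⟨k, m, hm, hord⟩ := Nat.exists_eq_pow_mul_and_not_dvd (orderOf_pos r).ne' p hp.out.ne_one
  have hcm : Nat.Coprime p m := hp.out.coprime_iff_not_dvd.2 hm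
  obtain ⟨a, b, hab⟩ := Nat.isCoprime_iff_coprime.2 (hcm.pow_left k)
  refine ⟨r ^ (b * (m : ℤ)), zpow_mem (mem_zpowers r) _, r ^ (a * ((p ^ k : ℕ) : ℤ)),
    zpow_mem (mem_zpowers r) _, ?_, ?_, ?_⟩
  · have hpw : (r ^ (b * (m : ℤ))) ^ p ^ k = 1 := by
      rw [← zpow_natCast, ← zpow_mul,
        show b * (m : ℤ) * ((p ^ k : ℕ) : ℤ) = ((orderOf r : ℕ) : ℤ) * b by rw [hord]; push_cast; ring,
        zpow_mul, zpow_natCast, pow_orderOf_eq_one, one_zpow]
    obtain ⟨j, -, hj⟩ := (Nat.dvd_prime_pow hp.out).1 (orderOf_dvd_of_pow_eq_one hpw)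
    exact ⟨j, hj⟩
  · have hpw : (r ^ (a * ((p ^ k : ℕ) : ℤ))) ^ m = 1 := by
      rw [← zpow_natCast, ← zpow_mul,
        show a * ((p ^ k : ℕ) : ℤ) * (m : ℤ) = ((orderOf r : ℕ) : ℤ) * a by rw [hord]; push_cast; ring,
        zpow_mul, zpow_natCast, pow_orderOf_eq_one, one_zpow]
    exact Nat.Coprime.coprime_dvd_left (orderOf_dvd_of_pow_eq_one hpw) hcm.symm
  · rw [← zpow_add, add_comm, hab, zpow_one]

/-- The derived subgroup of a non-solvable group is non-solvable. -/
theorem not_isSolvable_commutator {G : Type*} [Group G] {S : Subgroup G} (hns : ¬ Group.IsSolvable S) :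
    ¬ Group.IsSolvable (⁅S, S⁆ : Subgroup G) := by
  intro h
  apply hns
  rw [← map_subtype_commutator] at h
  have e := equivMapOfInjective (_root_.commutator S) S.subtype S.subtype_injective
  have : Group.IsSolvable (_root_.commutator S) :=
    Group.isSolvable_of_isSolvable_injective (f := e.toMonoidHom) e.injective
  exact Group.isSolvable_of_ker_le_range (_root_.commutator S).subtype (Abelianization.of : S →* _)
    (by rw [Abelianization.ker_of, range_subtype])

/-- Commutators of elements moving `y` only by central factors centralise `y`. -/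
theorem commutator_comm_of_central {G : Type*} [Group G] {a b y : G}
    (ha : y * a * y⁻¹ * a⁻¹ ∈ center G) (hb : y * b * y⁻¹ * b⁻¹ ∈ center G) :
    y * (a * b * a⁻¹ * b⁻¹) * y⁻¹ = a * b * a⁻¹ * b⁻¹ := by
  set z := y * a * y⁻¹ * a⁻¹ with hz
  set z' := y * b * y⁻¹ * b⁻¹ with hz'
  have h1 : y * a * y⁻¹ = z * a := by rw [hz]; group
  have h2 : y * b * y⁻¹ = z' * b := by rw [hz']; group
  calc y * (a * b * a⁻¹ * b⁻¹) * y⁻¹
      = (y * a * y⁻¹) * (y * b * y⁻¹) * (y * a * y⁻¹)⁻¹ * (y * b * y⁻¹)⁻¹ := by group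
    _ = z * (a * (z' * b) * a⁻¹) * z⁻¹ * (z' * b)⁻¹ := by rw [h1, h2]; group
    _ = z' * (a * b * a⁻¹) * (z' * b)⁻¹ := by
        rw [← mem_center_iff.1 ha (a * (z' * b) * a⁻¹), mul_inv_cancel_right,
          show a * (z' * b) * a⁻¹ = (a * z') * b * a⁻¹ by group, mem_center_iff.1 hb a]
        group
    _ = z' * (a * b * a⁻¹ * b⁻¹) * z'⁻¹ := by group
    _ = a * b * a⁻¹ * b⁻¹ := by rw [← mem_center_iff.1 hb (a * b * a⁻¹ * b⁻¹), mul_inv_cancel_right]

/-- The case of a centralised non-solvable `p'`-subgroup. -/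
theorem false_of_coprime (hK : SolvableCentralizers p K) (χ : K →* H) (hχ : Function.Surjective χ)
    (hnil : Group.IsNilpotent χ.ker) {y0 : H} (hy0 : orderOf y0 = p) (hy0c : y0 ∉ center H)
    {S0 : Subgroup H} (hns : ¬ Group.IsSolvable S0) (hcomm : ∀ s ∈ S0, s * y0 = y0 * s)
    (hcop : ¬ p ∣ Nat.card S0) : False := by
  obtain ⟨W, hWn, hWp, hWk, hWi, -, -⟩ := exists_pPart (p := p) χ hnil
  haveI := hWn
  set X : Subgroup K := (S0 ⊔ zpowers y0).comap χ with hX
  have hT : S0.comap χ ≤ X := comap_mono le_sup_left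
  haveI hRn : (W.subgroupOf X).Normal := inferInstance
  haveI hTn : ((S0.comap χ).subgroupOf X).Normal := by
    refine ⟨fun t ht g => ?_⟩
    rw [mem_subgroupOf, mem_comap] at ht ⊢
    have hg : χ (g : K) ∈ S0 ⊔ zpowers y0 := g.2
    have hn : S0 ⊔ zpowers y0 ≤ normalizer (S0 : Set H) := by
      refine sup_le le_normalizer ?_
      rw [zpowers_le]
      have hc : y0 ∈ centralizer (S0 : Set H) := mem_centralizer_iff.2 hcomm
      refine mem_normalizer_iff.2 fun s => ?_
      constructor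
      · intro hs; rwa [← hcomm s hs, mul_inv_cancel_right]
      · intro hs
        have h3 : (y0 * s * y0⁻¹) * y0 = y0 * (y0 * s * y0⁻¹) := hcomm _ hs
        have h4 : s = y0 * s * y0⁻¹ := by
          apply mul_left_cancel (a := y0)
          rw [← h3]; group
        rwa [← h4] at hs
    simpa using (mem_normalizer_iff.1 (hn hg) (χ (t : K))).1 ht
  have hWT : W.subgroupOf X ≤ (S0.comap χ).subgroupOf X :=
    fun x hx => by
      rw [mem_subgroupOf, mem_comap, MonoidHom.mem_ker.1 (hWk (mem_subgroupOf.1 hx))]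
      exact one_mem _
  have hWX : W ≤ X := hWk.trans (MonoidHom.ker_le_comap χ _)
  have hcard : Nat.card (W.subgroupOf X) = Nat.card W := Nat.card_congr (subgroupOfEquivOfLe hWX).toEquiv
  have hidx : ¬ p ∣ (W.subgroupOf X).relIndex ((S0.comap χ).subgroupOf X) := by
    rw [relIndex_subgroupOf hT, ← relIndex_mul_relIndex W χ.ker _ hWk (MonoidHom.ker_le_comap χ _)]
    have : χ.ker.relIndex (S0.comap χ) = Nat.card S0 := by
      rw [← χ.comap_bot, relIndex_comap, map_comap_eq_self_of_surjective hχ, relIndex_bot_left]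
    rw [this]
    exact hp.out.not_dvd_mul hWi hcop
  obtain ⟨k, hk⟩ := hWp.exists_card_eq
  have hc : (Nat.card (W.subgroupOf X)).Coprime ((W.subgroupOf X).relIndex ((S0.comap χ).subgroupOf X)) := by
    rw [hcard, hk]; exact Nat.Coprime.pow_left _ (hp.out.coprime_iff_not_dvd.2 hidx)
  have hsol : Group.IsSolvable (W.subgroupOf X) := by
    haveI := (hWp.of_equiv (subgroupOfEquivOfLe hWX).symm).isNilpotent
    infer_instance
  obtain ⟨B, hBT, hdis, hsup, hBcard, htop⟩ :=
    CfsgLib.PLength.exists_complement_sup_normalizer hWT hc hsol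
  obtain ⟨z, hz⟩ := hχ y0
  have hzX : z ∈ X := by rw [hX, mem_comap, hz]; exact mem_sup_right (mem_zpowers _)
  obtain ⟨w, hw, m, hm, hwm⟩ : ∃ w ∈ W.subgroupOf X, ∃ m ∈ normalizer (B : Set X), w * m = ⟨z, hzX⟩ := by
    have := mem_top (⟨z, hzX⟩ : X)
    rw [← htop, ← SetLike.mem_coe, normal_mul] at this
    obtain ⟨w, hw, m, hm, h⟩ := Set.mem_mul.1 this
    exact ⟨w, hw, m, hm, h⟩
  have hmz : χ (m : K) = y0 := by
    have := congrArg (fun x : X => χ (x : K)) hwm
    simpa [MonoidHom.mem_ker.1 (hWk (mem_subgroupOf.1 hw)), hz] using this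
  obtain ⟨y, hy, hyimg, hyp⟩ := exists_pElement χ hy0 hmz
  obtain ⟨i, hi⟩ := mem_zpowers_iff.1 hy
  have hyB : ∀ b ∈ B.map X.subtype, y * b * y⁻¹ ∈ B.map X.subtype := by
    rintro _ ⟨b, hb, rfl⟩
    refine ⟨m ^ i * b * (m ^ i)⁻¹, (mem_normalizer_iff.1 (zpow_mem hm i) b).1 hb, ?_⟩
    simp [← hi]
  have himg : (B.map X.subtype).map χ = S0 := by
    apply le_antisymm
    · rintro _ ⟨_, ⟨b, hb, rfl⟩, rfl⟩
      exact hBT hb
    · intro s hs
      obtain ⟨t, rfl⟩ := hχ s
      have htX : t ∈ X := hT hs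
      have : (⟨t, htX⟩ : X) ∈ W.subgroupOf X ⊔ B := hsup ▸ (mem_subgroupOf.2 hs)
      rw [← SetLike.mem_coe, normal_mul] at this
      obtain ⟨w', hw', b, hb, h⟩ := Set.mem_mul.1 this
      refine ⟨(b : K), ⟨b, hb, rfl⟩, ?_⟩
      have := congrArg (fun x : X => χ (x : K)) h
      simpa [MonoidHom.mem_ker.1 (hWk (mem_subgroupOf.1 hw'))] using this
  refine false_of_cover hK χ hχ hyp (B := B.map X.subtype) (Qn := B.map X.subtype ⊓ χ.ker)
    (by rwa [hyimg]) ?_ ?_ ?_ inf_le_right (by rwa [himg])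
  · intro hd
    apply hidx
    rw [← hBcard, ← card_map_of_injective X.subtype_injective]
    exact hd.trans (card_dvd_of_le inf_le_left)
  · rintro q ⟨hqB, hqk⟩
    exact ⟨hyB q hqB, χ.normal_ker.conj_mem q hqk y⟩
  · intro b hb
    refine ⟨(B.map X.subtype).mul_mem (hyB b hb) ((B.map X.subtype).inv_mem hb), ?_⟩
    show χ (y * b * y⁻¹ * b⁻¹) = 1
    have hs : χ b ∈ S0 := himg ▸ mem_map_of_mem χ hb
    rw [map_mul, map_mul, map_mul, map_inv, map_inv, hyimg, ← hcomm _ hs]
    group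

/-- The kernel has a non-central `p`-part. -/
theorem exists_noncentral (hK : SolvableCentralizers p K) (χ : K →* H) (hχ : Function.Surjective χ)
    (hnil : Group.IsNilpotent χ.ker) {y0 : H} (hy0 : orderOf y0 = p) (hy0c : y0 ∉ center H)
    {S0 : Subgroup H} (hns : ¬ Group.IsSolvable S0) (hcomm : ∀ s ∈ S0, s * y0 = y0 * s) :
    ∃ W : Subgroup K, W.Normal ∧ IsPGroup p W ∧ W ≤ χ.ker ∧ ¬ W ≤ center K ∧
      (∀ r : K, r ∈ χ.ker → (∃ j : ℕ, orderOf r = p ^ j) → r ∈ W) ∧
      (∀ r ∈ χ.ker, ∀ w ∈ W, (orderOf r).Coprime p → r * w = w * r) := by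
  obtain ⟨W, hWn, hWp, hWk, hWi, hmem, hcommW⟩ := exists_pPart (p := p) χ hnil
  refine ⟨W, hWn, hWp, hWk, fun hWZ => ?_, hmem, hcommW⟩
  obtain ⟨z, hz⟩ := hχ y0
  obtain ⟨y, -, hyimg, hyp⟩ := exists_pElement χ hy0 hz
  haveI := hWn
  obtain ⟨k, hk⟩ := hWp.exists_card_eq
  have hcardW : Nat.card (W.subgroupOf χ.ker) = Nat.card W := Nat.card_congr (subgroupOfEquivOfLe hWk).toEquiv
  have hco : (Nat.card (W.subgroupOf χ.ker)).Coprime (W.subgroupOf χ.ker).index := by
    rw [hcardW, hk]; exact Nat.Coprime.pow_left _ (hp.out.coprime_iff_not_dvd.2 hWi)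
  obtain ⟨Q, hQ⟩ := exists_right_complement'_of_coprime hco
  have hQcard : Nat.card Q = (W.subgroupOf χ.ker).index := hQ.symm.index_eq_card.symm
  have hQp : ¬ p ∣ Nat.card Q := by rw [hQcard]; exact hWi
  set Qn : Subgroup K := Q.map χ.ker.subtype with hQn
  have hQncard : Nat.card Qn = Nat.card Q := card_map_of_injective χ.ker.subtype_injective
  have hQmem : ∀ r : χ.ker, (orderOf r).Coprime p → r ∈ Q := by
    intro r hr
    obtain ⟨⟨⟨w, hw⟩, ⟨q, hq⟩⟩, hwq⟩ := hQ.existsUnique r |>.exists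
    have hwq' : w * q = r := hwq
    have hwc : ∀ g : χ.ker, g * w = w * g := fun g =>
      Subtype.ext (mem_center_iff.1 (hWZ (mem_subgroupOf.1 hw)) (g : K))
    have hn : r ^ (Nat.card Q) = w ^ (Nat.card Q) := by
      rw [← hwq', (Commute.mul_pow (hwc q).symm _)]
      have : (⟨q, hq⟩ : Q) ^ Nat.card Q = 1 := pow_card_eq_one'
      rw [show q ^ Nat.card Q = 1 from congrArg Subtype.val this, mul_one]
    obtain ⟨j, hj⟩ := IsPGroup.iff_orderOf.1 hWp ⟨(w : K), mem_subgroupOf.1 hw⟩
    rw [orderOf_mk] at hj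
    have hw1 : orderOf (w ^ Nat.card Q) = 1 := by
      refine Nat.eq_one_of_dvd_coprimes (hr.pow_right j) ?_ ?_
      · rw [← hn]; exact orderOf_pow_dvd _
      · rw [← hj, orderOf_coe]; exact orderOf_pow_dvd _
    have hw0 : w = 1 := by
      rw [← orderOf_eq_one_iff]
      refine Nat.eq_one_of_dvd_coprimes ((Nat.Coprime.pow_left j (hp.out.coprime_iff_not_dvd.2 hQp)))
        (by rw [← hj, orderOf_coe]) (orderOf_dvd_of_pow_eq_one (orderOf_eq_one_iff.1 hw1))
    rw [← hwq', hw0, one_mul]; exact hq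
  have hQord : ∀ q ∈ Q, (orderOf q).Coprime p := fun q hq =>
    (Nat.Coprime.coprime_dvd_left (by rw [← orderOf_mk q hq]; exact orderOf_dvd_natCard _)
      (hp.out.coprime_iff_not_dvd.2 hQp).symm)
  have hQnorm : Qn.Normal := by
    refine ⟨?_⟩
    rintro _ ⟨q, hq, rfl⟩ g
    refine ⟨⟨g * q * g⁻¹, χ.normal_ker.conj_mem _ q.2 g⟩, hQmem _ ?_, rfl⟩
    rw [← orderOf_coe]
    show (orderOf (g * (q : K) * g⁻¹)).Coprime p
    rw [show g * (q : K) * g⁻¹ = MulAut.conj g (q : K) from rfl, MulEquiv.orderOf_eq, orderOf_coe]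
    exact hQord q hq
  haveI := hQnorm
  have hQk : Qn ≤ χ.ker := map_subtype_le _
  set π := QuotientGroup.mk' Qn with hπ
  set T : Subgroup K := S0.comap χ with hTdef
  have hcen : ∀ t ∈ T, π y * π t * (π y)⁻¹ * (π t)⁻¹ ∈ center (K ⧸ Qn) := by
    intro t ht
    have hk' : y * t * y⁻¹ * t⁻¹ ∈ χ.ker := by
      rw [MonoidHom.mem_ker, map_mul, map_mul, map_mul, map_inv, map_inv, hyimg, ← hcomm _ ht]
      group
    obtain ⟨⟨⟨w, hw⟩, ⟨q, hq⟩⟩, hwq⟩ := hQ.existsUnique ⟨_, hk'⟩ |>.exists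
    have hwq' : (w : K) * (q : K) = y * t * y⁻¹ * t⁻¹ := congrArg Subtype.val hwq
    rw [← map_inv, ← map_inv, ← map_mul, ← map_mul, ← map_mul, ← hwq', map_mul,
      (QuotientGroup.eq_one_iff _).2 (show (q : K) ∈ Qn from ⟨q, hq, rfl⟩) |> fun h => show π q = 1 from h,
      mul_one]
    refine mem_center_iff.2 fun g => ?_
    obtain ⟨g, rfl⟩ := QuotientGroup.mk'_surjective Qn g
    rw [← map_mul, ← map_mul, mem_center_iff.1 (hWZ (mem_subgroupOf.1 hw)) g]
  have hB : ∀ b ∈ (⁅T, T⁆ : Subgroup K), y * b * y⁻¹ * b⁻¹ ∈ Qn := by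
    have hle : (⁅T, T⁆ : Subgroup K) ≤ (centralizer ({π y} : Set (K ⧸ Qn))).comap π := by
      rw [commutator_le]
      intro a ha b hb
      rw [mem_comap, mem_centralizer_singleton_iff, commutatorElement_def]
      have := commutator_comm_of_central (hcen a ha) (hcen b hb)
      simp only [map_mul, map_inv]
      conv_rhs => rw [← mul_one (π y * _)]
      calc π a * π b * (π a)⁻¹ * (π b)⁻¹ * π y
          = π y * (π a * π b * (π a)⁻¹ * (π b)⁻¹) * (π y)⁻¹ * π y := by rw [this]
        _ = π y * (π a * π b * (π a)⁻¹ * (π b)⁻¹) * 1 := by group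
    intro b hb
    have := hle hb
    rw [mem_comap, mem_centralizer_singleton_iff] at this
    refine (QuotientGroup.eq_one_iff (N := Qn) _).1 ?_
    show π (y * b * y⁻¹ * b⁻¹) = 1
    rw [map_mul, map_mul, map_mul, ← this, map_inv, map_inv]
    group
  refine false_of_cover hK χ hχ hyp (B := ⁅T, T⁆) (Qn := Qn) (by rwa [hyimg]) (by rwa [hQncard])
    (fun q hq => hQnorm.conj_mem q hq y) hB hQk ?_
  rw [map_commutator, map_comap_eq_self_of_surjective hχ]
  exact not_isSolvable_commutator hns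

/-- The case of a kernel with non-central `p`-part: a module with no fixed vectors. -/
theorem false_of_module (hK : SolvableCentralizers p K) (χ : K →* H) (hχ : Function.Surjective χ)
    (hnil : Group.IsNilpotent χ.ker) {y0 : H} (hy0 : orderOf y0 = p) (hy0c : y0 ∉ center H)
    {S0 : Subgroup H} (hns : ¬ Group.IsSolvable S0) (hcomm : ∀ s ∈ S0, s * y0 = y0 * s)
    (hmod : ∀ (V : Type u) [AddCommGroup V] [Finite V] [Nontrivial V] [DistribMulAction H V],
      (∀ v : V, p • v = 0) → ∃ w : V, w ≠ 0 ∧ ∃ S : Subgroup H, ¬ Group.IsSolvable S ∧ ∀ s ∈ S, s • w = w) :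
    False := by
  obtain ⟨W, hWn, hWp, hWk, hWZ, hmem, hcommW⟩ := exists_noncentral hK χ hχ hnil hy0 hy0c hns hcomm
  haveI := hWn
  set Z0 : Subgroup K := W ⊓ center K with hZ0
  haveI hZn : Z0.Normal := inferInstance
  set π := QuotientGroup.mk' Z0 with hπ
  have hπs : Function.Surjective π := QuotientGroup.mk'_surjective Z0
  set Wb : Subgroup (K ⧸ Z0) := W.map π with hWb
  haveI hWbn : Wb.Normal := Subgroup.Normal.map hWn π hπs
  have hWbp : IsPGroup p Wb := hWp.map π
  haveI : Nontrivial Wb := by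
    rw [nontrivial_iff_ne_bot]
    intro h
    rw [hWb, Subgroup.map_eq_bot_iff, QuotientGroup.ker_mk'] at h
    exact hWZ (h.trans inf_le_right)
  let E : Subgroup (K ⧸ Z0) :=
    { carrier := {x | x ∈ Wb ∧ (∀ w ∈ Wb, w * x = x * w) ∧ x ^ p = 1}
      one_mem' := ⟨one_mem _, fun w _ => by simp, one_pow _⟩
      inv_mem' := fun {x} hx => ⟨inv_mem hx.1, fun w hw => ((show Commute w x from hx.2.1 w hw).inv_right).eq,
        by rw [inv_pow, hx.2.2, inv_one]⟩
      mul_mem' := fun {x z} hx hz => ⟨mul_mem hx.1 hz.1,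
        fun w hw => ((show Commute w x from hx.2.1 w hw).mul_right (hz.2.1 w hw)).eq,
        by rw [((show Commute x z from hz.2.1 x hx.1)).mul_pow, hx.2.2, hz.2.2, one_mul]⟩ }
  have hEn : ∀ (g : K ⧸ Z0), ∀ x ∈ E, g * x * g⁻¹ ∈ E := by
    rintro g x ⟨h1, h2, h3⟩
    refine ⟨hWbn.conj_mem x h1 g, fun w hw => ?_, by rw [conj_pow, h3]; group⟩
    have hw' : g⁻¹ * w * g ∈ Wb := by simpa using hWbn.conj_mem w hw g⁻¹
    calc w * (g * x * g⁻¹) = g * (g⁻¹ * w * g * x) * g⁻¹ := by group
      _ = g * (x * (g⁻¹ * w * g)) * g⁻¹ := by rw [h2 _ hw']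
      _ = g * x * g⁻¹ * w := by group
  have hEc : ∀ a b : E, a * b = b * a := fun a b => Subtype.ext (b.2.2.1 a a.2.1)
  letI : CommGroup E := { (inferInstance : Group E) with mul_comm := hEc }
  have hEnt : Nontrivial E := by
    haveI := hWbp.center_nontrivial
    obtain ⟨x, hx⟩ : ∃ x : center Wb, orderOf x = p := by
      apply exists_prime_orderOf_dvd_card' p
      obtain ⟨n, hn⟩ := (hWbp.to_subgroup (center Wb)).exists_card_eq
      rcases Nat.eq_zero_or_pos n with rfl | hn0
      · have := Finite.one_lt_card (α := center Wb); simp_all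
      · rw [hn]; exact dvd_pow_self p hn0.ne'
    have hxp : (((x : Wb) : K ⧸ Z0)) ^ p = 1 := by
      have := congrArg (fun z : center Wb => ((z : Wb) : K ⧸ Z0)) (hx ▸ pow_orderOf_eq_one x)
      simpa using this
    refine ⟨⟨⟨((x : Wb) : K ⧸ Z0), (x : Wb).2,
      fun w hw => congrArg Subtype.val (mem_center_iff.1 x.2 ⟨w, hw⟩), hxp⟩, 1, fun h => ?_⟩⟩
    have h1 : ((x : Wb) : K ⧸ Z0) = 1 := congrArg Subtype.val h
    have : x = 1 := Subtype.ext (Subtype.ext h1)
    rw [this, orderOf_one] at hx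
    exact hp.out.ne_one hx.symm
  have htriv : ∀ r ∈ χ.ker, ∀ e ∈ E, π r * e = e * π r := by
    intro r hr e he
    obtain ⟨a, ha, b, hb, hap, hbp, hab⟩ := exists_decomp (p := p) r
    have hak : a ∈ χ.ker := zpowers_le.2 hr ha
    have hbk : b ∈ χ.ker := zpowers_le.2 hr hb
    have h1 : Commute (π a) e := (he.2.1 _ (mem_map_of_mem π (hmem a hak hap)))
    have h2 : Commute (π b) e := by
      obtain ⟨w, hw, rfl⟩ := he.1
      exact (show Commute b w from hcommW b hbk w hw hbp).map π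
    rw [hab, map_mul]
    exact (h1.mul_left h2).eq
  have wd : ∀ k k' : K, χ k = χ k' → ∀ e : E, π k * e * (π k)⁻¹ = π k' * (e : K ⧸ Z0) * (π k')⁻¹ := by
    intro k k' h e
    have hr : k'⁻¹ * k ∈ χ.ker := by rw [MonoidHom.mem_ker, map_mul, map_inv, h, inv_mul_cancel]
    have := htriv _ hr e e.2
    rw [map_mul, map_inv] at this
    calc π k * e * (π k)⁻¹ = π k' * (((π k')⁻¹ * π k) * e) * ((π k')⁻¹ * π k)⁻¹ * (π k')⁻¹ := by group
      _ = π k' * (e * ((π k')⁻¹ * π k)) * ((π k')⁻¹ * π k)⁻¹ * (π k')⁻¹ := by rw [this]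
      _ = π k' * e * (π k')⁻¹ := by group
  let lift : H → K := Function.surjInv hχ
  have hlift : ∀ h, χ (lift h) = h := Function.surjInv_eq hχ
  let act : H → Additive E → Additive E := fun h e =>
    Additive.ofMul ⟨π (lift h) * (Additive.toMul e : E) * (π (lift h))⁻¹, hEn _ _ (Additive.toMul e : E).2⟩
  letI : DistribMulAction H (Additive E) :=
    { smul := act
      one_smul := fun e => Additive.toMul.injective (Subtype.ext (by
        show π (lift 1) * _ * _ = _
        rw [wd (lift 1) 1 (by rw [hlift, map_one]) (Additive.toMul e)]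
        simp))
      mul_smul := fun g g' e => Additive.toMul.injective (Subtype.ext (by
        show π (lift (g * g')) * _ * _ = π (lift g) * (π (lift g') * _ * _) * _
        rw [wd (lift (g * g')) (lift g * lift g') (by rw [map_mul, hlift, hlift, hlift]) (Additive.toMul e),
          map_mul]
        group))
      smul_zero := fun g => Additive.toMul.injective (Subtype.ext (by
        show π (lift g) * 1 * _ = 1
        group))
      smul_add := fun g a b => Additive.toMul.injective (Subtype.ext (by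
        show π (lift g) * _ * _ = (π (lift g) * _ * _) * (π (lift g) * _ * _)
        simp only [toMul_add, Subgroup.coe_mul]
        group)) }
  obtain ⟨v, hv0, S, hSns, hSv⟩ := hmod (Additive E) (fun v => Additive.toMul.injective (by
    rw [toMul_nsmul, toMul_zero]
    exact Subtype.ext (by simpa using (Additive.toMul v : E).2.2.2)))
  obtain ⟨x, hxW, hxv⟩ := (Additive.toMul v : E).2.1
  have hxc : x ∉ center K := fun h => hv0 (Additive.toMul.injective (Subtype.ext (by
    show ((Additive.toMul v : E) : K ⧸ Z0) = 1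
    rw [← hxv]
    exact (QuotientGroup.eq_one_iff x).2 ⟨hxW, h⟩)))
  obtain ⟨j, hj⟩ := IsPGroup.iff_orderOf.1 hWp ⟨x, hxW⟩
  rw [orderOf_mk] at hj
  have hsolC := hK x hxc ⟨j, hj⟩
  have hcen : ∀ t ∈ S.comap χ, x * t * x⁻¹ * t⁻¹ ∈ center K := by
    intro t ht
    have h1 : π (lift (χ t)) * ((Additive.toMul v : E) : K ⧸ Z0) * (π (lift (χ t)))⁻¹ =
        ((Additive.toMul v : E) : K ⧸ Z0) :=
      congrArg (fun z : Additive E => ((Additive.toMul z : E) : K ⧸ Z0)) (hSv (χ t) ht)
    rw [wd (lift (χ t)) t (hlift _) (Additive.toMul v), ← hxv] at h1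
    have : π (x * t * x⁻¹ * t⁻¹) = 1 := by
      simp only [map_mul, map_inv]
      have h3 : π t * π x = π x * π t := mul_inv_eq_iff_eq_mul.1 h1
      rw [← h3]
      group
    exact ((QuotientGroup.eq_one_iff _).1 this).2
  have hle : (⁅S.comap χ, S.comap χ⁆ : Subgroup K) ≤ centralizer ({x} : Set K) := by
    rw [commutator_le]
    intro a ha b hb
    rw [mem_centralizer_singleton_iff, commutatorElement_def]
    have := commutator_comm_of_central (hcen a ha) (hcen b hb)
    calc a * b * a⁻¹ * b⁻¹ * x = x * (a * b * a⁻¹ * b⁻¹) * x⁻¹ * x := by rw [this]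
      _ = x * (a * b * a⁻¹ * b⁻¹) := by group
  have := isSolvable_map χ (isSolvable_of_le hle hsolC)
  rw [map_commutator, map_comap_eq_self_of_surjective hχ] at this
  exact not_isSolvable_commutator hSns this

/-- A subgroup minimal among those mapping onto a section has nilpotent kernel. -/
theorem exists_minimal_cover {G : Type u} [Group G] [Finite G] {H : Type*} [Group H] {K0 : Subgroup G}
    (χ0 : K0 →* H) (h0 : Function.Surjective χ0) :
    ∃ (K : Subgroup G) (χ : K →* H), Function.Surjective χ ∧ Group.IsNilpotent χ.ker := by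
  classical
  have hne : ∃ n, ∃ (K : Subgroup G) (χ : K →* H), Function.Surjective χ ∧ Nat.card K = n :=
    ⟨_, K0, χ0, h0, rfl⟩
  obtain ⟨K, χ, hχ, hcard⟩ := Nat.find_spec hne
  refine ⟨K, χ, hχ, ?_⟩
  have hle : χ.ker ≤ frattini K := by
    refine le_iInf₂ fun M hM => ?_
    by_contra hnot
    have hsup : M ⊔ χ.ker = ⊤ := hM.2 _ (left_lt_sup.2 hnot)
    let χ' : (M.map K.subtype) →* H :=
      (χ.comp M.subtype).comp (equivMapOfInjective M K.subtype K.subtype_injective).symm.toMonoidHom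
    have hsurj : Function.Surjective χ' := by
      intro h
      obtain ⟨k, rfl⟩ := hχ h
      have hk : k ∈ M ⊔ χ.ker := hsup ▸ mem_top k
      rw [← SetLike.mem_coe, mul_normal] at hk
      obtain ⟨m, hm, r, hr, rfl⟩ := Set.mem_mul.1 hk
      refine ⟨equivMapOfInjective M K.subtype K.subtype_injective ⟨m, hm⟩, ?_⟩
      simp [χ', MonoidHom.mem_ker.1 hr]
    have hmin := Nat.find_min' hne ⟨M.map K.subtype, χ', hsurj, rfl⟩
    rw [← hcard, card_map_of_injective K.subtype_injective] at hmin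
    exact hM.1 (eq_top_of_le_card M hmin)
  haveI : Group.IsNilpotent (frattini K) := frattini_nilpotent
  exact Group.nilpotent_of_mulEquiv (subgroupOfEquivOfLe hle)

end CfsgLib.SolvCent
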