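import Cfsg.Agent.Lib.SolvCent.TwoCheck

/-!
# Certificate for modules of A9 in characteristic 2 (antiPair)

The checker of `TwoCheck.lean` evaluated by the kernel on explicit data.
-/

set_option autoImplicit false

namespace CfsgLib.SolvCent

/-- The list to be killed. -/
def antiPairTarget : List (List ℕ × ℕ) :=
  [([1, 0, 3, 2, 4, 5, 6, 7, 8], 1), ([2, 3, 0, 1, 4, 5, 6, 7, 8], 1), ([0, 1, 2, 3, 6, 7, 4, 5, 8], 1), ([0, 1, 2, 3, 5, 4, 7, 6, 8], 1), ([1, 2, 0, 3, 6, 4, 5, 7, 8], 1), ([0, 2, 1, 3, 4, 6, 5, 7, 8], 1), ([4, 6, 5, 7, 0, 2, 1, 3, 8], 1)]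

/-- The hypothesis lists. -/
def antiPairHyps : List (List (List ℕ × ℕ)) :=
  [[([3, 1, 7, 0, 4, 5, 6, 2, 8], 1), ([2, 6, 8, 3, 4, 5, 7, 1, 0], 1)],
   [([0, 3, 7, 1, 4, 5, 6, 2, 8], 1), ([6, 2, 8, 3, 4, 5, 7, 0, 1], 1)],
   [([2, 1, 0, 8, 4, 5, 6, 7, 3], 1), ([1, 4, 8, 2, 0, 5, 6, 7, 3], 1)],
   [([0, 2, 1, 8, 4, 5, 6, 7, 3], 1), ([4, 0, 8, 2, 1, 5, 6, 7, 3], 1)],
   [([3, 2, 1, 0, 6, 7, 4, 5, 8], 1), ([1, 8, 6, 7, 2, 3, 4, 5, 0], 1)],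
   [([4, 1, 5, 6, 0, 2, 3, 8, 7], 1), ([4, 1, 2, 8, 6, 3, 0, 7, 5], 1)],
   [([0, 4, 5, 6, 1, 2, 3, 8, 7], 1), ([0, 4, 2, 8, 6, 3, 1, 7, 5], 1)],
   [([1, 0, 3, 2, 4, 5, 6, 7, 8], 1), ([2, 3, 0, 1, 4, 5, 6, 7, 8], 1), ([0, 1, 2, 3, 6, 7, 4, 5, 8], 1), ([0, 1, 2, 3, 5, 4, 7, 6, 8], 1), ([1, 2, 0, 3, 4, 5, 6, 7, 8], 1), ([0, 1, 2, 3, 6, 4, 5, 7, 8], 1)]]

/-- The stabiliser. -/
def antiPairQs : List (List ℕ) :=
  [[0x876543210, 0x876542301, 0x876541032, 0x854763210, 0x867453210, 0x875463021, 0x875643120, 0x831207564, 0x876540123, 0x854762301, 0x867452301, 0x875460312, 0x875641302, 0x831205746, 0x854761032, 0x867451032, 0x875462130, 0x875642031, 0x831206475, 0x845673210, 0x846753021, 0x864753120, 0x820317564, 0x857643021, 0x857463120, 0x813027564, 0x875461203, 0x864573021, 0x874653102, 0x876453012, 0x832017456, 0x874563201],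
   [0x832107654, 0x854760123, 0x867450123, 0x875640213, 0x831204657, 0x845672301, 0x846750312, 0x864751302, 0x820315746, 0x857640312, 0x857461302, 0x813025746, 0x864570312, 0x874651320, 0x876450321, 0x832014765, 0x874562310, 0x832106745, 0x845671032, 0x846752130, 0x864752031, 0x820316475, 0x857642130, 0x857462031, 0x813026475, 0x864572130, 0x874650231, 0x876451230, 0x832015674, 0x874560132, 0x832105476, 0x846573120],
   [0x802137564, 0x846751203, 0x865743102, 0x845763012, 0x801327456, 0x856743201, 0x810327654, 0x857641203, 0x847563102, 0x867543012, 0x823107456, 0x847653201, 0x823017654, 0x864571203, 0x874652013, 0x876452103, 0x832016547, 0x856473102, 0x854673012, 0x810237456, 0x830127645, 0x831027465, 0x874561023, 0x865473201, 0x830217546, 0x845670123, 0x864750213, 0x820314657, 0x857460213, 0x813024657, 0x832104567, 0x846571302],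
   [0x802135746, 0x865741320, 0x845760321, 0x801324765, 0x856742310, 0x810326745, 0x847561320, 0x867540321, 0x823104765, 0x847652310, 0x823016745, 0x856471320, 0x854670321, 0x810234765, 0x830126754, 0x831024756, 0x865472310, 0x830215764, 0x846572031, 0x802136475, 0x865740231, 0x845761230, 0x801325674, 0x856740132, 0x810325476, 0x847560231, 0x867541230, 0x823105674, 0x847650132, 0x823015476, 0x856470231, 0x854671230],
   [0x810235674, 0x830124576, 0x831026574, 0x865470132, 0x830214675, 0x801237654, 0x865742013, 0x845762103, 0x801326547, 0x812307645, 0x802317465, 0x856741023, 0x821307546, 0x847562013, 0x867542103, 0x823106547, 0x803217645, 0x813207465, 0x847651023, 0x803127546, 0x856472013, 0x854672103, 0x810236547, 0x830125467, 0x831025647, 0x821037645, 0x820137465, 0x865471023, 0x830216457, 0x812037546, 0x846570213, 0x802134657],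
   [0x810324567, 0x823014567, 0x801236745, 0x812306754, 0x802314756, 0x821305764, 0x803216754, 0x813204756, 0x803125764, 0x821036754, 0x820134756, 0x812035764, 0x801235476, 0x812304576, 0x802316574, 0x821304675, 0x803214576, 0x813206574, 0x803124675, 0x821034576, 0x820136574, 0x812034675, 0x812305467, 0x802315647, 0x821306457, 0x803215467, 0x813205647, 0x803126457, 0x821035467, 0x820135647, 0x812036457, 0x801234567]]

/-- Representatives. -/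
def antiPairReps0 : List PC :=
  [(0x876543210, []),
   (0x506871423, [(0, 3, 3, 1), (1, 2, 2, 4), (4, 7, 5, 8)]),
   (0x568071423, [(0, 3, 3, 1), (1, 2, 2, 4), (4, 7, 7, 6), (6, 8, 8, 5)]),
   (0x580671423, [(0, 3, 3, 1), (1, 2, 2, 4), (4, 7, 7, 8), (8, 5, 5, 6)]),
   (0x415872603, [(0, 3, 3, 2), (2, 6, 6, 5), (5, 8, 8, 4), (4, 7, 7, 1)]),
   (0x458172603, [(0, 3, 3, 2), (2, 6, 6, 8), (8, 4, 4, 7), (7, 5, 5, 1)]),
   (0x481572603, [(0, 3, 3, 2), (2, 6, 6, 1), (4, 7, 7, 8)]),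
   (0x624870513, [(0, 3, 2, 5), (5, 8, 8, 6), (6, 4, 4, 7)]),
   (0x648270513, [(0, 3, 2, 5), (4, 7, 6, 8)]),
   (0x682470513, [(0, 3, 2, 5), (5, 4, 4, 7), (7, 8, 8, 6)]),
   (0x186754320, [(1, 2, 2, 3), (3, 4, 4, 5), (5, 7, 7, 8)]),
   (0x167854320, [(1, 2, 2, 3), (3, 4, 4, 5), (5, 8, 6, 7)]),
   (0x178654320, [(1, 2, 2, 3), (3, 4, 4, 5), (5, 6, 6, 8)]),
   (0x285746301, [(0, 1, 2, 3), (3, 6, 6, 5), (5, 7, 7, 8)]),
   (0x257846301, [(0, 1, 2, 3), (3, 6, 6, 7), (7, 5, 5, 8)]),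
   (0x278546301, [(0, 1, 2, 3), (3, 6, 6, 8)]),
   (0x084765312, [(0, 2, 2, 3), (3, 5, 5, 7), (7, 8, 4, 6)]),
   (0x047865312, [(0, 2, 2, 3), (3, 5, 5, 8), (4, 6, 6, 7)]),
   (0x078465312, [(0, 2, 2, 3), (3, 5, 5, 4), (4, 6, 6, 8)]),
   (0x751203468, [(0, 8, 8, 7), (7, 5, 5, 2), (2, 4, 1, 6)]),
   (0x712503468, [(0, 8, 8, 7), (7, 1, 1, 6), (6, 2, 2, 4)]),
   (0x725103468, [(0, 8, 8, 7), (7, 2, 2, 4), (1, 6, 6, 5)]),
   (0x742013658, [(0, 8, 8, 7), (7, 4, 4, 1), (1, 5, 2, 6)]),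
   (0x720413658, [(0, 8, 8, 7), (7, 2, 2, 6), (1, 5, 5, 4)]),
   (0x704213658, [(0, 8, 8, 7), (1, 5, 5, 2), (2, 6, 6, 4)]),
   (0x760123548, [(0, 8, 8, 7), (7, 6, 1, 4), (4, 2, 2, 5)]),
   (0x701623548, [(0, 8, 8, 7), (1, 4, 4, 2), (2, 5, 5, 6)]),
   (0x716023548, [(0, 8, 8, 7), (7, 1, 1, 4), (4, 2, 2, 5)]),
   (0x512804637, [(0, 7, 7, 1), (1, 3, 3, 4), (2, 6, 5, 8)]),
   (0x528104637, [(0, 7, 7, 2), (2, 6, 6, 8), (8, 5, 5, 1), (1, 3, 3, 4)]),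
   (0x581204637, [(0, 7, 7, 8), (8, 5, 5, 2), (2, 6, 6, 1), (1, 3, 3, 4)]),
   (0x420816537, [(0, 7, 7, 2), (2, 5, 5, 8), (8, 4, 4, 1), (1, 3, 3, 6)])]

/-- Representatives. -/
def antiPairReps1 : List PC :=
  [(0x408216537, [(0, 7, 1, 3), (3, 6, 6, 8), (8, 4, 2, 5)]),
   (0x482016537, [(0, 7, 7, 8), (8, 4, 4, 1), (1, 3, 3, 6), (6, 2, 2, 5)]),
   (0x601825437, [(0, 7, 1, 3), (3, 5, 5, 8), (8, 6, 2, 4)]),
   (0x618025437, [(0, 7, 7, 1), (1, 3, 3, 5), (2, 4, 6, 8)]),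
   (0x680125437, [(0, 7, 7, 8), (8, 6, 1, 3), (3, 5, 2, 4)]),
   (0x458763201, [(0, 1, 4, 6), (6, 8, 5, 7)]),
   (0x487563201, [(0, 1, 4, 6), (6, 7, 7, 8)]),
   (0x475863201, [(0, 1, 4, 6), (6, 5, 5, 8)]),
   (0x648753012, [(0, 2, 4, 5), (5, 7, 6, 8)]),
   (0x687453012, [(0, 2, 4, 5), (6, 7, 7, 8)]),
   (0x674853012, [(0, 2, 4, 5), (5, 8, 8, 6)]),
   (0x568743120, [(1, 2, 5, 7), (7, 6, 6, 8)]),
   (0x587643120, [(1, 2, 5, 6), (6, 7, 7, 8)]),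
   (0x576843120, [(1, 2, 5, 8)]),
   (0x261708543, [(0, 3, 3, 8), (8, 2, 2, 5), (5, 7, 7, 6), (6, 1, 1, 4)]),
   (0x217608543, [(0, 3, 3, 8), (8, 2, 2, 5), (5, 6, 6, 7), (7, 1, 1, 4)]),
   (0x276108543, [(0, 3, 3, 8), (8, 2, 2, 5), (5, 1, 1, 4)]),
   (0x052718463, [(0, 3, 3, 8), (1, 6, 6, 2), (2, 4, 5, 7)]),
   (0x027518463, [(0, 3, 3, 8), (1, 6, 6, 7), (7, 2, 2, 4)]),
   (0x075218463, [(0, 3, 3, 8), (1, 6, 6, 5), (5, 2, 2, 4)]),
   (0x140728653, [(0, 3, 3, 8), (8, 1, 1, 5), (5, 7, 7, 4), (4, 2, 2, 6)]),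
   (0x107428653, [(0, 3, 3, 8), (8, 1, 1, 5), (5, 4, 4, 2), (2, 6, 6, 7)]),
   (0x174028653, [(0, 3, 3, 8), (8, 1, 1, 5), (2, 6, 6, 4)]),
   (0x583421607, [(0, 7, 7, 8), (8, 5, 5, 4), (4, 2, 2, 6), (6, 3, 3, 1)]),
   (0x534821607, [(0, 7, 7, 3), (3, 1, 2, 6), (6, 4, 5, 8)]),
   (0x548321607, [(0, 7, 7, 4), (4, 2, 2, 6), (6, 8, 8, 5), (5, 3, 3, 1)]),
   (0x483602517, [(0, 7, 7, 8), (8, 4, 2, 5), (5, 6, 6, 3)]),
   (0x436802517, [(0, 7, 7, 3), (3, 2, 2, 5), (5, 8, 8, 4)]),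
   (0x468302517, [(0, 7, 7, 6), (6, 8, 8, 4), (2, 5, 5, 3)]),
   (0x683510427, [(0, 7, 7, 8), (8, 6, 6, 3), (1, 2, 2, 4)]),
   (0x635810427, [(0, 7, 7, 3), (1, 2, 2, 4), (5, 8, 8, 6)]),
   (0x658310427, [(0, 7, 7, 5), (5, 3, 1, 2), (2, 4, 6, 8)])]

/-- Representatives. -/
def antiPairReps2 : List PC :=
  [(0x423875610, [(2, 6, 6, 3), (3, 5, 5, 8), (8, 4, 4, 7)]),
   (0x438275610, [(2, 6, 6, 8), (8, 4, 4, 7), (7, 3, 3, 5)]),
   (0x482375610, [(2, 6, 3, 5), (4, 7, 7, 8)]),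
   (0x603874521, [(0, 1, 1, 2), (2, 5, 5, 8), (8, 6, 6, 3), (3, 4, 4, 7)]),
   (0x638074521, [(0, 1, 1, 2), (2, 5, 3, 4), (4, 7, 6, 8)]),
   (0x680374521, [(0, 1, 1, 2), (2, 5, 5, 3), (3, 4, 4, 7), (7, 8, 8, 6)]),
   (0x513876402, [(0, 2, 2, 4), (4, 7, 7, 1), (3, 6, 5, 8)]),
   (0x538176402, [(0, 2, 2, 4), (4, 7, 7, 3), (3, 6, 6, 8), (8, 5, 5, 1)]),
   (0x581376402, [(0, 2, 2, 4), (4, 7, 7, 8), (8, 5, 5, 3), (3, 6, 6, 1)]),
   (0x142830765, [(0, 5, 5, 8), (8, 1, 1, 6), (6, 2, 2, 7), (7, 4, 4, 3)]),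
   (0x128430765, [(0, 5, 5, 4), (4, 3, 1, 6), (6, 8, 2, 7)]),
   (0x184230765, [(0, 5, 5, 2), (2, 7, 7, 8), (8, 1, 1, 6), (6, 4, 4, 3)]),
   (0x260831754, [(0, 4, 4, 3), (3, 1, 1, 5), (5, 8, 8, 2), (2, 7, 7, 6)]),
   (0x208631754, [(0, 4, 4, 3), (3, 1, 1, 5), (5, 6, 6, 8), (8, 2, 2, 7)]),
   (0x286031754, [(0, 4, 4, 3), (3, 1, 1, 5), (2, 7, 7, 8)]),
   (0x051832746, [(0, 6, 6, 1), (1, 4, 4, 3), (3, 2, 2, 7), (7, 5, 5, 8)]),
   (0x018532746, [(0, 6, 6, 8), (1, 4, 4, 3), (3, 2, 2, 7)]),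
   (0x085132746, [(0, 6, 6, 5), (5, 1, 1, 4), (4, 3, 3, 2), (2, 7, 7, 8)]),
   (0x506813742, [(0, 2, 2, 7), (1, 4, 5, 8)]),
   (0x568013742, [(0, 2, 2, 7), (7, 6, 6, 8), (8, 5, 1, 4)]),
   (0x580613742, [(0, 2, 2, 7), (7, 8, 8, 5), (5, 6, 1, 4)]),
   (0x415823760, [(1, 6, 6, 5), (5, 8, 8, 4), (4, 2, 2, 7)]),
   (0x458123760, [(1, 6, 6, 8), (8, 4, 4, 2), (2, 7, 7, 5)]),
   (0x481523760, [(1, 6, 2, 7), (7, 8, 8, 4)]),
   (0x624803751, [(0, 1, 1, 5), (5, 8, 8, 6), (6, 4, 2, 7)]),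
   (0x648203751, [(0, 1, 1, 5), (5, 2, 2, 7), (7, 4, 6, 8)]),
   (0x682403751, [(0, 1, 1, 5), (5, 4, 2, 7), (7, 8, 8, 6)]),
   (0x723618405, [(0, 5, 5, 6), (6, 3, 3, 8), (8, 7, 7, 2), (2, 4, 4, 1)]),
   (0x736218405, [(0, 5, 5, 2), (2, 4, 4, 1), (3, 8, 8, 7)]),
   (0x762318405, [(0, 5, 5, 3), (3, 8, 8, 7), (7, 6, 6, 2), (2, 4, 4, 1)]),
   (0x703528614, [(0, 4, 4, 2), (2, 6, 6, 3), (3, 8, 8, 7)]),
   (0x735028614, [(0, 4, 4, 2), (2, 6, 6, 5), (3, 8, 8, 7)])]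

/-- Representatives. -/
def antiPairReps3 : List PC :=
  [(0x750328614, [(0, 4, 4, 2), (2, 6, 3, 8), (8, 7, 7, 5)]),
   (0x713408526, [(0, 6, 6, 3), (3, 8, 8, 7), (7, 1, 1, 2), (2, 5, 5, 4)]),
   (0x734108526, [(0, 6, 6, 4), (1, 2, 2, 5), (3, 8, 8, 7)]),
   (0x741308526, [(0, 6, 6, 1), (1, 2, 2, 5), (5, 3, 3, 8), (8, 7, 7, 4)]),
   (0x608417235, [(0, 5, 5, 4), (4, 1, 1, 3), (3, 7, 6, 8)]),
   (0x684017235, [(0, 5, 1, 3), (3, 7, 7, 8), (8, 6, 6, 4)]),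
   (0x640817235, [(0, 5, 5, 8), (8, 6, 1, 3), (3, 7, 7, 4)]),
   (0x518627034, [(0, 4, 4, 2), (1, 3, 3, 7), (5, 6, 6, 8)]),
   (0x586127034, [(0, 4, 4, 2), (1, 3, 3, 7), (7, 8, 8, 5)]),
   (0x561827034, [(0, 4, 4, 2), (1, 3, 3, 7), (7, 6, 5, 8)]),
   (0x428507136, [(0, 6, 6, 8), (8, 4, 1, 3), (3, 7, 7, 2)]),
   (0x485207136, [(0, 6, 6, 5), (5, 2, 2, 1), (1, 3, 3, 7), (7, 8, 8, 4)]),
   (0x452807136, [(0, 6, 6, 2), (2, 1, 1, 3), (3, 7, 7, 5), (5, 8, 8, 4)]),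
   (0x361748250, [(1, 5, 5, 7), (7, 6, 3, 8)]),
   (0x317648250, [(1, 5, 5, 6), (6, 7, 3, 8)]),
   (0x376148250, [(1, 5, 3, 8)]),
   (0x352768041, [(0, 1, 1, 4), (4, 6, 6, 2), (3, 8, 5, 7)]),
   (0x327568041, [(0, 1, 1, 4), (4, 6, 6, 7), (7, 2, 3, 8)]),
   (0x375268041, [(0, 1, 1, 4), (4, 6, 6, 5), (5, 2, 3, 8)]),
   (0x340758162, [(0, 2, 2, 1), (1, 6, 3, 8), (4, 5, 5, 7)]),
   (0x307458162, [(0, 2, 2, 1), (1, 6, 6, 7), (3, 8, 4, 5)]),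
   (0x374058162, [(0, 2, 2, 1), (1, 6, 6, 4), (4, 5, 3, 8)]),
   (0x148672530, [(1, 3, 3, 2), (2, 5, 5, 6), (6, 8, 4, 7)]),
   (0x186472530, [(1, 3, 3, 2), (2, 5, 5, 4), (4, 7, 7, 8)]),
   (0x164872530, [(1, 3, 3, 2), (2, 5, 5, 8), (4, 7, 7, 6)]),
   (0x268570431, [(0, 1, 1, 3), (2, 4, 4, 7), (7, 6, 6, 8)]),
   (0x285670431, [(0, 1, 1, 3), (2, 4, 4, 7), (7, 8, 5, 6)]),
   (0x256870431, [(0, 1, 1, 3), (2, 4, 4, 7), (7, 5, 5, 8)]),
   (0x058471632, [(0, 2, 2, 6), (6, 8, 1, 3), (4, 7, 7, 5)]),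
   (0x084571632, [(0, 2, 2, 6), (6, 4, 4, 7), (7, 8, 1, 3)]),
   (0x045871632, [(0, 2, 2, 6), (6, 5, 5, 8), (1, 3, 4, 7)]),
   (0x241075368, [(0, 8, 8, 2), (2, 3, 3, 5), (1, 6, 4, 7)])]

/-- Representatives. -/
def antiPairReps4 : List PC :=
  [(0x210475368, [(0, 8, 8, 2), (2, 3, 3, 5), (5, 4, 4, 7), (7, 1, 1, 6)]),
   (0x204175368, [(0, 8, 8, 2), (2, 3, 3, 5), (5, 1, 1, 6), (6, 4, 4, 7)]),
   (0x062174358, [(0, 8, 1, 5), (2, 3, 3, 4), (4, 7, 7, 6)]),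
   (0x021674358, [(0, 8, 1, 5), (5, 6, 2, 3), (3, 4, 4, 7)]),
   (0x016274358, [(0, 8, 1, 5), (5, 2, 2, 3), (3, 4, 4, 7)]),
   (0x150276348, [(0, 8, 8, 1), (1, 4, 4, 7), (7, 5, 5, 2), (2, 3, 3, 6)]),
   (0x102576348, [(0, 8, 8, 1), (1, 4, 4, 7), (2, 3, 3, 6)]),
   (0x125076348, [(0, 8, 8, 1), (1, 4, 4, 7), (7, 2, 2, 3), (3, 6, 6, 5)]),
   (0x243615780, [(1, 8, 8, 2), (2, 7, 7, 4), (3, 5, 5, 6)]),
   (0x236415780, [(1, 8, 8, 2), (2, 7, 7, 3), (3, 5, 5, 4)]),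
   (0x264315780, [(1, 8, 8, 2), (2, 7, 7, 6), (6, 4, 3, 5)]),
   (0x063524781, [(0, 1, 1, 8), (2, 7, 7, 6), (6, 3, 3, 4)]),
   (0x035624781, [(0, 1, 1, 8), (2, 7, 7, 3), (3, 4, 5, 6)]),
   (0x056324781, [(0, 1, 1, 8), (2, 7, 7, 5), (5, 3, 3, 4)]),
   (0x153406782, [(0, 2, 2, 7), (7, 5, 5, 4), (1, 8, 3, 6)]),
   (0x134506782, [(0, 2, 2, 7), (7, 3, 3, 6), (6, 4, 1, 8)]),
   (0x145306782, [(0, 2, 2, 7), (7, 4, 1, 8), (3, 6, 6, 5)]),
   (0x371085624, [(0, 4, 4, 8), (8, 3, 3, 5), (1, 2, 2, 6)]),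
   (0x310785624, [(0, 4, 4, 8), (8, 3, 3, 5), (5, 7, 7, 1), (1, 2, 2, 6)]),
   (0x307185624, [(0, 4, 4, 8), (8, 3, 3, 5), (5, 1, 1, 2), (2, 6, 6, 7)]),
   (0x372184506, [(0, 6, 6, 2), (2, 5, 5, 1), (3, 4, 4, 8)]),
   (0x321784506, [(0, 6, 6, 1), (2, 5, 5, 7), (3, 4, 4, 8)]),
   (0x317284506, [(0, 6, 6, 7), (7, 1, 2, 5), (3, 4, 4, 8)]),
   (0x370286415, [(0, 5, 5, 2), (2, 4, 4, 8), (8, 3, 3, 6)]),
   (0x302786415, [(0, 5, 5, 7), (2, 4, 4, 8), (8, 3, 3, 6)]),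
   (0x327086415, [(0, 5, 2, 4), (4, 8, 8, 3), (3, 6, 6, 7)]),
   (0x531726048, [(0, 8, 8, 5), (5, 7, 7, 3), (3, 6, 6, 1), (1, 4, 4, 2)]),
   (0x517326048, [(0, 8, 8, 5), (5, 3, 3, 6), (6, 7, 7, 1), (1, 4, 4, 2)]),
   (0x573126048, [(0, 8, 8, 5), (5, 1, 1, 4), (4, 2, 3, 6)]),
   (0x432705168, [(0, 8, 8, 4), (1, 6, 6, 2), (3, 5, 5, 7)]),
   (0x427305168, [(0, 8, 8, 4), (1, 6, 6, 7), (7, 2, 3, 5)]),
   (0x473205168, [(0, 8, 8, 4), (1, 6, 6, 3), (3, 5, 5, 2)])]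

/-- Representatives. -/
def antiPairReps5 : List PC :=
  [(0x630714258, [(0, 8, 8, 6), (1, 5, 5, 7), (7, 3, 3, 4)]),
   (0x607314258, [(0, 8, 8, 6), (6, 7, 1, 5), (5, 3, 3, 4)]),
   (0x673014258, [(0, 8, 8, 6), (6, 3, 3, 4), (4, 1, 1, 5)]),
   (0x074238156, [(0, 6, 6, 4), (4, 3, 3, 8), (1, 5, 5, 2)]),
   (0x042738156, [(0, 6, 6, 2), (2, 1, 1, 5), (5, 7, 7, 4), (4, 3, 3, 8)]),
   (0x027438156, [(0, 6, 6, 7), (7, 2, 2, 1), (1, 5, 5, 4), (4, 3, 3, 8)]),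
   (0x176038245, [(0, 5, 1, 4), (4, 3, 3, 8)]),
   (0x160738245, [(0, 5, 5, 7), (7, 6, 1, 4), (4, 3, 3, 8)]),
   (0x107638245, [(0, 5, 5, 6), (6, 7, 1, 4), (4, 3, 3, 8)]),
   (0x275138064, [(0, 4, 4, 3), (3, 8, 8, 2), (1, 6, 6, 5)]),
   (0x251738064, [(0, 4, 4, 3), (3, 8, 8, 2), (1, 6, 5, 7)]),
   (0x217538064, [(0, 4, 4, 3), (3, 8, 8, 2), (1, 6, 6, 7)]),
   (0x780615423, [(0, 3, 3, 5), (5, 6, 1, 2), (2, 4, 7, 8)]),
   (0x706815423, [(0, 3, 3, 5), (5, 8, 8, 7), (1, 2, 2, 4)]),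
   (0x768015423, [(0, 3, 3, 5), (1, 2, 2, 4), (6, 8, 8, 7)]),
   (0x781524603, [(0, 3, 3, 4), (4, 2, 2, 6), (6, 1, 7, 8)]),
   (0x715824603, [(0, 3, 3, 4), (4, 2, 2, 6), (6, 5, 5, 8), (8, 7, 7, 1)]),
   (0x758124603, [(0, 3, 3, 4), (4, 2, 2, 6), (6, 8, 8, 7), (7, 5, 5, 1)]),
   (0x782406513, [(0, 3, 3, 6), (6, 2, 2, 5), (5, 4, 7, 8)]),
   (0x724806513, [(0, 3, 3, 6), (6, 4, 2, 5), (5, 8, 8, 7)]),
   (0x748206513, [(0, 3, 3, 6), (6, 8, 8, 7), (7, 4, 2, 5)]),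
   (0x375248160, [(1, 6, 6, 5), (5, 2, 3, 8)]),
   (0x352748160, [(1, 6, 6, 2), (3, 8, 5, 7)]),
   (0x327548160, [(1, 6, 6, 7), (7, 2, 3, 8)]),
   (0x374068251, [(0, 1, 1, 5), (3, 8, 4, 6)]),
   (0x340768251, [(0, 1, 1, 5), (5, 7, 7, 4), (4, 6, 3, 8)]),
   (0x307468251, [(0, 1, 1, 5), (5, 4, 4, 6), (6, 7, 3, 8)]),
   (0x376158042, [(0, 2, 1, 4), (4, 5, 3, 8)]),
   (0x361758042, [(0, 2, 1, 4), (4, 5, 5, 7), (7, 6, 3, 8)]),
   (0x317658042, [(0, 2, 1, 4), (4, 5, 5, 6), (6, 7, 3, 8)]),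
   (0x203746158, [(0, 8, 8, 2), (2, 1, 1, 5), (5, 7, 3, 6)]),
   (0x237046158, [(0, 8, 8, 2), (2, 1, 1, 5), (3, 6, 6, 7)])]

/-- Representatives. -/
def antiPairReps6 : List PC :=
  [(0x270346158, [(0, 8, 8, 2), (2, 1, 1, 5), (5, 3, 3, 6)]),
   (0x013765248, [(0, 8, 1, 4), (4, 6, 6, 3), (3, 5, 5, 7)]),
   (0x037165248, [(0, 8, 1, 4), (4, 6, 6, 7), (7, 3, 3, 5)]),
   (0x071365248, [(0, 8, 1, 4), (4, 6, 3, 5)]),
   (0x123754068, [(0, 8, 8, 1), (1, 6, 6, 3), (3, 4, 4, 5), (5, 7, 7, 2)]),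
   (0x137254068, [(0, 8, 8, 1), (1, 6, 6, 7), (7, 3, 3, 4), (4, 5, 5, 2)]),
   (0x172354068, [(0, 8, 8, 1), (1, 6, 6, 2), (3, 4, 4, 5)]),
   (0x065823714, [(0, 4, 4, 2), (2, 7, 7, 6), (6, 5, 5, 8)]),
   (0x058623714, [(0, 4, 4, 2), (2, 7, 7, 5), (5, 6, 6, 8)]),
   (0x086523714, [(0, 4, 4, 2), (2, 7, 7, 8)]),
   (0x154803726, [(0, 6, 6, 4), (1, 2, 2, 7), (7, 5, 5, 8)]),
   (0x148503726, [(0, 6, 6, 8), (8, 1, 1, 2), (2, 7, 7, 4)]),
   (0x185403726, [(0, 6, 6, 5), (5, 4, 1, 2), (2, 7, 7, 8)]),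
   (0x246813705, [(0, 5, 5, 8), (8, 2, 2, 7), (7, 4, 4, 1)]),
   (0x268413705, [(0, 5, 5, 4), (4, 1, 2, 7), (7, 6, 6, 8)]),
   (0x284613705, [(0, 5, 5, 6), (6, 4, 4, 1), (2, 7, 7, 8)]),
   (0x845263107, [(0, 7, 7, 4), (4, 6, 6, 5), (5, 2, 2, 1)]),
   (0x852463107, [(0, 7, 7, 5), (5, 4, 4, 6), (6, 2, 2, 1)]),
   (0x824563107, [(0, 7, 7, 2), (2, 1, 4, 6)]),
   (0x864053217, [(0, 7, 7, 6), (6, 4, 4, 5)]),
   (0x840653217, [(0, 7, 7, 4), (4, 5, 5, 6)]),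
   (0x806453217, [(0, 7, 4, 5)]),
   (0x856143027, [(0, 7, 7, 5), (5, 1, 1, 2)]),
   (0x861543027, [(0, 7, 7, 6), (6, 1, 1, 2)]),
   (0x815643027, [(0, 7, 7, 1), (1, 2, 5, 6)]),
   (0x856317204, [(0, 4, 4, 1), (3, 7, 7, 5)]),
   (0x863517204, [(0, 4, 4, 1), (3, 7, 7, 6)]),
   (0x835617204, [(0, 4, 4, 1), (3, 7, 5, 6)]),
   (0x845327016, [(0, 6, 6, 5), (5, 3, 3, 7), (7, 4, 4, 2)]),
   (0x853427016, [(0, 6, 6, 3), (3, 7, 7, 5), (5, 4, 4, 2)]),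
   (0x834527016, [(0, 6, 6, 4), (4, 2, 3, 7)]),
   (0x864307125, [(0, 5, 5, 3), (3, 7, 7, 6), (6, 4, 1, 2)])]

/-- Representatives. -/
def antiPairReps7 : List PC :=
  [(0x843607125, [(0, 5, 5, 6), (6, 3, 3, 7), (7, 4, 1, 2)]),
   (0x836407125, [(0, 5, 5, 4), (1, 2, 3, 7)]),
   (0x152086734, [(0, 4, 4, 8), (8, 1, 1, 3), (3, 6, 6, 2), (2, 7, 7, 5)]),
   (0x120586734, [(0, 4, 4, 8), (8, 1, 1, 3), (3, 6, 2, 7)]),
   (0x105286734, [(0, 4, 4, 8), (8, 1, 1, 3), (3, 6, 6, 5), (5, 2, 2, 7)]),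
   (0x240185736, [(0, 6, 1, 3), (3, 5, 2, 7), (7, 4, 4, 8)]),
   (0x201485736, [(0, 6, 6, 1), (1, 3, 3, 5), (5, 4, 4, 8), (8, 2, 2, 7)]),
   (0x214085736, [(0, 6, 6, 4), (4, 8, 8, 2), (2, 7, 7, 1), (1, 3, 3, 5)]),
   (0x061284735, [(0, 5, 5, 2), (2, 7, 7, 6), (6, 1, 1, 3), (3, 4, 4, 8)]),
   (0x012684735, [(0, 5, 5, 6), (6, 2, 2, 7), (7, 1, 1, 3), (3, 4, 4, 8)]),
   (0x026184735, [(0, 5, 5, 1), (1, 3, 3, 4), (4, 8, 2, 7)]),
   (0x056314287, [(0, 7, 7, 5), (5, 3, 3, 4), (4, 1, 1, 8)]),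
   (0x063514287, [(0, 7, 7, 6), (6, 3, 3, 4), (4, 1, 1, 8)]),
   (0x035614287, [(0, 7, 7, 3), (3, 4, 4, 1), (1, 8, 5, 6)]),
   (0x145326087, [(0, 7, 7, 4), (4, 2, 1, 8), (3, 6, 6, 5)]),
   (0x153426087, [(0, 7, 7, 5), (5, 4, 4, 2), (1, 8, 3, 6)]),
   (0x134526087, [(0, 7, 7, 3), (3, 6, 6, 4), (4, 2, 1, 8)]),
   (0x264305187, [(0, 7, 7, 6), (6, 4, 1, 8), (8, 2, 3, 5)]),
   (0x243605187, [(0, 7, 7, 4), (1, 8, 8, 2), (3, 5, 5, 6)]),
   (0x236405187, [(0, 7, 7, 3), (3, 5, 5, 4), (1, 8, 8, 2)]),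
   (0x803165427, [(0, 7, 1, 2), (2, 4, 4, 6), (6, 3, 3, 5)]),
   (0x831065427, [(0, 7, 7, 3), (3, 5, 1, 2), (2, 4, 4, 6)]),
   (0x810365427, [(0, 7, 7, 1), (1, 2, 2, 4), (4, 6, 3, 5)]),
   (0x813254607, [(0, 7, 7, 1), (2, 6, 6, 3), (3, 4, 4, 5)]),
   (0x832154607, [(0, 7, 7, 3), (3, 4, 4, 5), (5, 1, 2, 6)]),
   (0x821354607, [(0, 7, 7, 2), (2, 6, 6, 1), (3, 4, 4, 5)]),
   (0x823046517, [(0, 7, 7, 2), (2, 5, 3, 6)]),
   (0x830246517, [(0, 7, 7, 3), (3, 6, 2, 5)]),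
   (0x802346517, [(0, 7, 2, 5), (5, 3, 3, 6)]),
   (0x165432807, [(0, 7, 7, 6), (6, 5, 5, 4), (4, 3, 3, 2), (2, 8, 8, 1)]),
   (0x154632807, [(0, 7, 7, 5), (5, 6, 6, 4), (4, 3, 3, 2), (2, 8, 8, 1)]),
   (0x146532807, [(0, 7, 7, 4), (4, 3, 3, 2), (2, 8, 8, 1)])]

/-- Representatives. -/
def antiPairReps8 : List PC :=
  [(0x254630817, [(0, 7, 7, 5), (5, 6, 6, 4), (4, 3, 2, 8)]),
   (0x246530817, [(0, 7, 7, 4), (4, 3, 2, 8)]),
   (0x265430817, [(0, 7, 7, 6), (6, 5, 5, 4), (4, 3, 2, 8)]),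
   (0x046531827, [(0, 7, 7, 4), (4, 3, 3, 1), (1, 2, 2, 8)]),
   (0x065431827, [(0, 7, 7, 6), (6, 5, 5, 4), (4, 3, 3, 1), (1, 2, 2, 8)]),
   (0x054631827, [(0, 7, 7, 5), (5, 6, 6, 4), (4, 3, 3, 1), (1, 2, 2, 8)]),
   (0x741602583, [(0, 3, 3, 2), (2, 5, 5, 6), (6, 1, 1, 8), (8, 7, 7, 4)]),
   (0x716402583, [(0, 3, 3, 2), (2, 5, 5, 4), (1, 8, 8, 7)]),
   (0x764102583, [(0, 3, 3, 2), (2, 5, 5, 1), (1, 8, 8, 7), (7, 6, 6, 4)]),
   (0x762510483, [(0, 3, 1, 8), (8, 7, 7, 6), (6, 2, 2, 4)]),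
   (0x725610483, [(0, 3, 1, 8), (8, 7, 7, 2), (2, 4, 5, 6)]),
   (0x756210483, [(0, 3, 1, 8), (8, 7, 7, 5), (5, 2, 2, 4)]),
   (0x750421683, [(0, 3, 3, 1), (1, 8, 8, 7), (7, 5, 5, 4), (4, 2, 2, 6)]),
   (0x704521683, [(0, 3, 3, 1), (1, 8, 8, 7), (2, 6, 6, 4)]),
   (0x745021683, [(0, 3, 3, 1), (1, 8, 8, 7), (7, 4, 4, 2), (2, 6, 6, 5)]),
   (0x740625138, [(0, 8, 8, 7), (7, 4, 4, 2), (2, 1, 1, 3), (3, 5, 5, 6)]),
   (0x706425138, [(0, 8, 8, 7), (1, 3, 3, 5), (5, 4, 4, 2)]),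
   (0x764025138, [(0, 8, 8, 7), (7, 6, 6, 4), (4, 2, 2, 1), (1, 3, 3, 5)]),
   (0x761504238, [(0, 8, 8, 7), (7, 6, 6, 1), (1, 3, 3, 4)]),
   (0x715604238, [(0, 8, 8, 7), (7, 1, 1, 3), (3, 4, 5, 6)]),
   (0x756104238, [(0, 8, 8, 7), (7, 5, 5, 1), (1, 3, 3, 4)]),
   (0x752416038, [(0, 8, 8, 7), (7, 5, 5, 4), (4, 1, 1, 3), (3, 6, 6, 2)]),
   (0x724516038, [(0, 8, 8, 7), (7, 2, 1, 3), (3, 6, 6, 4)]),
   (0x745216038, [(0, 8, 8, 7), (7, 4, 4, 1), (1, 3, 3, 6), (6, 5, 5, 2)]),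
   (0x560321748, [(0, 8, 8, 5), (5, 3, 3, 1), (1, 4, 4, 2), (2, 7, 7, 6)]),
   (0x503621748, [(0, 8, 8, 5), (5, 6, 6, 3), (3, 1, 1, 4), (4, 2, 2, 7)]),
   (0x536021748, [(0, 8, 8, 5), (1, 4, 4, 2), (2, 7, 7, 3)]),
   (0x451302768, [(0, 8, 8, 4), (1, 6, 2, 7), (7, 5, 5, 3)]),
   (0x413502768, [(0, 8, 8, 4), (1, 6, 6, 3), (3, 2, 2, 7)]),
   (0x435102768, [(0, 8, 8, 4), (1, 6, 6, 5), (2, 7, 7, 3)]),
   (0x642310758, [(0, 8, 8, 6), (6, 2, 2, 7), (7, 4, 4, 1), (1, 5, 5, 3)]),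
   (0x623410758, [(0, 8, 8, 6), (6, 3, 1, 5), (5, 4, 2, 7)])]

/-- Representatives. -/
def antiPairReps9 : List PC :=
  [(0x634210758, [(0, 8, 8, 6), (6, 4, 4, 1), (1, 5, 5, 2), (2, 7, 7, 3)]),
   (0x583214760, [(1, 6, 6, 3), (3, 4, 2, 7), (7, 8, 8, 5)]),
   (0x532814760, [(1, 6, 6, 2), (2, 7, 7, 3), (3, 4, 5, 8)]),
   (0x528314760, [(1, 6, 6, 8), (8, 5, 5, 3), (3, 4, 2, 7)]),
   (0x483026751, [(0, 1, 1, 5), (2, 7, 7, 8), (8, 4, 3, 6)]),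
   (0x430826751, [(0, 1, 1, 5), (5, 8, 8, 4), (4, 2, 2, 7), (7, 3, 3, 6)]),
   (0x408326751, [(0, 1, 1, 5), (5, 3, 3, 6), (6, 8, 8, 4), (4, 2, 2, 7)]),
   (0x683105742, [(0, 2, 2, 7), (7, 8, 8, 6), (6, 3, 3, 5), (5, 1, 1, 4)]),
   (0x631805742, [(0, 2, 2, 7), (7, 3, 3, 5), (5, 8, 8, 6), (6, 1, 1, 4)]),
   (0x618305742, [(0, 2, 2, 7), (7, 1, 1, 4), (3, 5, 6, 8)]),
   (0x260548731, [(0, 1, 1, 3), (3, 8, 8, 2), (2, 7, 7, 6)]),
   (0x205648731, [(0, 1, 1, 3), (3, 8, 8, 2), (2, 7, 5, 6)]),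
   (0x256048731, [(0, 1, 1, 3), (3, 8, 8, 2), (2, 7, 7, 5)]),
   (0x051468732, [(0, 2, 2, 7), (7, 5, 5, 4), (4, 6, 6, 1), (1, 3, 3, 8)]),
   (0x014568732, [(0, 2, 2, 7), (7, 1, 1, 3), (3, 8, 4, 6)]),
   (0x045168732, [(0, 2, 2, 7), (7, 4, 4, 6), (6, 5, 5, 1), (1, 3, 3, 8)]),
   (0x142658730, [(1, 3, 3, 8), (2, 7, 7, 4), (4, 5, 5, 6)]),
   (0x126458730, [(1, 3, 3, 8), (2, 7, 4, 5)]),
   (0x164258730, [(1, 3, 3, 8), (2, 7, 7, 6), (6, 4, 4, 5)]),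
   (0x450178236, [(0, 6, 1, 3), (3, 8, 8, 4), (4, 7, 7, 5)]),
   (0x401578236, [(0, 6, 6, 1), (1, 3, 3, 8), (8, 4, 4, 7)]),
   (0x415078236, [(0, 6, 6, 5), (1, 3, 3, 8), (8, 4, 4, 7)]),
   (0x641278035, [(0, 5, 5, 2), (1, 3, 3, 8), (8, 6, 4, 7)]),
   (0x612478035, [(0, 5, 5, 4), (4, 7, 7, 1), (1, 3, 3, 8), (8, 6, 6, 2)]),
   (0x624178035, [(0, 5, 5, 1), (1, 3, 3, 8), (8, 6, 6, 4), (4, 7, 7, 2)]),
   (0x562078134, [(0, 4, 4, 7), (7, 6, 6, 2), (2, 1, 1, 3), (3, 8, 8, 5)]),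
   (0x520678134, [(0, 4, 4, 7), (7, 2, 2, 1), (1, 3, 3, 8), (8, 5, 5, 6)]),
   (0x506278134, [(0, 4, 4, 7), (1, 3, 3, 8), (8, 5, 5, 2)]),
   (0x752364810, [(2, 8, 8, 7), (7, 5, 5, 3), (3, 4, 4, 6)]),
   (0x723564810, [(2, 8, 8, 7), (3, 4, 4, 6)]),
   (0x735264810, [(2, 8, 8, 7), (7, 3, 3, 4), (4, 6, 6, 5)]),
   (0x740356821, [(0, 1, 1, 2), (2, 8, 8, 7), (7, 4, 4, 5), (5, 3, 3, 6)])]

/-- Representatives. -/
def antiPairReps10 : List PC :=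
  [(0x703456821, [(0, 1, 1, 2), (2, 8, 8, 7), (3, 6, 4, 5)]),
   (0x734056821, [(0, 1, 1, 2), (2, 8, 8, 7), (7, 3, 3, 6), (6, 4, 4, 5)]),
   (0x761345802, [(0, 2, 2, 8), (8, 7, 7, 6), (6, 1, 3, 5)]),
   (0x713645802, [(0, 2, 2, 8), (8, 7, 7, 1), (3, 5, 5, 6)]),
   (0x736145802, [(0, 2, 2, 8), (8, 7, 7, 3), (3, 5, 5, 1)]),
   (0x436015782, [(0, 2, 2, 7), (7, 3, 3, 5), (1, 8, 8, 4)]),
   (0x460315782, [(0, 2, 2, 7), (7, 6, 1, 8), (8, 4, 3, 5)]),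
   (0x403615782, [(0, 2, 2, 7), (1, 8, 8, 4), (3, 5, 5, 6)]),
   (0x635124780, [(1, 8, 8, 6), (6, 5, 2, 7), (7, 3, 3, 4)]),
   (0x651324780, [(1, 8, 8, 6), (2, 7, 7, 5), (5, 3, 3, 4)]),
   (0x613524780, [(1, 8, 8, 6), (6, 3, 3, 4), (4, 2, 2, 7)]),
   (0x534206781, [(0, 1, 1, 8), (8, 5, 5, 2), (2, 7, 7, 3), (3, 6, 6, 4)]),
   (0x542306781, [(0, 1, 1, 8), (8, 5, 5, 3), (3, 6, 6, 2), (2, 7, 7, 4)]),
   (0x523406781, [(0, 1, 1, 8), (8, 5, 5, 4), (2, 7, 3, 6)]),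
   (0x674831520, [(1, 2, 2, 5), (5, 8, 8, 6), (6, 4, 4, 3)]),
   (0x648731520, [(1, 2, 2, 5), (5, 7, 7, 4), (4, 3, 6, 8)]),
   (0x687431520, [(1, 2, 2, 5), (5, 4, 4, 3), (6, 7, 7, 8)]),
   (0x576832401, [(0, 1, 2, 4), (4, 3, 5, 8)]),
   (0x568732401, [(0, 1, 2, 4), (4, 3, 5, 7), (7, 6, 6, 8)]),
   (0x587632401, [(0, 1, 2, 4), (4, 3, 5, 6), (6, 7, 7, 8)]),
   (0x475830612, [(0, 2, 2, 6), (6, 5, 5, 8), (8, 4, 4, 3)]),
   (0x458730612, [(0, 2, 2, 6), (6, 8, 8, 4), (4, 3, 5, 7)]),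
   (0x487530612, [(0, 2, 2, 6), (6, 7, 7, 8), (8, 4, 4, 3)]),
   (0x840713256, [(0, 6, 1, 5), (5, 7, 7, 4)]),
   (0x807413256, [(0, 6, 6, 7), (1, 5, 5, 4)]),
   (0x874013256, [(0, 6, 6, 4), (4, 1, 1, 5)]),
   (0x861723045, [(0, 5, 5, 7), (7, 6, 6, 1), (1, 4, 4, 2)]),
   (0x817623045, [(0, 5, 5, 6), (6, 7, 7, 1), (1, 4, 4, 2)]),
   (0x876123045, [(0, 5, 5, 1), (1, 4, 4, 2)]),
   (0x852703164, [(0, 4, 1, 6), (6, 2, 5, 7)]),
   (0x827503164, [(0, 4, 1, 6), (6, 7, 7, 2)]),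
   (0x875203164, [(0, 4, 1, 6), (6, 5, 5, 2)])]

/-- Representatives. -/
def antiPairReps11 : List PC :=
  [(0x602381574, [(0, 4, 4, 8), (8, 6, 6, 2), (2, 5, 5, 3), (3, 1, 1, 7)]),
   (0x623081574, [(0, 4, 4, 8), (8, 6, 6, 3), (3, 1, 1, 7), (7, 2, 2, 5)]),
   (0x630281574, [(0, 4, 4, 8), (8, 6, 1, 7), (7, 3, 2, 5)]),
   (0x510382476, [(0, 6, 1, 7), (2, 4, 4, 8), (8, 5, 5, 3)]),
   (0x503182476, [(0, 6, 6, 3), (3, 2, 2, 4), (4, 8, 8, 5), (5, 1, 1, 7)]),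
   (0x531082476, [(0, 6, 6, 1), (1, 7, 7, 3), (3, 2, 2, 4), (4, 8, 8, 5)]),
   (0x421380675, [(0, 5, 5, 3), (1, 7, 7, 2), (2, 6, 4, 8)]),
   (0x413280675, [(0, 5, 5, 2), (2, 6, 6, 3), (1, 7, 4, 8)]),
   (0x432180675, [(0, 5, 5, 1), (1, 7, 7, 3), (2, 6, 4, 8)]),
   (0x168307542, [(0, 2, 2, 5), (5, 3, 3, 7), (7, 6, 6, 8), (8, 1, 1, 4)]),
   (0x183607542, [(0, 2, 2, 5), (5, 6, 6, 3), (3, 7, 7, 8), (8, 1, 1, 4)]),
   (0x136807542, [(0, 2, 2, 5), (5, 8, 8, 1), (1, 4, 3, 7)]),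
   (0x258317460, [(1, 6, 6, 8), (8, 2, 2, 4), (3, 7, 7, 5)]),
   (0x283517460, [(1, 6, 6, 3), (3, 7, 7, 8), (8, 2, 2, 4)]),
   (0x235817460, [(1, 6, 6, 5), (5, 8, 8, 2), (2, 4, 3, 7)]),
   (0x048327651, [(0, 1, 1, 5), (5, 3, 3, 7), (7, 4, 4, 2), (2, 6, 6, 8)]),
   (0x083427651, [(0, 1, 1, 5), (5, 4, 4, 2), (2, 6, 6, 3), (3, 7, 7, 8)]),
   (0x034827651, [(0, 1, 1, 5), (5, 8, 2, 6), (6, 4, 3, 7)]),
   (0x037861452, [(0, 2, 2, 4), (4, 6, 6, 7), (7, 3, 3, 1), (1, 5, 5, 8)]),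
   (0x078361452, [(0, 2, 2, 4), (4, 6, 6, 8), (1, 5, 5, 3)]),
   (0x083761452, [(0, 2, 2, 4), (4, 6, 6, 3), (3, 1, 1, 5), (5, 7, 7, 8)]),
   (0x137852640, [(1, 4, 4, 5), (5, 8, 2, 6), (6, 7, 7, 3)]),
   (0x178352640, [(1, 4, 4, 5), (5, 3, 3, 2), (2, 6, 6, 8)]),
   (0x183752640, [(1, 4, 4, 5), (5, 7, 7, 8), (2, 6, 6, 3)]),
   (0x237840561, [(0, 1, 1, 6), (6, 7, 7, 3), (2, 5, 5, 8)]),
   (0x278340561, [(0, 1, 1, 6), (6, 8, 8, 2), (2, 5, 5, 3)]),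
   (0x283740561, [(0, 1, 1, 6), (6, 3, 2, 5), (5, 7, 7, 8)]),
   (0x253014786, [(0, 6, 6, 3), (3, 4, 4, 1), (1, 8, 8, 2), (2, 7, 7, 5)]),
   (0x230514786, [(0, 6, 1, 8), (8, 2, 2, 7), (7, 3, 3, 4)]),
   (0x205314786, [(0, 6, 6, 5), (5, 3, 3, 4), (4, 1, 1, 8), (8, 2, 2, 7)]),
   (0x043126785, [(0, 5, 5, 1), (1, 8, 2, 7), (7, 4, 3, 6)]),
   (0x031426785, [(0, 5, 5, 4), (4, 2, 2, 7), (7, 3, 3, 6), (6, 1, 1, 8)])]

/-- Representatives. -/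
def antiPairReps12 : List PC :=
  [(0x014326785, [(0, 5, 5, 3), (3, 6, 6, 4), (4, 2, 2, 7), (7, 1, 1, 8)]),
   (0x163205784, [(0, 4, 1, 8), (2, 7, 7, 6), (6, 3, 3, 5)]),
   (0x132605784, [(0, 4, 1, 8), (2, 7, 7, 3), (3, 5, 5, 6)]),
   (0x126305784, [(0, 4, 1, 8), (2, 7, 3, 5)]),
   (0x872064315, [(0, 5, 2, 3), (3, 4, 4, 6)]),
   (0x820764315, [(0, 5, 5, 7), (7, 2, 2, 3), (3, 4, 4, 6)]),
   (0x807264315, [(0, 5, 5, 2), (2, 3, 3, 4), (4, 6, 6, 7)]),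
   (0x870156324, [(0, 4, 4, 5), (5, 1, 1, 2), (2, 3, 3, 6)]),
   (0x801756324, [(0, 4, 4, 5), (5, 7, 1, 2), (2, 3, 3, 6)]),
   (0x817056324, [(0, 4, 4, 5), (1, 2, 2, 3), (3, 6, 6, 7)]),
   (0x871245306, [(0, 6, 6, 1), (2, 3, 3, 5)]),
   (0x812745306, [(0, 6, 6, 2), (2, 3, 3, 5), (5, 7, 7, 1)]),
   (0x827145306, [(0, 6, 6, 7), (7, 2, 2, 3), (3, 5, 5, 1)]),
   (0x671082354, [(0, 4, 4, 8), (8, 6, 6, 1), (1, 5, 2, 3)]),
   (0x610782354, [(0, 4, 4, 8), (8, 6, 1, 5), (5, 7, 2, 3)]),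
   (0x607182354, [(0, 4, 4, 8), (8, 6, 6, 7), (1, 5, 2, 3)]),
   (0x572180346, [(0, 6, 6, 2), (2, 3, 1, 4), (4, 8, 8, 5)]),
   (0x521780346, [(0, 6, 6, 1), (1, 4, 4, 8), (8, 5, 5, 7), (7, 2, 2, 3)]),
   (0x517280346, [(0, 6, 6, 7), (7, 1, 1, 4), (4, 8, 8, 5), (5, 2, 2, 3)]),
   (0x470281365, [(0, 5, 5, 2), (2, 3, 3, 1), (1, 6, 4, 8)]),
   (0x402781365, [(0, 5, 5, 7), (1, 6, 6, 2), (2, 3, 4, 8)]),
   (0x427081365, [(0, 5, 1, 6), (6, 7, 7, 2), (2, 3, 4, 8)]),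
   (0x567281340, [(1, 4, 4, 8), (8, 5, 5, 2), (2, 3, 6, 7)]),
   (0x572681340, [(1, 4, 4, 8), (8, 5, 5, 6), (6, 2, 2, 3)]),
   (0x526781340, [(1, 4, 4, 8), (8, 5, 5, 7), (7, 2, 2, 3)]),
   (0x457082361, [(0, 1, 1, 6), (6, 7, 7, 5), (2, 3, 4, 8)]),
   (0x470582361, [(0, 1, 1, 6), (2, 3, 4, 8)]),
   (0x405782361, [(0, 1, 1, 6), (6, 5, 5, 7), (2, 3, 4, 8)]),
   (0x647180352, [(0, 2, 2, 3), (1, 5, 4, 8), (8, 6, 6, 7)]),
   (0x671480352, [(0, 2, 2, 3), (1, 5, 5, 4), (4, 8, 8, 6)]),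
   (0x614780352, [(0, 2, 2, 3), (1, 5, 5, 7), (4, 8, 8, 6)]),
   (0x364120875, [(0, 5, 5, 1), (1, 7, 7, 6), (6, 4, 4, 2), (2, 8, 8, 3)])]

/-- Representatives. -/
def antiPairReps13 : List PC :=
  [(0x341620875, [(0, 5, 5, 6), (6, 1, 1, 7), (7, 4, 4, 2), (2, 8, 8, 3)]),
   (0x316420875, [(0, 5, 5, 4), (4, 2, 2, 8), (8, 3, 1, 7)]),
   (0x356201874, [(0, 4, 1, 7), (7, 5, 5, 2), (2, 8, 8, 3)]),
   (0x362501874, [(0, 4, 1, 7), (7, 6, 6, 2), (2, 8, 8, 3)]),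
   (0x325601874, [(0, 4, 1, 7), (7, 2, 2, 8), (8, 3, 5, 6)]),
   (0x345012876, [(0, 6, 6, 5), (1, 7, 7, 4), (2, 8, 8, 3)]),
   (0x350412876, [(0, 6, 1, 7), (7, 5, 5, 4), (2, 8, 8, 3)]),
   (0x304512876, [(0, 6, 6, 4), (4, 1, 1, 7), (2, 8, 8, 3)]),
   (0x623810745, [(0, 5, 5, 8), (8, 6, 6, 3), (1, 4, 2, 7)]),
   (0x638210745, [(0, 5, 5, 2), (2, 7, 7, 3), (1, 4, 6, 8)]),
   (0x682310745, [(0, 5, 5, 3), (1, 4, 2, 7), (7, 8, 8, 6)]),
   (0x503821764, [(0, 4, 4, 2), (2, 7, 1, 6), (6, 3, 5, 8)]),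
   (0x538021764, [(0, 4, 4, 2), (2, 7, 7, 3), (3, 1, 1, 6), (6, 8, 8, 5)]),
   (0x580321764, [(0, 4, 4, 2), (2, 7, 7, 8), (8, 5, 5, 3), (3, 1, 1, 6)]),
   (0x413802756, [(0, 6, 6, 3), (3, 2, 2, 7), (7, 1, 1, 5), (5, 8, 8, 4)]),
   (0x438102756, [(0, 6, 6, 8), (8, 4, 1, 5), (2, 7, 7, 3)]),
   (0x481302756, [(0, 6, 6, 1), (1, 5, 5, 3), (3, 2, 2, 7), (7, 8, 8, 4)]),
   (0x320741568, [(0, 8, 8, 3), (3, 1, 1, 6), (2, 5, 5, 7)]),
   (0x307241568, [(0, 8, 8, 3), (3, 1, 1, 6), (6, 7, 2, 5)]),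
   (0x372041568, [(0, 8, 8, 3), (3, 1, 1, 6), (6, 2, 2, 5)]),
   (0x301762458, [(0, 8, 8, 3), (3, 2, 2, 4), (4, 6, 6, 1), (1, 5, 5, 7)]),
   (0x317062458, [(0, 8, 8, 3), (3, 2, 2, 4), (4, 6, 6, 7), (7, 1, 1, 5)]),
   (0x370162458, [(0, 8, 8, 3), (3, 2, 2, 4), (4, 6, 1, 5)]),
   (0x312750648, [(0, 8, 8, 3), (1, 4, 4, 5), (5, 7, 2, 6)]),
   (0x327150648, [(0, 8, 8, 3), (1, 4, 4, 5), (2, 6, 6, 7)]),
   (0x371250648, [(0, 8, 8, 3), (1, 4, 4, 5), (5, 2, 2, 6)]),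
   (0x314578602, [(0, 2, 2, 6), (6, 4, 4, 7), (7, 1, 3, 8)]),
   (0x345178602, [(0, 2, 2, 6), (6, 5, 5, 1), (3, 8, 4, 7)]),
   (0x351478602, [(0, 2, 2, 6), (6, 1, 3, 8), (4, 7, 7, 5)]),
   (0x326478510, [(2, 5, 5, 4), (4, 7, 3, 8)]),
   (0x364278510, [(2, 5, 3, 8), (4, 7, 7, 6)]),
   (0x342678510, [(2, 5, 5, 6), (3, 8, 4, 7)])]

/-- Representatives. -/
def antiPairReps14 : List PC :=
  [(0x305678421, [(0, 1, 1, 2), (2, 4, 4, 7), (3, 8, 5, 6)]),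
   (0x356078421, [(0, 1, 1, 2), (2, 4, 4, 7), (7, 5, 3, 8)]),
   (0x360578421, [(0, 1, 1, 2), (2, 4, 4, 7), (7, 6, 3, 8)]),
   (0x718026435, [(0, 5, 1, 3), (3, 6, 6, 8), (8, 7, 2, 4)]),
   (0x780126435, [(0, 5, 5, 1), (1, 3, 3, 6), (2, 4, 7, 8)]),
   (0x701826435, [(0, 5, 5, 8), (8, 7, 1, 3), (3, 6, 2, 4)]),
   (0x128350647, [(0, 7, 7, 2), (2, 6, 6, 8), (8, 1, 1, 4), (4, 5, 5, 3)]),
   (0x183250647, [(0, 7, 7, 8), (8, 1, 1, 4), (4, 5, 5, 2), (2, 6, 6, 3)]),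
   (0x132850647, [(0, 7, 7, 3), (1, 4, 4, 5), (5, 8, 2, 6)]),
   (0x208341567, [(0, 7, 1, 6), (6, 8, 8, 2), (2, 5, 5, 3)]),
   (0x283041567, [(0, 7, 7, 8), (8, 2, 2, 5), (1, 6, 6, 3)]),
   (0x230841567, [(0, 7, 7, 3), (3, 1, 1, 6), (2, 5, 5, 8)]),
   (0x018362457, [(0, 7, 7, 1), (1, 5, 5, 3), (3, 2, 2, 4), (4, 6, 6, 8)]),
   (0x083162457, [(0, 7, 7, 8), (1, 5, 2, 4), (4, 6, 6, 3)]),
   (0x031862457, [(0, 7, 7, 3), (3, 2, 2, 4), (4, 6, 6, 1), (1, 5, 5, 8)]),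
   (0x574836120, [(1, 2, 3, 6), (6, 4, 5, 8)]),
   (0x548736120, [(1, 2, 3, 6), (6, 8, 8, 5), (5, 7, 7, 4)]),
   (0x587436120, [(1, 2, 3, 6), (6, 7, 7, 8), (8, 5, 5, 4)]),
   (0x476835201, [(0, 1, 3, 5), (5, 8, 8, 4)]),
   (0x468735201, [(0, 1, 3, 5), (5, 7, 7, 6), (6, 8, 8, 4)]),
   (0x487635201, [(0, 1, 3, 5), (5, 6, 6, 7), (7, 8, 8, 4)]),
   (0x675834012, [(0, 2, 3, 4), (5, 8, 8, 6)]),
   (0x658734012, [(0, 2, 3, 4), (5, 7, 6, 8)]),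
   (0x687534012, [(0, 2, 3, 4), (6, 7, 7, 8)]),
   (0x827016354, [(0, 4, 4, 1), (1, 5, 2, 3), (3, 6, 6, 7)]),
   (0x870216354, [(0, 4, 4, 1), (1, 5, 5, 2), (2, 3, 3, 6)]),
   (0x802716354, [(0, 4, 4, 1), (1, 5, 5, 7), (2, 3, 3, 6)]),
   (0x043168725, [(0, 5, 5, 1), (1, 2, 2, 7), (7, 4, 4, 6), (6, 3, 3, 8)]),
   (0x031468725, [(0, 5, 5, 4), (4, 6, 6, 1), (1, 2, 2, 7), (7, 3, 3, 8)]),
   (0x014368725, [(0, 5, 5, 3), (3, 8, 1, 2), (2, 7, 4, 6)]),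
   (0x163258704, [(0, 4, 4, 5), (5, 2, 2, 7), (7, 6, 6, 3), (3, 8, 8, 1)]),
   (0x132658704, [(0, 4, 4, 5), (5, 6, 6, 2), (2, 7, 7, 3), (3, 8, 8, 1)])]

/-- Representatives. -/
def antiPairReps15 : List PC :=
  [(0x126358704, [(0, 4, 4, 5), (5, 3, 3, 8), (8, 1, 2, 7)]),
   (0x253048716, [(0, 6, 6, 3), (3, 8, 8, 2), (2, 7, 7, 5)]),
   (0x230548716, [(0, 6, 2, 7), (7, 3, 3, 8)]),
   (0x205348716, [(0, 6, 6, 5), (5, 3, 3, 8), (8, 2, 2, 7)]),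
   (0x347561802, [(0, 2, 2, 8), (8, 3, 3, 1), (4, 6, 6, 7)]),
   (0x375461802, [(0, 2, 2, 8), (8, 3, 3, 1), (4, 6, 6, 5)]),
   (0x354761802, [(0, 2, 2, 8), (8, 3, 3, 1), (4, 6, 5, 7)]),
   (0x871635024, [(0, 4, 4, 3), (3, 5, 5, 6), (6, 1, 1, 2)]),
   (0x801236574, [(0, 4, 4, 3), (3, 6, 6, 1), (1, 7, 2, 5)]),
   (0x852736104, [(0, 4, 4, 3), (3, 6, 6, 2), (2, 1, 5, 7)]),
   (0x815620734, [(0, 4, 4, 2), (2, 7, 7, 1), (1, 3, 5, 6)]),
   (0x872534106, [(0, 6, 6, 2), (2, 1, 3, 4)]),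
   (0x840735216, [(0, 6, 3, 5), (5, 7, 7, 4)]),
   (0x861734025, [(0, 5, 5, 7), (7, 6, 6, 1), (1, 2, 3, 4)]),
   (0x541736802, [(0, 2, 2, 8), (8, 5, 5, 7), (7, 4, 4, 3), (3, 6, 6, 1)]),
   (0x564830712, [(0, 2, 2, 7), (7, 6, 6, 4), (4, 3, 5, 8)]),
   (0x580416732, [(0, 2, 2, 7), (7, 8, 8, 5), (5, 4, 4, 1), (1, 3, 3, 6)]),
   (0x507836412, [(0, 2, 2, 4), (4, 3, 3, 6), (6, 7, 5, 8)]),
   (0x561038742, [(0, 2, 2, 7), (7, 6, 6, 1), (1, 4, 4, 3), (3, 8, 8, 5)]),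
   (0x462735810, [(2, 8, 8, 4), (4, 3, 3, 5), (5, 7, 7, 6)]),
   (0x456831720, [(1, 2, 2, 7), (7, 5, 5, 8), (8, 4, 4, 3)]),
   (0x481625730, [(1, 3, 3, 5), (5, 6, 2, 7), (7, 8, 8, 4)]),
   (0x417835620, [(1, 2, 2, 6), (6, 7, 3, 5), (5, 8, 8, 4)]),
   (0x452138760, [(1, 6, 6, 2), (2, 7, 7, 5), (3, 8, 8, 4)]),
   (0x650734821, [(0, 1, 1, 2), (2, 8, 8, 6), (3, 4, 5, 7)]),
   (0x645832701, [(0, 1, 2, 7), (7, 4, 4, 3), (5, 8, 8, 6)]),
   (0x682504731, [(0, 1, 1, 3), (3, 4, 2, 7), (7, 8, 8, 6)]),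
   (0x627834501, [(0, 1, 2, 5), (5, 8, 8, 6), (6, 7, 3, 4)]),
   (0x640238751, [(0, 1, 1, 5), (5, 2, 2, 7), (7, 4, 4, 3), (3, 8, 8, 6)]),
   (0x805763214, [(0, 4, 4, 6), (6, 5, 5, 7)]),
   (0x801352764, [(0, 4, 4, 5), (5, 3, 3, 2), (2, 7, 1, 6)]),
   (0x802163574, [(0, 4, 4, 6), (6, 2, 2, 5), (5, 1, 1, 7)])]

/-- Representatives. -/
def antiPairReps16 : List PC :=
  [(0x814753026, [(0, 6, 6, 4), (4, 5, 5, 7), (7, 1, 1, 2)]),
   (0x812340756, [(0, 6, 6, 2), (2, 7, 7, 1), (1, 5, 5, 3)]),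
   (0x810253476, [(0, 6, 1, 7), (2, 4, 4, 5)]),
   (0x826743105, [(0, 5, 5, 7), (7, 2, 2, 1)]),
   (0x820361745, [(0, 5, 5, 3), (3, 1, 1, 4), (4, 6, 2, 7)]),
   (0x821043675, [(0, 5, 1, 7), (7, 2, 2, 6)]),
   (0x312407685, [(0, 5, 5, 4), (1, 8, 8, 3), (3, 7, 2, 6)]),
   (0x320617584, [(0, 4, 4, 1), (1, 8, 8, 3), (3, 7, 7, 2), (2, 5, 5, 6)]),
   (0x301527486, [(0, 6, 6, 1), (1, 8, 8, 3), (3, 7, 2, 4)]),
   (0x147350862, [(0, 2, 2, 8), (8, 1, 1, 6), (6, 7, 7, 4), (4, 5, 5, 3)]),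
   (0x106453782, [(0, 2, 2, 7), (1, 8, 4, 5)]),
   (0x180357462, [(0, 2, 2, 4), (4, 5, 5, 3), (3, 7, 7, 8), (8, 1, 1, 6)]),
   (0x267341850, [(1, 5, 5, 3), (2, 8, 6, 7)]),
   (0x215643780, [(1, 8, 8, 2), (2, 7, 5, 6)]),
   (0x281347650, [(1, 5, 5, 3), (3, 7, 7, 8), (8, 2, 2, 6)]),
   (0x057362841, [(0, 1, 1, 4), (4, 6, 6, 7), (7, 5, 5, 3), (3, 2, 2, 8)]),
   (0x024563781, [(0, 1, 1, 8), (2, 7, 4, 6)]),
   (0x082367541, [(0, 1, 1, 4), (4, 6, 6, 2), (2, 5, 5, 3), (3, 7, 7, 8)]),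
   (0x651348207, [(0, 7, 7, 5), (5, 3, 3, 8), (8, 6, 6, 1)]),
   (0x683402157, [(0, 7, 7, 8), (8, 6, 6, 3), (3, 2, 2, 1), (1, 5, 5, 4)]),
   (0x685231407, [(0, 7, 7, 8), (8, 6, 6, 5), (5, 2, 2, 4), (4, 3, 3, 1)]),
   (0x625408137, [(0, 7, 7, 2), (2, 1, 1, 3), (3, 8, 8, 6), (6, 5, 5, 4)]),
   (0x681502347, [(0, 7, 7, 8), (8, 6, 6, 1), (1, 4, 2, 3)]),
   (0x542368017, [(0, 7, 7, 4), (4, 6, 6, 2), (3, 8, 8, 5)]),
   (0x583610247, [(0, 7, 7, 8), (8, 5, 5, 6), (6, 3, 1, 4)]),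
   (0x584032617, [(0, 7, 7, 8), (8, 5, 2, 6), (6, 4, 4, 3)]),
   (0x504618237, [(0, 7, 1, 3), (3, 8, 8, 5), (5, 6, 6, 4)]),
   (0x582410367, [(0, 7, 7, 8), (8, 5, 5, 4), (4, 1, 1, 6), (6, 2, 2, 3)]),
   (0x460358127, [(0, 7, 7, 6), (1, 2, 3, 8), (8, 4, 4, 5)]),
   (0x483521067, [(0, 7, 7, 8), (8, 4, 4, 2), (1, 6, 6, 3)]),
   (0x486130527, [(0, 7, 7, 8), (8, 4, 4, 3), (1, 2, 2, 5)]),
   (0x416528037, [(0, 7, 7, 1), (1, 3, 3, 8), (8, 4, 4, 2)])]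

/-- Representatives. -/
def antiPairReps17 : List PC :=
  [(0x480621357, [(0, 7, 7, 8), (8, 4, 4, 2), (2, 3, 3, 1), (1, 5, 5, 6)]),
   (0x517240368, [(0, 8, 8, 5), (5, 2, 2, 3), (1, 6, 6, 7)]),
   (0x521360748, [(0, 8, 8, 5), (5, 3, 1, 4), (4, 6, 2, 7)]),
   (0x510462378, [(0, 8, 8, 5), (5, 4, 4, 6), (1, 7, 2, 3)]),
   (0x503172468, [(0, 8, 8, 5), (5, 1, 1, 6), (6, 3, 3, 2), (2, 4, 4, 7)]),
   (0x427061358, [(0, 8, 8, 4), (4, 6, 6, 7), (7, 2, 2, 3), (3, 1, 1, 5)]),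
   (0x402351768, [(0, 8, 8, 4), (4, 5, 5, 3), (3, 1, 1, 6), (6, 2, 2, 7)]),
   (0x421650378, [(0, 8, 8, 4), (4, 5, 5, 6), (6, 1, 1, 7), (7, 2, 2, 3)]),
   (0x413270658, [(0, 8, 8, 4), (4, 7, 7, 1), (1, 5, 5, 2), (2, 6, 6, 3)]),
   (0x607152348, [(0, 8, 8, 6), (6, 7, 1, 4), (4, 5, 2, 3)]),
   (0x610342758, [(0, 8, 8, 6), (1, 5, 5, 3), (3, 2, 2, 7)]),
   (0x602541378, [(0, 8, 8, 6), (6, 2, 2, 3), (3, 1, 1, 7)]),
   (0x623071548, [(0, 8, 8, 6), (6, 3, 3, 1), (1, 4, 4, 7), (7, 2, 2, 5)]),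
   (0x723514806, [(0, 6, 6, 3), (3, 4, 4, 1), (2, 8, 8, 7)]),
   (0x743812506, [(0, 6, 6, 3), (3, 2, 2, 5), (5, 8, 8, 7), (7, 4, 4, 1)]),
   (0x724583106, [(0, 6, 6, 4), (4, 8, 8, 7), (7, 2, 2, 1)]),
   (0x754102386, [(0, 6, 6, 4), (1, 8, 8, 7), (7, 5, 2, 3)]),
   (0x753802416, [(0, 6, 6, 3), (3, 2, 2, 4), (5, 8, 8, 7)]),
   (0x723405816, [(0, 6, 6, 3), (3, 5, 5, 4), (2, 8, 8, 7)]),
   (0x271304856, [(0, 6, 6, 1), (1, 5, 5, 3), (3, 4, 2, 8)]),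
   (0x247805316, [(0, 6, 6, 7), (7, 4, 2, 3), (3, 5, 5, 8)]),
   (0x253804716, [(0, 6, 6, 3), (3, 4, 2, 7), (7, 5, 5, 8)]),
   (0x243815706, [(0, 6, 6, 3), (3, 5, 5, 8), (8, 2, 2, 7), (7, 4, 4, 1)]),
   (0x241508376, [(0, 6, 6, 1), (1, 7, 7, 4), (2, 3, 3, 8)]),
   (0x254378106, [(0, 6, 6, 4), (4, 7, 7, 5), (5, 3, 3, 8), (8, 2, 2, 1)]),
   (0x072316845, [(0, 5, 5, 3), (3, 6, 6, 2), (2, 8, 1, 4)]),
   (0x067814325, [(0, 5, 5, 8), (1, 2, 2, 3), (3, 4, 6, 7)]),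
   (0x043816725, [(0, 5, 5, 8), (1, 2, 2, 7), (7, 4, 3, 6)]),
   (0x063824715, [(0, 5, 5, 8), (2, 7, 7, 6), (6, 3, 3, 4)]),
   (0x062418375, [(0, 5, 5, 4), (4, 1, 1, 7), (7, 6, 6, 2), (2, 3, 3, 8)]),
   (0x046378215, [(0, 5, 5, 3), (3, 8, 4, 7)]),
   (0x170325864, [(0, 4, 4, 2), (2, 8, 8, 1), (1, 6, 3, 5)])]

/-- Representatives. -/
def antiPairReps18 : List PC :=
  [(0x157826304, [(0, 4, 4, 2), (2, 3, 3, 6), (6, 7, 7, 5), (5, 8, 8, 1)]),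
   (0x163825704, [(0, 4, 4, 2), (2, 7, 7, 6), (6, 3, 3, 5), (5, 8, 8, 1)]),
   (0x153806724, [(0, 4, 1, 2), (2, 7, 7, 5), (5, 8, 3, 6)]),
   (0x150628374, [(0, 4, 4, 2), (2, 3, 3, 8), (8, 1, 1, 7), (7, 5, 5, 6)]),
   (0x165378024, [(0, 4, 4, 7), (7, 6, 6, 5), (5, 3, 3, 8), (8, 1, 1, 2)]),
   (0x065382714, [(0, 4, 4, 8), (2, 7, 7, 6), (6, 5, 5, 3)]),
   (0x023817564, [(0, 4, 4, 1), (1, 6, 6, 3), (3, 7, 7, 2), (2, 5, 5, 8)]),
   (0x026735814, [(0, 4, 4, 3), (3, 5, 5, 7), (7, 2, 2, 8)]),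
   (0x076812534, [(0, 4, 4, 1), (1, 3, 3, 2), (2, 5, 5, 8)]),
   (0x075312684, [(0, 4, 4, 1), (1, 8, 2, 6), (6, 5, 5, 3)]),
   (0x025617384, [(0, 4, 4, 1), (1, 8, 2, 3), (3, 7, 5, 6)]),
   (0x154380726, [(0, 6, 6, 4), (4, 8, 8, 1), (1, 2, 2, 7), (7, 5, 5, 3)]),
   (0x103827456, [(0, 6, 6, 3), (3, 7, 1, 5), (5, 8, 2, 4)]),
   (0x105734826, [(0, 6, 6, 5), (5, 7, 1, 2), (2, 8, 3, 4)]),
   (0x175820436, [(0, 6, 6, 5), (5, 8, 8, 1), (1, 3, 2, 4)]),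
   (0x174320586, [(0, 6, 6, 4), (4, 2, 2, 5), (5, 3, 1, 8)]),
   (0x104527386, [(0, 6, 6, 4), (4, 2, 2, 3), (3, 7, 1, 8)]),
   (0x246381705, [(0, 5, 5, 3), (3, 1, 2, 7), (7, 4, 4, 8)]),
   (0x213807645, [(0, 5, 5, 8), (8, 2, 2, 6), (6, 3, 3, 7), (7, 1, 1, 4)]),
   (0x214736805, [(0, 5, 5, 7), (7, 1, 2, 8), (3, 6, 6, 4)]),
   (0x274801635, [(0, 5, 5, 8), (8, 2, 2, 6), (6, 4, 1, 3)]),
   (0x276301485, [(0, 5, 5, 3), (3, 1, 1, 8), (8, 2, 2, 4)]),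
   (0x216407385, [(0, 5, 5, 4), (1, 8, 8, 2), (2, 3, 3, 7)]),
   (0x245803716, [(0, 6, 6, 5), (5, 8, 8, 2), (2, 7, 7, 4)]),
   (0x273801546, [(0, 6, 6, 3), (3, 1, 1, 4), (2, 5, 5, 8)]),
   (0x218743506, [(0, 6, 6, 8), (8, 2, 2, 5), (5, 7, 7, 1)]),
   (0x273541806, [(0, 6, 6, 3), (3, 1, 2, 8)]),
   (0x064813725, [(0, 5, 5, 8), (1, 2, 2, 7), (7, 6, 6, 4)]),
   (0x073812465, [(0, 5, 5, 8), (1, 6, 6, 3), (3, 2, 2, 4)]),
   (0x028763415, [(0, 5, 5, 7), (7, 2, 2, 4), (4, 6, 6, 8)]),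
   (0x073462815, [(0, 5, 5, 4), (4, 6, 6, 3), (3, 2, 2, 8)]),
   (0x156823704, [(0, 4, 4, 2), (2, 7, 7, 5), (5, 8, 8, 1)])]

/-- Representatives. -/
def antiPairReps19 : List PC :=
  [(0x173820654, [(0, 4, 4, 2), (2, 6, 6, 3), (1, 5, 5, 8)]),
   (0x108753624, [(0, 4, 4, 5), (5, 7, 1, 2), (2, 6, 6, 8)]),
   (0x173650824, [(0, 4, 4, 5), (5, 6, 6, 3), (1, 2, 2, 8)]),
   (0x634281750, [(1, 5, 5, 2), (2, 7, 7, 3), (4, 8, 8, 6)]),
   (0x627853140, [(1, 4, 4, 5), (5, 8, 8, 6), (6, 7, 7, 2)]),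
   (0x618453720, [(1, 2, 2, 7), (4, 5, 6, 8)]),
   (0x536082741, [(0, 1, 1, 4), (4, 8, 8, 5), (2, 7, 7, 3)]),
   (0x507843261, [(0, 1, 1, 6), (6, 7, 5, 8)]),
   (0x528643701, [(0, 1, 2, 7), (5, 6, 6, 8)]),
   (0x435180762, [(0, 2, 2, 7), (7, 3, 1, 6), (6, 5, 4, 8)]),
   (0x417863052, [(0, 2, 1, 5), (5, 8, 8, 4), (4, 6, 6, 7)]),
   (0x408563712, [(0, 2, 2, 7), (4, 6, 6, 8)]),
   (0x841730256, [(0, 6, 6, 1), (1, 5, 5, 7), (7, 4, 4, 3)]),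
   (0x841057236, [(0, 6, 6, 1), (1, 3, 3, 7), (7, 4, 4, 5)]),
   (0x850731246, [(0, 6, 1, 4), (4, 3, 5, 7)]),
   (0x062437518, [(0, 8, 2, 5), (5, 4, 4, 3), (3, 7, 7, 6)]),
   (0x067452318, [(0, 8, 2, 3), (4, 5, 6, 7)]),
   (0x150637428, [(0, 8, 8, 1), (1, 2, 2, 4), (4, 3, 3, 7), (7, 5, 5, 6)]),
   (0x157640328, [(0, 8, 8, 1), (1, 2, 2, 3), (5, 6, 6, 7)]),
   (0x241537608, [(0, 8, 8, 2), (2, 6, 6, 1), (3, 7, 7, 4)]),
   (0x247561308, [(0, 8, 8, 2), (2, 3, 3, 1), (4, 6, 6, 7)]),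
   (0x036425178, [(0, 8, 1, 7), (7, 3, 3, 5), (5, 4, 4, 2)]),
   (0x056123478, [(0, 8, 1, 7), (7, 5, 2, 4)]),
   (0x031274658, [(0, 8, 1, 5), (5, 2, 2, 6), (3, 4, 4, 7)]),
   (0x035416278, [(0, 8, 1, 7), (7, 3, 3, 6), (6, 5, 5, 4)]),
   (0x046173528, [(0, 8, 1, 2), (2, 5, 4, 7)]),
   (0x135604278, [(0, 8, 8, 1), (1, 7, 7, 3), (3, 4, 5, 6)]),
   (0x145203678, [(0, 8, 8, 1), (1, 7, 7, 4), (2, 6, 6, 5)]),
   (0x132076548, [(0, 8, 8, 1), (1, 4, 4, 7), (7, 3, 3, 6), (6, 2, 2, 5)]),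
   (0x134625078, [(0, 8, 8, 1), (1, 7, 7, 3), (3, 5, 5, 6), (6, 4, 4, 2)]),
   (0x165273408, [(0, 8, 8, 1), (2, 4, 4, 7), (7, 6, 6, 5)]),
   (0x234516078, [(0, 8, 8, 2), (1, 7, 7, 3), (3, 6, 6, 4)])]

/-- Representatives. -/
def antiPairReps20 : List PC :=
  [(0x264013578, [(0, 8, 8, 2), (2, 5, 1, 7), (7, 6, 6, 4)]),
   (0x230175468, [(0, 8, 8, 2), (2, 4, 4, 7), (7, 3, 3, 5), (5, 1, 1, 6)]),
   (0x236504178, [(0, 8, 8, 2), (2, 1, 1, 7), (7, 3, 3, 4)]),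
   (0x254073618, [(0, 8, 8, 2), (2, 6, 6, 4), (4, 7, 7, 5)]),
   (0x564210738, [(0, 8, 8, 5), (5, 2, 2, 7), (7, 6, 6, 4), (4, 1, 1, 3)]),
   (0x516734028, [(0, 8, 8, 5), (5, 7, 7, 1), (1, 2, 3, 4)]),
   (0x504716238, [(0, 8, 8, 5), (5, 7, 1, 3), (3, 6, 6, 4)]),
   (0x456021738, [(0, 8, 8, 4), (4, 2, 2, 7), (7, 5, 1, 3)]),
   (0x425736108, [(0, 8, 8, 4), (4, 3, 3, 6), (6, 5, 5, 7), (7, 2, 2, 1)]),
   (0x416725038, [(0, 8, 8, 4), (4, 2, 1, 3), (3, 5, 5, 7)]),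
   (0x645102738, [(0, 8, 8, 6), (6, 5, 5, 1), (1, 3, 3, 2), (2, 7, 7, 4)]),
   (0x604735218, [(0, 8, 8, 6), (6, 4, 4, 3), (3, 5, 5, 7)]),
   (0x625704138, [(0, 8, 8, 6), (6, 5, 5, 7), (7, 2, 2, 1), (1, 3, 3, 4)]),
   (0x701634285, [(0, 5, 5, 6), (6, 1, 1, 8), (8, 7, 3, 4)]),
   (0x708234615, [(0, 5, 5, 2), (2, 6, 6, 8), (8, 7, 3, 4)]),
   (0x724136805, [(0, 5, 5, 1), (2, 8, 8, 7), (3, 6, 6, 4)]),
   (0x712536084, [(0, 4, 4, 3), (3, 6, 6, 2), (1, 8, 8, 7)]),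
   (0x718036524, [(0, 4, 4, 3), (3, 6, 6, 8), (8, 7, 7, 1), (1, 2, 2, 5)]),
   (0x706235814, [(0, 4, 4, 3), (3, 5, 5, 2), (2, 8, 8, 7)]),
   (0x720435186, [(0, 6, 1, 8), (8, 7, 7, 2), (3, 5, 5, 4)]),
   (0x728135406, [(0, 6, 6, 8), (8, 7, 7, 2), (2, 4, 4, 3), (3, 5, 5, 1)]),
   (0x715034826, [(0, 6, 6, 5), (1, 2, 2, 8), (8, 7, 3, 4)]),
   (0x147623508, [(0, 8, 8, 1), (2, 5, 5, 6), (6, 7, 7, 4)]),
   (0x134756208, [(0, 8, 8, 1), (3, 6, 6, 4), (4, 5, 5, 7)]),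
   (0x267503418, [(0, 8, 8, 2), (2, 4, 6, 7)]),
   (0x236745018, [(0, 8, 8, 2), (3, 5, 5, 7)]),
   (0x057413628, [(0, 8, 1, 2), (2, 6, 6, 7), (7, 5, 5, 4)]),
   (0x035764128, [(0, 8, 1, 2), (3, 4, 4, 6), (6, 5, 5, 7)]),
   (0x812634570, [(1, 7, 2, 5), (5, 6, 3, 4)]),
   (0x854217630, [(1, 3, 3, 7), (7, 5, 5, 2), (2, 6, 6, 4)]),
   (0x820536471, [(0, 1, 1, 7), (7, 2, 2, 4), (4, 3, 3, 6)]),
   (0x846027531, [(0, 1, 1, 3), (3, 7, 7, 4), (4, 2, 2, 5)])]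

/-- Representatives. -/
def antiPairReps21 : List PC :=
  [(0x801435672, [(0, 2, 2, 6), (6, 1, 1, 7), (3, 5, 5, 4)]),
   (0x865107432, [(0, 2, 2, 4), (1, 3, 3, 7), (7, 6, 6, 5)]),
   (0x072361854, [(0, 4, 4, 6), (6, 2, 2, 8), (1, 5, 5, 3)]),
   (0x078351264, [(0, 4, 4, 5), (5, 3, 3, 1), (1, 6, 6, 8)]),
   (0x170352846, [(0, 6, 1, 4), (4, 5, 5, 3), (3, 2, 2, 8)]),
   (0x178342056, [(0, 6, 6, 8), (8, 1, 1, 5), (5, 3, 3, 2)]),
   (0x271340865, [(0, 5, 5, 3), (1, 6, 2, 8)]),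
   (0x278360145, [(0, 5, 5, 3), (1, 4, 4, 6), (6, 8, 8, 2)]),
   (0x846723150, [(1, 5, 5, 7), (7, 4, 4, 2)]),
   (0x837654210, [(3, 4, 4, 5), (5, 6, 6, 7)]),
   (0x865703241, [(0, 1, 1, 4), (5, 7, 7, 6)]),
   (0x837546021, [(0, 1, 1, 2), (3, 6, 6, 7)]),
   (0x854713062, [(0, 2, 1, 6), (6, 4, 5, 7)]),
   (0x837465102, [(0, 2, 2, 1), (3, 5, 5, 4), (4, 6, 6, 7)]),
   (0x586320147, [(0, 7, 7, 8), (8, 5, 5, 3), (1, 4, 4, 2)]),
   (0x536148027, [(0, 7, 7, 3), (3, 8, 8, 5), (5, 1, 1, 2)]),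
   (0x581243607, [(0, 7, 7, 8), (8, 5, 5, 2), (2, 6, 6, 1)]),
   (0x485301267, [(0, 7, 7, 8), (8, 4, 1, 6), (6, 5, 5, 3)]),
   (0x435268107, [(0, 7, 7, 3), (3, 8, 8, 4), (4, 6, 6, 5), (5, 2, 2, 1)]),
   (0x482063517, [(0, 7, 7, 8), (8, 4, 4, 6), (6, 2, 2, 5)]),
   (0x684312057, [(0, 7, 7, 8), (8, 6, 6, 4), (4, 1, 1, 5), (5, 3, 3, 2)]),
   (0x634058217, [(0, 7, 7, 3), (3, 8, 8, 6), (6, 4, 4, 5)]),
   (0x680153427, [(0, 7, 7, 8), (8, 6, 1, 2), (2, 4, 4, 5)]),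
   (0x340718265, [(0, 5, 5, 7), (7, 4, 4, 1), (1, 6, 3, 8)]),
   (0x340268715, [(0, 5, 5, 2), (2, 7, 7, 4), (4, 6, 3, 8)]),
   (0x372168045, [(0, 5, 5, 1), (1, 4, 4, 6), (6, 2, 3, 8)]),
   (0x347860125, [(0, 5, 5, 8), (8, 3, 1, 2), (4, 6, 6, 7)]),
   (0x361728054, [(0, 4, 4, 2), (1, 5, 5, 7), (7, 6, 3, 8)]),
   (0x361058724, [(0, 4, 4, 5), (1, 2, 2, 7), (7, 6, 3, 8)]),
   (0x370258164, [(0, 4, 4, 5), (5, 2, 2, 1), (1, 6, 3, 8)]),
   (0x367851204, [(0, 4, 4, 5), (5, 8, 8, 3), (3, 1, 6, 7)]),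
   (0x352708146, [(0, 6, 6, 2), (2, 1, 1, 4), (3, 8, 5, 7)])]

/-- Representatives. -/
def antiPairReps22 : List PC :=
  [(0x352148706, [(0, 6, 6, 2), (2, 7, 7, 5), (5, 1, 3, 8)]),
   (0x371048256, [(0, 6, 6, 1), (1, 5, 3, 8)]),
   (0x357842016, [(0, 6, 6, 7), (7, 5, 5, 8), (8, 3, 3, 2)]),
   (0x417035682, [(0, 2, 2, 6), (6, 7, 7, 1), (1, 8, 8, 4), (4, 3, 3, 5)]),
   (0x627134580, [(1, 8, 8, 6), (6, 7, 7, 2), (2, 5, 3, 4)]),
   (0x507236481, [(0, 1, 1, 8), (8, 5, 5, 2), (2, 4, 4, 3), (3, 6, 6, 7)]),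
   (0x568304721, [(0, 1, 1, 2), (2, 7, 7, 6), (6, 8, 8, 5), (5, 3, 3, 4)]),
   (0x458316702, [(0, 2, 2, 7), (7, 5, 5, 3), (3, 6, 6, 8), (8, 4, 4, 1)]),
   (0x648325710, [(2, 7, 7, 4), (3, 5, 6, 8)]),
   (0x026731845, [(0, 5, 5, 7), (7, 2, 2, 8), (1, 4, 4, 3)]),
   (0x024168735, [(0, 5, 5, 1), (1, 3, 3, 8), (2, 7, 4, 6)]),
   (0x105732864, [(0, 4, 4, 3), (3, 2, 2, 8), (8, 1, 1, 6), (6, 5, 5, 7)]),
   (0x106258734, [(0, 4, 4, 5), (5, 2, 2, 7), (1, 3, 3, 8)]),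
   (0x214730856, [(0, 6, 6, 4), (4, 3, 1, 5), (5, 7, 2, 8)]),
   (0x215048736, [(0, 6, 6, 5), (1, 3, 3, 8), (8, 2, 2, 7)]),
   (0x314275086, [(0, 6, 6, 4), (4, 7, 7, 1), (1, 8, 8, 3), (3, 5, 5, 2)]),
   (0x357102486, [(0, 6, 6, 7), (7, 5, 5, 1), (1, 8, 8, 3), (3, 2, 2, 4)]),
   (0x342501786, [(0, 6, 6, 2), (2, 7, 7, 4), (1, 8, 8, 3)]),
   (0x326074185, [(0, 5, 1, 8), (8, 3, 3, 4), (4, 7, 7, 2)]),
   (0x347210685, [(0, 5, 5, 2), (2, 6, 6, 7), (7, 4, 4, 1), (1, 8, 8, 3)]),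
   (0x360412785, [(0, 5, 5, 4), (4, 1, 1, 8), (8, 3, 3, 2), (2, 7, 7, 6)]),
   (0x305176284, [(0, 4, 4, 7), (1, 8, 8, 3), (3, 6, 6, 5)]),
   (0x367021584, [(0, 4, 4, 2), (2, 5, 1, 8), (8, 3, 6, 7)]),
   (0x351620784, [(0, 4, 4, 2), (2, 7, 7, 5), (5, 6, 6, 1), (1, 8, 8, 3)]),
   (0x631458720, [(1, 2, 2, 7), (7, 3, 3, 8), (8, 6, 4, 5)]),
   (0x631728450, [(1, 5, 5, 7), (7, 3, 3, 8), (8, 6, 2, 4)]),
   (0x532648701, [(0, 1, 2, 7), (7, 3, 3, 8), (8, 5, 5, 6)]),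
   (0x532708641, [(0, 1, 1, 4), (2, 6, 3, 8), (8, 5, 5, 7)]),
   (0x430568712, [(0, 2, 2, 7), (7, 3, 3, 8), (8, 4, 4, 6)]),
   (0x430718562, [(0, 2, 2, 5), (5, 7, 7, 3), (3, 8, 8, 4), (4, 1, 1, 6)]),
   (0x053728461, [(0, 1, 1, 6), (6, 3, 3, 8), (2, 4, 5, 7)]),
   (0x143708652, [(0, 2, 2, 6), (6, 3, 3, 8), (8, 1, 1, 5), (5, 7, 7, 4)])]

/-- Representatives. -/
def antiPairReps23 : List PC :=
  [(0x263718540, [(1, 4, 2, 5), (5, 7, 7, 6), (6, 3, 3, 8)]),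
   (0x825034716, [(0, 6, 6, 5), (2, 7, 3, 4)]),
   (0x824735016, [(0, 6, 6, 4), (4, 3, 3, 5), (5, 7, 7, 2)]),
   (0x857402136, [(0, 6, 6, 7), (7, 5, 5, 4), (1, 3, 3, 2)]),
   (0x804136725, [(0, 5, 5, 1), (1, 2, 2, 7), (3, 6, 6, 4)]),
   (0x806734125, [(0, 5, 5, 7), (1, 2, 3, 4)]),
   (0x847610235, [(0, 5, 5, 6), (6, 7, 7, 4), (4, 1, 1, 3)]),
   (0x816235704, [(0, 4, 4, 3), (3, 5, 5, 2), (2, 7, 7, 1)]),
   (0x815736204, [(0, 4, 4, 3), (3, 6, 6, 5), (5, 7, 7, 1)]),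
   (0x867521034, [(0, 4, 4, 2), (1, 3, 6, 7)]),
   (0x502371468, [(0, 8, 8, 5), (5, 3, 3, 1), (1, 6, 6, 2), (2, 4, 4, 7)]),
   (0x541372068, [(0, 8, 8, 5), (5, 3, 3, 2), (1, 6, 4, 7)]),
   (0x521364078, [(0, 8, 8, 5), (5, 3, 3, 4), (4, 6, 6, 1), (1, 7, 7, 2)]),
   (0x410372658, [(0, 8, 8, 4), (4, 7, 7, 1), (1, 5, 5, 3), (3, 2, 2, 6)]),
   (0x462370158, [(0, 8, 8, 4), (4, 7, 7, 6), (6, 2, 2, 1), (1, 5, 5, 3)]),
   (0x402356178, [(0, 8, 8, 4), (4, 5, 5, 3), (3, 6, 6, 2), (2, 1, 1, 7)]),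
   (0x621370548, [(0, 8, 8, 6), (6, 1, 1, 4), (4, 7, 7, 2), (2, 5, 5, 3)]),
   (0x650371248, [(0, 8, 8, 6), (1, 4, 4, 7), (7, 5, 5, 3)]),
   (0x610345278, [(0, 8, 8, 6), (1, 7, 3, 5)]),
   (0x280536741, [(0, 1, 1, 4), (4, 3, 3, 6), (2, 7, 7, 8)]),
   (0x081435762, [(0, 2, 2, 7), (7, 8, 1, 6), (3, 5, 5, 4)]),
   (0x182634750, [(1, 5, 5, 6), (6, 2, 2, 7), (7, 8, 3, 4)]),
   (0x618752043, [(0, 3, 3, 2), (1, 4, 4, 5), (5, 7, 6, 8)]),
   (0x528740163, [(0, 3, 1, 6), (6, 8, 8, 5), (5, 7, 7, 2)]),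
   (0x408761253, [(0, 3, 3, 1), (1, 5, 5, 7), (4, 6, 6, 8)]),
   (0x705832641, [(0, 1, 1, 4), (4, 3, 3, 2), (2, 6, 6, 5), (5, 8, 8, 7)]),
   (0x765842031, [(0, 1, 1, 3), (3, 2, 5, 8), (8, 7, 7, 6)]),
   (0x702865341, [(0, 1, 1, 4), (4, 6, 6, 2), (2, 3, 3, 5), (5, 8, 8, 7)]),
   (0x714830562, [(0, 2, 2, 5), (5, 8, 8, 7), (7, 1, 1, 6), (6, 4, 4, 3)]),
   (0x754860132, [(0, 2, 2, 1), (1, 3, 4, 6), (5, 8, 8, 7)]),
   (0x710854362, [(0, 2, 2, 3), (3, 4, 4, 5), (5, 8, 8, 7), (7, 1, 1, 6)]),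
   (0x726831450, [(1, 5, 5, 8), (8, 7, 7, 2), (2, 4, 4, 3)])]

/-- Representatives. -/
def antiPairReps24 : List PC :=
  [(0x746851230, [(1, 3, 4, 5), (5, 8, 8, 7)]),
   (0x721846350, [(1, 5, 5, 8), (8, 7, 7, 2), (2, 3, 3, 6)]),
   (0x260735814, [(0, 4, 4, 3), (3, 5, 5, 7), (7, 6, 2, 8)]),
   (0x268317054, [(0, 4, 4, 1), (1, 5, 5, 3), (3, 7, 7, 6), (6, 8, 8, 2)]),
   (0x051734826, [(0, 6, 6, 1), (1, 2, 2, 8), (3, 4, 5, 7)]),
   (0x058327146, [(0, 6, 6, 8), (1, 4, 4, 2), (3, 7, 7, 5)]),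
   (0x142736805, [(0, 5, 5, 7), (7, 4, 4, 3), (3, 6, 6, 2), (2, 8, 8, 1)]),
   (0x148307265, [(0, 5, 5, 3), (3, 7, 7, 4), (1, 6, 6, 8)]),
   (0x681753420, [(1, 2, 2, 4), (4, 5, 5, 7), (7, 8, 8, 6)]),
   (0x582743601, [(0, 1, 2, 6), (5, 7, 7, 8)]),
   (0x480763512, [(0, 2, 2, 5), (5, 7, 7, 8), (8, 4, 4, 6)]),
   (0x047128653, [(0, 3, 3, 8), (1, 5, 2, 6), (6, 7, 7, 4)]),
   (0x167208543, [(0, 3, 3, 8), (8, 1, 1, 4), (2, 5, 6, 7)]),
   (0x257018463, [(0, 3, 3, 8), (8, 2, 2, 4), (4, 1, 1, 6), (6, 7, 7, 5)]),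
   (0x501462387, [(0, 7, 1, 8), (8, 5, 5, 4), (4, 6, 2, 3)]),
   (0x584261037, [(0, 7, 7, 8), (8, 5, 5, 2), (1, 3, 4, 6)]),
   (0x412650387, [(0, 7, 7, 1), (1, 8, 8, 4), (4, 5, 5, 6), (6, 2, 2, 3)]),
   (0x486052137, [(0, 7, 7, 8), (8, 4, 4, 5), (1, 3, 3, 2)]),
   (0x620541387, [(0, 7, 7, 2), (2, 3, 3, 1), (1, 8, 8, 6)]),
   (0x685140237, [(0, 7, 7, 8), (8, 6, 6, 5), (5, 1, 1, 3)]),
   (0x875132046, [(0, 6, 6, 5), (5, 1, 1, 4), (4, 3, 3, 2)]),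
   (0x874230165, [(0, 5, 5, 2), (2, 1, 1, 6), (6, 4, 4, 3)]),
   (0x876031254, [(0, 4, 4, 3), (3, 1, 1, 5)]),
   (0x102735468, [(0, 8, 8, 1), (1, 6, 6, 2), (2, 4, 4, 3), (3, 5, 5, 7)]),
   (0x150247368, [(0, 8, 8, 1), (1, 6, 2, 3), (3, 7, 7, 5)]),
   (0x210734658, [(0, 8, 8, 2), (2, 6, 1, 5), (5, 7, 3, 4)]),
   (0x241067358, [(0, 8, 8, 2), (2, 3, 3, 7), (7, 4, 4, 6), (6, 1, 1, 5)]),
   (0x021736548, [(0, 8, 1, 4), (4, 3, 3, 6), (2, 5, 5, 7)]),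
   (0x062157348, [(0, 8, 1, 4), (4, 5, 2, 3), (3, 7, 7, 6)]),
   (0x350174862, [(0, 2, 2, 8), (8, 3, 3, 4), (4, 7, 7, 5), (5, 1, 1, 6)]),
   (0x310468572, [(0, 2, 2, 5), (5, 4, 4, 6), (1, 7, 3, 8)]),
   (0x341276850, [(1, 5, 5, 2), (2, 8, 8, 3), (3, 6, 4, 7)])]

/-- Representatives. -/
def antiPairReps25 : List PC :=
  [(0x321658470, [(1, 7, 7, 2), (2, 4, 4, 5), (5, 6, 3, 8)]),
   (0x362075841, [(0, 1, 1, 4), (4, 7, 7, 6), (6, 2, 2, 8), (8, 3, 3, 5)]),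
   (0x302548671, [(0, 1, 1, 7), (2, 6, 3, 8)]),
   (0x783025461, [(0, 1, 1, 6), (6, 3, 3, 5), (2, 4, 7, 8)]),
   (0x784625301, [(0, 1, 2, 3), (3, 5, 5, 6), (6, 4, 7, 8)]),
   (0x756028431, [(0, 1, 1, 3), (3, 8, 8, 7), (7, 5, 2, 4)]),
   (0x783104652, [(0, 2, 2, 6), (6, 3, 3, 4), (1, 5, 7, 8)]),
   (0x786504312, [(0, 2, 2, 3), (3, 4, 7, 8)]),
   (0x745108632, [(0, 2, 2, 6), (6, 5, 5, 1), (1, 3, 3, 8), (8, 7, 7, 4)]),
   (0x783216540, [(1, 4, 2, 5), (3, 6, 7, 8)]),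
   (0x785416320, [(1, 2, 2, 3), (3, 6, 6, 5), (5, 4, 7, 8)]),
   (0x764218530, [(1, 3, 3, 8), (8, 7, 7, 6), (6, 4, 2, 5)]),
   (0x518406732, [(0, 2, 2, 7), (7, 1, 1, 3), (3, 6, 6, 8), (8, 5, 5, 4)]),
   (0x516438702, [(0, 2, 2, 7), (7, 1, 3, 8), (8, 5, 5, 4)]),
   (0x428615730, [(1, 3, 3, 5), (5, 6, 6, 8), (8, 4, 2, 7)]),
   (0x425638710, [(2, 7, 3, 8), (8, 4, 5, 6)]),
   (0x608524731, [(0, 1, 1, 3), (3, 4, 4, 2), (2, 7, 6, 8)]),
   (0x604538721, [(0, 1, 1, 2), (2, 7, 3, 8), (8, 6, 6, 4)]),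
   (0x817436052, [(0, 2, 1, 5), (5, 4, 4, 3), (3, 6, 6, 7)]),
   (0x827635140, [(1, 4, 4, 3), (3, 5, 5, 6), (6, 7, 7, 2)]),
   (0x807534261, [(0, 1, 1, 6), (6, 7, 3, 4)]),
   (0x813470265, [(0, 5, 5, 4), (4, 7, 7, 1), (1, 6, 6, 3)]),
   (0x823671054, [(0, 4, 4, 7), (7, 2, 1, 5), (5, 6, 6, 3)]),
   (0x803572146, [(0, 6, 6, 3), (3, 2, 2, 1), (1, 4, 4, 7)]),
   (0x678235410, [(2, 4, 4, 3), (3, 5, 6, 8)]),
   (0x675218430, [(1, 3, 3, 8), (8, 6, 6, 5), (5, 2, 2, 4)]),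
   (0x578034621, [(0, 1, 1, 2), (2, 6, 6, 8), (8, 5, 3, 4)]),
   (0x574028631, [(0, 1, 1, 3), (3, 8, 8, 5), (2, 6, 6, 4)]),
   (0x478136502, [(0, 2, 2, 5), (5, 1, 3, 6), (6, 8, 8, 4)]),
   (0x476108532, [(0, 2, 2, 5), (5, 1, 1, 3), (3, 8, 8, 4)]),
   (0x326178450, [(1, 5, 2, 4), (4, 7, 3, 8)]),
   (0x324876510, [(2, 5, 5, 8), (8, 3, 3, 6), (6, 4, 4, 7)])]

/-- Representatives. -/
def antiPairReps26 : List PC :=
  [(0x305278641, [(0, 1, 1, 4), (4, 7, 2, 6), (6, 5, 3, 8)]),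
   (0x306875421, [(0, 1, 1, 2), (2, 4, 4, 7), (3, 5, 5, 8)]),
   (0x314078562, [(0, 2, 2, 5), (1, 6, 6, 4), (4, 7, 3, 8)]),
   (0x315874602, [(0, 2, 2, 6), (6, 5, 5, 8), (8, 3, 3, 4), (4, 7, 7, 1)]),
   (0x762483501, [(0, 1, 2, 5), (5, 4, 4, 8), (8, 7, 7, 6)]),
   (0x750683412, [(0, 2, 2, 4), (4, 8, 8, 7), (7, 5, 5, 6)]),
   (0x741583620, [(1, 2, 2, 6), (4, 8, 8, 7)]),
   (0x750361428, [(0, 8, 8, 7), (7, 5, 5, 3), (3, 1, 1, 2), (2, 4, 4, 6)]),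
   (0x741352608, [(0, 8, 8, 7), (7, 4, 4, 5), (5, 3, 3, 2), (2, 6, 6, 1)]),
   (0x762340518, [(0, 8, 8, 7), (7, 6, 6, 2), (2, 5, 5, 3)]),
   (0x486530172, [(0, 2, 2, 1), (1, 7, 7, 8), (8, 4, 4, 3)]),
   (0x685431270, [(1, 7, 7, 8), (8, 6, 6, 5), (5, 4, 4, 3)]),
   (0x584632071, [(0, 1, 1, 7), (7, 8, 8, 5), (5, 6, 6, 4), (4, 3, 3, 2)]),
   (0x268014573, [(0, 3, 3, 4), (4, 1, 1, 7), (7, 6, 6, 8), (8, 2, 2, 5)]),
   (0x250714863, [(0, 3, 3, 4), (4, 1, 1, 6), (2, 8, 5, 7)]),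
   (0x285406713, [(0, 3, 3, 6), (6, 5, 5, 4), (2, 7, 7, 8)]),
   (0x058126473, [(0, 3, 3, 6), (6, 8, 1, 7), (7, 5, 2, 4)]),
   (0x041726853, [(0, 3, 3, 6), (6, 1, 1, 5), (5, 7, 7, 4), (4, 2, 2, 8)]),
   (0x084615723, [(0, 3, 3, 5), (5, 6, 6, 4), (4, 1, 1, 2), (2, 7, 7, 8)]),
   (0x148205673, [(0, 3, 3, 5), (5, 2, 2, 6), (6, 8, 8, 1), (1, 7, 7, 4)]),
   (0x162705843, [(0, 3, 3, 5), (5, 7, 7, 6), (6, 2, 2, 8), (8, 1, 1, 4)]),
   (0x186524703, [(0, 3, 3, 4), (4, 2, 2, 7), (7, 8, 8, 1)]),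
   (0x720861453, [(0, 3, 3, 1), (1, 5, 5, 8), (8, 7, 7, 2), (2, 4, 4, 6)]),
   (0x701852643, [(0, 3, 3, 2), (2, 6, 6, 1), (1, 4, 4, 5), (5, 8, 8, 7)]),
   (0x712840563, [(0, 3, 1, 6), (6, 2, 2, 5), (5, 8, 8, 7)]),
   (0x018346572, [(0, 2, 2, 5), (5, 3, 3, 6), (6, 8, 1, 7)]),
   (0x128365470, [(1, 7, 7, 2), (2, 4, 4, 6), (6, 8, 3, 5)]),
   (0x208354671, [(0, 1, 1, 7), (2, 6, 6, 8), (3, 4, 4, 5)]),
   (0x130826574, [(0, 4, 4, 2), (2, 5, 5, 8), (8, 1, 1, 7), (7, 3, 3, 6)]),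
   (0x231805476, [(0, 6, 6, 1), (1, 7, 7, 3), (3, 5, 5, 8), (8, 2, 2, 4)]),
   (0x032814675, [(0, 5, 5, 8), (1, 7, 7, 3), (3, 4, 2, 6)]),
   (0x712836450, [(1, 5, 5, 8), (8, 7, 2, 4), (4, 3, 3, 6)])]

/-- Representatives. -/
def antiPairReps27 : List PC :=
  [(0x720835641, [(0, 1, 1, 4), (4, 3, 3, 5), (5, 8, 8, 7), (7, 2, 2, 6)]),
   (0x701834562, [(0, 2, 2, 5), (5, 8, 8, 7), (1, 6, 3, 4)]),
   (0x603548271, [(0, 1, 1, 7), (3, 8, 8, 6)]),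
   (0x682357041, [(0, 1, 1, 4), (4, 5, 5, 3), (3, 7, 7, 8), (8, 6, 6, 2)]),
   (0x513468072, [(0, 2, 1, 7), (3, 8, 8, 5), (5, 4, 4, 6)]),
   (0x580347162, [(0, 2, 2, 1), (1, 6, 3, 7), (7, 8, 8, 5)]),
   (0x423658170, [(1, 7, 7, 2), (3, 8, 8, 4), (4, 5, 5, 6)]),
   (0x481367250, [(1, 5, 5, 3), (3, 7, 7, 8), (8, 4, 4, 6)]),
   (0x124375860, [(1, 6, 6, 4), (4, 7, 7, 2), (2, 8, 3, 5)]),
   (0x206374851, [(0, 1, 1, 5), (5, 3, 3, 4), (4, 7, 2, 8)]),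
   (0x015376842, [(0, 2, 2, 8), (1, 4, 4, 7), (3, 6, 6, 5)]),
   (0x715324068, [(0, 8, 8, 7), (7, 1, 1, 6), (6, 5, 5, 3), (3, 4, 4, 2)]),
   (0x213564087, [(0, 7, 7, 1), (1, 8, 8, 2), (3, 4, 4, 6)]),
   (0x724306158, [(0, 8, 8, 7), (7, 2, 2, 1), (1, 5, 5, 3), (3, 6, 6, 4)]),
   (0x023456187, [(0, 7, 7, 2), (2, 1, 1, 8), (3, 6, 4, 5)]),
   (0x706315248, [(0, 8, 8, 7), (1, 4, 3, 5)]),
   (0x103645287, [(0, 7, 1, 8), (3, 5, 5, 6)]),
   (0x130845672, [(0, 2, 2, 6), (1, 7, 7, 3), (3, 5, 5, 8)]),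
   (0x231864570, [(1, 7, 7, 3), (3, 4, 4, 6), (2, 5, 5, 8)]),
   (0x032856471, [(0, 1, 1, 7), (7, 3, 3, 6), (6, 2, 2, 4), (4, 5, 5, 8)]),
   (0x837546102, [(0, 2, 2, 1), (3, 6, 6, 7)]),
   (0x401683572, [(0, 2, 2, 5), (5, 6, 6, 1), (1, 7, 4, 8)]),
   (0x378546102, [(0, 2, 2, 1), (3, 6, 6, 8)]),
   (0x837465210, [(3, 5, 5, 4), (4, 6, 6, 7)]),
   (0x612583470, [(1, 7, 2, 4), (4, 8, 8, 6)]),
   (0x378465210, [(3, 5, 5, 4), (4, 6, 6, 8)]),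
   (0x837654021, [(0, 1, 1, 2), (3, 4, 4, 5), (5, 6, 6, 7)]),
   (0x520483671, [(0, 1, 1, 7), (7, 2, 2, 6), (4, 8, 8, 5)]),
   (0x378654021, [(0, 1, 1, 2), (3, 4, 4, 5), (5, 6, 6, 8)]),
   (0x324065178, [(0, 8, 8, 3), (3, 5, 1, 7), (7, 2, 4, 6)]),
   (0x306154278, [(0, 8, 8, 3), (3, 4, 4, 5), (5, 1, 1, 7)]),
   (0x315246078, [(0, 8, 8, 3), (3, 6, 6, 5), (5, 2, 1, 7)])]

/-- Representatives. -/
def antiPairReps28 : List PC :=
  [(0x563248701, [(0, 1, 2, 7), (7, 6, 6, 3), (3, 8, 8, 5)]),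
   (0x380746251, [(0, 1, 1, 5), (5, 7, 7, 8), (8, 3, 3, 6)]),
   (0x208736541, [(0, 1, 1, 4), (4, 3, 3, 6), (6, 8, 8, 2), (2, 5, 5, 7)]),
   (0x453068712, [(0, 2, 2, 7), (7, 5, 3, 8), (8, 4, 4, 6)]),
   (0x381765042, [(0, 2, 1, 4), (4, 6, 3, 5), (5, 7, 7, 8)]),
   (0x018735462, [(0, 2, 2, 4), (4, 3, 3, 5), (5, 7, 7, 1), (1, 6, 6, 8)]),
   (0x643158720, [(1, 2, 2, 7), (7, 4, 4, 5), (3, 8, 8, 6)]),
   (0x382754160, [(1, 6, 6, 2), (3, 4, 4, 5), (5, 7, 7, 8)]),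
   (0x128734650, [(1, 5, 5, 7), (7, 2, 2, 6), (6, 8, 3, 4)]),
   (0x480513762, [(0, 2, 2, 7), (7, 8, 8, 4), (4, 1, 1, 6)]),
   (0x486013752, [(0, 2, 2, 7), (7, 8, 8, 4), (4, 1, 1, 5)]),
   (0x403857612, [(0, 2, 2, 6), (6, 3, 3, 7), (4, 5, 5, 8)]),
   (0x543710862, [(0, 2, 2, 8), (8, 5, 5, 7), (7, 4, 4, 1), (1, 6, 6, 3)]),
   (0x473510862, [(0, 2, 2, 8), (8, 4, 4, 1), (1, 6, 6, 3)]),
   (0x530847612, [(0, 2, 2, 6), (3, 7, 5, 8)]),
   (0x681423750, [(1, 5, 5, 4), (4, 2, 2, 7), (7, 8, 8, 6)]),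
   (0x685123740, [(1, 4, 4, 2), (2, 7, 7, 8), (8, 6, 6, 5)]),
   (0x613847520, [(1, 2, 2, 5), (5, 8, 8, 6), (6, 3, 3, 7)]),
   (0x673421850, [(1, 5, 5, 4), (4, 2, 2, 8), (8, 6, 6, 3)]),
   (0x431867520, [(1, 2, 2, 5), (5, 8, 8, 4), (4, 6, 3, 7)]),
   (0x584203761, [(0, 1, 1, 6), (6, 4, 2, 7), (7, 8, 8, 5)]),
   (0x523867401, [(0, 1, 2, 4), (4, 6, 6, 3), (3, 7, 5, 8)]),
   (0x573602841, [(0, 1, 1, 4), (2, 8, 8, 5), (5, 6, 6, 3)]),
   (0x632857401, [(0, 1, 2, 4), (4, 5, 5, 8), (8, 6, 3, 7)]),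
   (0x180627543, [(0, 3, 3, 7), (7, 8, 8, 1), (1, 4, 4, 2), (2, 5, 5, 6)]),
   (0x147820653, [(0, 3, 1, 5), (5, 8, 2, 6), (6, 7, 7, 4)]),
   (0x281507463, [(0, 3, 3, 7), (7, 8, 8, 2), (2, 4, 1, 6)]),
   (0x267801543, [(0, 3, 3, 1), (1, 4, 2, 5), (5, 8, 6, 7)]),
   (0x082417653, [(0, 3, 3, 7), (7, 8, 1, 5), (5, 4, 2, 6)]),
   (0x057812463, [(0, 3, 3, 2), (2, 4, 4, 1), (1, 6, 6, 7), (7, 5, 5, 8)]),
   (0x146325807, [(0, 7, 7, 4), (4, 2, 2, 8), (8, 1, 3, 5)]),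
   (0x265304817, [(0, 7, 7, 6), (6, 5, 5, 3), (3, 4, 2, 8)])]

/-- Representatives. -/
def antiPairReps29 : List PC :=
  [(0x054316827, [(0, 7, 7, 5), (5, 3, 3, 6), (6, 4, 4, 1), (1, 2, 2, 8)]),
   (0x453861270, [(1, 7, 7, 5), (5, 8, 8, 4), (4, 6, 6, 3)]),
   (0x583461270, [(1, 7, 7, 8), (8, 5, 5, 4), (4, 6, 6, 3)]),
   (0x643852071, [(0, 1, 1, 7), (7, 4, 4, 5), (5, 8, 8, 6), (6, 3, 3, 2)])]

/-- An orbit sum. -/
def antiPairOrb0 : Orb2 where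
  si := 7
  els := [(0x876543210, []),
    (0x865743210, [(5, 7, 7, 6)]),
    (0x857643210, [(5, 6, 6, 7)])]
  moves := [[(0, 1), (1, 1), (2, 1)],
    [(0, 2), (1, 2), (2, 2)],
    [(0, 3), (1, 19), (2, 4)],
    [(0, 4), (1, 3), (2, 19)],
    [(1, 23), (2, 23), (0, 23)],
    [(2, 4), (0, 3), (1, 19)]]

/-- An orbit sum. -/
def antiPairOrb1 : Orb2 where
  si := 6
  els := [(0x065748321, [(0, 1, 1, 2), (2, 3, 3, 8), (5, 7, 7, 6)]),
    (0x045827631, [(0, 1, 1, 3), (3, 7, 7, 4), (4, 2, 2, 6), (6, 5, 5, 8)]),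
    (0x084637521, [(0, 1, 1, 2), (2, 5, 5, 6), (6, 4, 4, 3), (3, 7, 7, 8)]),
    (0x065328741, [(0, 1, 1, 4), (4, 2, 2, 7), (7, 6, 6, 5), (5, 3, 3, 8)]),
    (0x073428561, [(0, 1, 1, 6), (6, 3, 3, 8), (2, 5, 5, 4)]),
    (0x067825431, [(0, 1, 1, 3), (3, 5, 5, 8), (2, 4, 6, 7)]),
    (0x057836421, [(0, 1, 1, 2), (2, 4, 4, 3), (3, 6, 6, 7), (7, 5, 5, 8)])]
  moves := [[(0, 165), (2, 68), (1, 151), (3, 9), (4, 85), (6, 50), (5, 50)],
    [(1, 136), (3, 17), (4, 153), (0, 174), (5, 66), (2, 176), (6, 38)]]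

/-- An orbit sum. -/
def antiPairOrb2 : Orb2 where
  si := 5
  els := [(0x143628750, [(1, 5, 5, 6), (6, 3, 3, 8), (2, 7, 7, 4)]),
    (0x184725630, [(1, 3, 3, 5), (5, 7, 7, 8), (2, 6, 6, 4)]),
    (0x175438620, [(1, 2, 2, 6), (6, 5, 5, 4), (4, 3, 3, 8)]),
    (0x156728430, [(1, 3, 3, 8), (2, 4, 5, 7)]),
    (0x186735420, [(1, 2, 2, 4), (4, 3, 3, 5), (5, 7, 7, 8)]),
    (0x183527640, [(1, 4, 4, 2), (2, 6, 6, 3), (3, 7, 7, 8)]),
    (0x158647320, [(1, 2, 2, 3), (3, 7, 7, 5), (5, 6, 6, 8)])]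
  moves := [[(1, 96), (0, 91), (2, 85), (5, 20), (4, 14), (3, 81), (6, 177)],
    [(2, 106), (3, 2), (4, 82), (6, 22), (0, 150), (5, 23), (1, 43)]]

/-- An orbit sum. -/
def antiPairOrb3 : Orb2 where
  si := 0
  els := [(0x586724310, [(2, 3, 3, 4), (5, 7, 7, 8)]),
    (0x546328710, [(2, 7, 7, 4), (3, 8, 8, 5)]),
    (0x583217640, [(1, 4, 2, 6), (6, 3, 3, 7), (7, 8, 8, 5)]),
    (0x584736210, [(3, 6, 6, 4), (5, 7, 7, 8)]),
    (0x574218630, [(1, 3, 3, 8), (8, 5, 5, 2), (2, 6, 6, 4)]),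
    (0x576318420, [(1, 2, 2, 4), (3, 8, 8, 5)]),
    (0x586417320, [(1, 2, 2, 3), (3, 7, 7, 8), (8, 5, 5, 4)])]
  moves := [[(0, 29), (2, 157), (1, 132), (5, 49), (4, 69), (3, 76), (6, 2)],
    [(1, 64), (3, 131), (4, 99), (0, 168), (6, 98), (5, 121), (2, 178)]]

/-- An orbit sum. -/
def antiPairOrb4 : Orb2 where
  si := 6
  els := [(0x057648321, [(0, 1, 1, 2), (2, 3, 3, 8), (5, 6, 6, 7)]),
    (0x084527631, [(0, 1, 1, 3), (3, 7, 7, 8), (2, 6, 6, 4)]),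
    (0x046837521, [(0, 1, 1, 2), (2, 5, 5, 8), (3, 7, 7, 4)]),
    (0x053628741, [(0, 1, 1, 4), (4, 2, 2, 7), (7, 5, 5, 6), (6, 3, 3, 8)]),
    (0x047328561, [(0, 1, 1, 6), (6, 7, 7, 4), (4, 2, 2, 5), (5, 3, 3, 8)]),
    (0x086725431, [(0, 1, 1, 3), (3, 5, 5, 7), (7, 8, 2, 4)]),
    (0x085736421, [(0, 1, 1, 2), (2, 4, 4, 3), (3, 6, 6, 5), (5, 7, 7, 8)])]
  moves := [[(0, 177), (2, 151), (1, 68), (3, 37), (4, 187), (6, 14), (5, 14)],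
    [(1, 43), (3, 17), (4, 150), (0, 76), (5, 66), (2, 91), (6, 44)]]

/-- An orbit sum. -/
def antiPairOrb5 : Orb2 where
  si := 5
  els := [(0x136428750, [(1, 5, 5, 4), (4, 2, 2, 7), (7, 3, 3, 8)]),
    (0x178425630, [(1, 3, 3, 5), (5, 4, 4, 2), (2, 6, 6, 8)]),
    (0x154738620, [(1, 2, 2, 6), (6, 4, 4, 3), (3, 8, 5, 7)]),
    (0x175628430, [(1, 3, 3, 8), (2, 4, 5, 6)]),
    (0x178635420, [(1, 2, 2, 4), (4, 3, 3, 5), (5, 6, 6, 8)]),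
    (0x158327640, [(1, 4, 4, 2), (2, 6, 6, 8), (3, 7, 7, 5)]),
    (0x186547320, [(1, 2, 2, 3), (3, 7, 7, 8)])]
  moves := [[(1, 153), (0, 47), (2, 120), (5, 27), (4, 15), (3, 72), (6, 32)],
    [(2, 88), (3, 2), (4, 67), (6, 60), (0, 153), (5, 23), (1, 84)]]

/-- An orbit sum. -/
def antiPairOrb6 : Orb2 where
  si := 5
  els := [(0x164328750, [(1, 5, 5, 3), (3, 8, 2, 7), (7, 6, 6, 4)]),
    (0x147825630, [(1, 3, 3, 5), (5, 8, 2, 6), (6, 7, 7, 4)]),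
    (0x147538620, [(1, 2, 2, 6), (6, 7, 7, 4), (4, 3, 3, 8)]),
    (0x167528430, [(1, 3, 3, 8), (2, 4, 6, 7)]),
    (0x167835420, [(1, 2, 2, 4), (4, 3, 3, 5), (5, 8, 6, 7)]),
    (0x135827640, [(1, 4, 4, 2), (2, 6, 6, 5), (5, 8, 3, 7)]),
    (0x165847320, [(1, 2, 2, 3), (3, 7, 7, 6), (6, 5, 5, 8)])]
  moves := [[(1, 150), (0, 176), (2, 187), (5, 5), (4, 50), (3, 28), (6, 165)],
    [(2, 183), (3, 2), (4, 29), (6, 166), (0, 96), (5, 23), (1, 136)]]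

/-- An orbit sum. -/
def antiPairOrb7 : Orb2 where
  si := 6
  els := [(0x076548321, [(0, 1, 1, 2), (2, 3, 3, 8)]),
    (0x058427631, [(0, 1, 1, 3), (3, 7, 7, 5), (5, 4, 4, 2), (2, 6, 6, 8)]),
    (0x068437521, [(0, 1, 1, 2), (2, 5, 5, 4), (4, 3, 3, 7), (7, 6, 6, 8)]),
    (0x036528741, [(0, 1, 1, 4), (4, 2, 2, 7), (7, 3, 3, 8)]),
    (0x034728561, [(0, 1, 1, 6), (6, 4, 4, 2), (2, 5, 5, 7), (7, 3, 3, 8)]),
    (0x078625431, [(0, 1, 1, 3), (3, 5, 5, 6), (6, 8, 2, 4)]),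
    (0x078536421, [(0, 1, 1, 2), (2, 4, 4, 3), (3, 6, 6, 8)])]
  moves := [[(0, 32), (2, 56), (1, 56), (3, 10), (4, 120), (6, 15), (5, 15)],
    [(1, 84), (3, 17), (4, 96), (0, 113), (5, 66), (2, 47), (6, 11)]]

/-- An orbit sum. -/
def antiPairOrb8 : Orb2 where
  si := 1
  els := [(0x436528710, [(2, 7, 7, 3), (3, 8, 8, 4)]),
    (0x476518320, [(1, 2, 2, 3), (3, 8, 8, 4)]),
    (0x475836210, [(3, 6, 6, 5), (5, 8, 8, 4)]),
    (0x486317520, [(1, 2, 2, 5), (5, 3, 3, 7), (7, 8, 8, 4)]),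
    (0x485217630, [(1, 3, 3, 7), (7, 8, 8, 4), (2, 6, 6, 5)]),
    (0x476825310, [(2, 3, 3, 5), (5, 8, 8, 4)]),
    (0x472318560, [(1, 6, 6, 2), (2, 5, 5, 3), (3, 8, 8, 4)])]
  moves := [[(1, 63), (0, 63), (4, 100), (3, 59), (2, 100), (5, 63), (6, 4)],
    [(2, 146), (3, 176), (5, 147), (6, 121), (4, 38), (0, 96), (1, 176)]]

/-- An orbit sum. -/
def antiPairOrb9 : Orb2 where
  si := 2
  els := [(0x354618720, [(1, 2, 2, 7), (7, 5, 5, 6), (6, 4, 3, 8)]),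
    (0x854617320, [(1, 2, 2, 3), (3, 7, 7, 5), (5, 6, 6, 4)]),
    (0x278315640, [(1, 4, 2, 6), (6, 8, 3, 5)]),
    (0x328715640, [(1, 4, 2, 6), (6, 8, 8, 3), (3, 5, 5, 7)]),
    (0x064528731, [(0, 1, 1, 3), (3, 8, 2, 7), (7, 6, 6, 4)]),
    (0x847325610, [(2, 6, 6, 7), (7, 4, 3, 5)]),
    (0x845627310, [(2, 3, 3, 7), (7, 4, 5, 6)]),
    (0x284735610, [(2, 6, 6, 4), (4, 3, 3, 5), (5, 7, 7, 8)]),
    (0x143728560, [(1, 6, 6, 3), (3, 8, 2, 5), (5, 7, 7, 4)]),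
    (0x356218740, [(1, 4, 2, 7), (7, 5, 3, 8)]),
    (0x374218560, [(1, 6, 6, 4), (2, 5, 3, 8)]),
    (0x047835621, [(0, 1, 1, 2), (2, 6, 6, 7), (7, 4, 4, 3), (3, 5, 5, 8)]),
    (0x163528740, [(1, 4, 4, 2), (2, 7, 7, 6), (6, 3, 3, 8)]),
    (0x435618720, [(1, 2, 2, 7), (7, 3, 3, 8), (8, 4, 5, 6)]),
    (0x256847310, [(2, 3, 3, 7), (7, 5, 5, 8)]),
    (0x865327410, [(2, 4, 3, 7), (7, 6, 6, 5)]),
    (0x236518740, [(1, 4, 2, 7), (7, 3, 3, 8)]),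
    (0x165847320, [(1, 2, 2, 3), (3, 7, 7, 6), (6, 5, 5, 8)]),
    (0x458627310, [(2, 3, 3, 7), (7, 5, 5, 6), (6, 8, 8, 4)]),
    (0x485617320, [(1, 2, 2, 3), (3, 7, 7, 8), (8, 4, 5, 6)]),
    (0x065438721, [(0, 1, 1, 2), (2, 7, 7, 6), (6, 5, 5, 4), (4, 3, 3, 8)]),
    (0x872415630, [(1, 3, 3, 5), (5, 4, 2, 6)]),
    (0x368527410, [(2, 4, 3, 7), (7, 6, 6, 8)]),
    (0x034728561, [(0, 1, 1, 6), (6, 4, 4, 2), (2, 5, 5, 7), (7, 3, 3, 8)]),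
    (0x156438720, [(1, 2, 2, 7), (7, 5, 5, 4), (4, 3, 3, 8)]),
    (0x482715630, [(1, 3, 3, 5), (5, 7, 7, 8), (8, 4, 2, 6)]),
    (0x065837421, [(0, 1, 1, 2), (2, 4, 4, 3), (3, 7, 7, 6), (6, 5, 5, 8)]),
    (0x148735620, [(1, 2, 2, 6), (6, 8, 3, 5), (5, 7, 7, 4)]),
    (0x286537410, [(2, 4, 4, 3), (3, 7, 7, 8)]),
    (0x487315620, [(1, 2, 2, 6), (6, 7, 7, 8), (8, 4, 3, 5)])]
  moves := [[(1, 1), (0, 1), (4, 165), (6, 174), (2, 165), (9, 137), (3, 186), (11, 75), (12, 177), (5, 60), (15, 60), (7, 87), (8, 177), (19, 1), (20, 10), (10, 137), (23, 7), (24, 10), (25, 13), (13, 1), (14, 10), (22, 113), (21, 140), (16, 7), (17, 10), (18, 22), (28, 87), (27, 31), (26, 75), (29, 69)],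
    [(2, 113), (3, 113), (5, 87), (7, 31), (8, 150), (0, 64), (10, 64), (1, 22), (13, 133), (14, 1), (16, 22), (17, 166), (18, 9), (4, 117), (21, 32), (22, 5), (6, 37), (25, 123), (26, 21), (20, 51), (27, 161), (9, 76), (28, 27), (24, 109), (29, 60), (11, 19), (12, 17), (19, 174), (15, 23), (23, 16)]]

/-- An orbit sum. -/
def antiPairOrb10 : Orb2 where
  si := 3
  els := [(0x865743210, [(5, 7, 7, 6)]),
    (0x367548210, [(3, 8, 6, 7)]),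
    (0x367518420, [(1, 2, 2, 4), (3, 8, 6, 7)]),
    (0x265718430, [(1, 3, 3, 8), (8, 2, 2, 4), (5, 7, 7, 6)]),
    (0x857624310, [(2, 3, 3, 4), (5, 6, 6, 7)]),
    (0x238417560, [(1, 6, 6, 8), (8, 2, 2, 5), (5, 4, 3, 7)]),
    (0x156728430, [(1, 3, 3, 8), (2, 4, 5, 7)]),
    (0x842317560, [(1, 6, 6, 2), (2, 5, 5, 3), (3, 7, 7, 4)]),
    (0x358764210, [(3, 4, 4, 6), (6, 8, 5, 7)]),
    (0x183427560, [(1, 6, 6, 3), (3, 7, 7, 8), (2, 5, 5, 4)]),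
    (0x057864321, [(0, 1, 1, 2), (2, 3, 3, 4), (4, 6, 6, 7), (7, 5, 5, 8)]),
    (0x382417560, [(1, 6, 6, 2), (2, 5, 5, 4), (3, 7, 7, 8)]),
    (0x875634210, [(3, 4, 5, 6)]),
    (0x275638410, [(2, 4, 4, 3), (3, 8, 5, 6)]),
    (0x057648321, [(0, 1, 1, 2), (2, 3, 3, 8), (5, 6, 6, 7)]),
    (0x075638421, [(0, 1, 1, 2), (2, 4, 4, 3), (3, 8, 5, 6)]),
    (0x457638210, [(3, 8, 8, 4), (5, 6, 6, 7)]),
    (0x265748310, [(2, 3, 3, 8), (5, 7, 7, 6)]),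
    (0x376528410, [(2, 4, 3, 8)]),
    (0x187564320, [(1, 2, 2, 3), (3, 4, 4, 6), (6, 7, 7, 8)]),
    (0x476518320, [(1, 2, 2, 3), (3, 8, 8, 4)]),
    (0x456728310, [(2, 3, 3, 8), (8, 4, 5, 7)]),
    (0x478563210, [(4, 6, 6, 8)]),
    (0x175648320, [(1, 2, 2, 3), (3, 8, 5, 6)]),
    (0x856714320, [(1, 2, 2, 3), (3, 4, 5, 7)]),
    (0x285764310, [(2, 3, 3, 4), (4, 6, 6, 5), (5, 7, 7, 8)]),
    (0x157638420, [(1, 2, 2, 4), (4, 3, 3, 8), (5, 6, 6, 7)]),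
    (0x084327561, [(0, 1, 1, 6), (6, 4, 4, 2), (2, 5, 5, 3), (3, 7, 7, 8)]),
    (0x057628431, [(0, 1, 1, 3), (3, 8, 2, 4), (5, 6, 6, 7)]),
    (0x428317560, [(1, 6, 6, 8), (8, 4, 2, 5), (5, 3, 3, 7)])]
  moves := [[(1, 6), (0, 6), (4, 100), (6, 122), (2, 100), (9, 0), (3, 122), (11, 3), (12, 21), (5, 0), (15, 10), (7, 3), (8, 24), (19, 112), (14, 1), (10, 10), (22, 24), (23, 100), (24, 100), (13, 105), (21, 100), (20, 100), (16, 21), (17, 100), (18, 100), (26, 105), (25, 112), (28, 163), (27, 123), (29, 19)],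
    [(2, 12), (3, 12), (5, 145), (7, 182), (8, 26), (0, 123), (10, 78), (1, 177), (13, 39), (14, 169), (16, 59), (17, 123), (18, 12), (4, 142), (20, 54), (21, 54), (6, 12), (24, 142), (25, 149), (15, 124), (9, 18), (19, 149), (26, 39), (27, 62), (11, 175), (12, 65), (28, 2), (29, 3), (22, 24), (23, 32)]]

/-- An orbit sum. -/
def antiPairOrb11 : Orb2 where
  si := 2
  els := [(0x432518760, [(1, 6, 6, 2), (2, 7, 7, 3), (3, 8, 8, 4)]),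
    (0x476328510, [(2, 5, 5, 3), (3, 8, 8, 4)]),
    (0x084527631, [(0, 1, 1, 3), (3, 7, 7, 8), (2, 6, 6, 4)]),
    (0x086725431, [(0, 1, 1, 3), (3, 5, 5, 7), (7, 8, 2, 4)]),
    (0x267815430, [(1, 3, 3, 5), (5, 8, 8, 2), (2, 4, 6, 7)]),
    (0x147628530, [(1, 3, 3, 8), (2, 5, 5, 6), (6, 7, 7, 4)]),
    (0x245817630, [(1, 3, 3, 7), (7, 4, 2, 6), (6, 5, 5, 8)]),
    (0x178635420, [(1, 2, 2, 4), (4, 3, 3, 5), (5, 6, 6, 8)]),
    (0x864735210, [(3, 5, 5, 7), (7, 6, 6, 4)]),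
    (0x183527640, [(1, 4, 4, 2), (2, 6, 6, 3), (3, 7, 7, 8)]),
    (0x862715430, [(1, 3, 3, 5), (5, 7, 7, 6), (6, 2, 2, 4)]),
    (0x387645210, [(3, 5, 5, 6), (6, 7, 7, 8)]),
    (0x354817620, [(1, 2, 2, 6), (6, 4, 3, 7), (7, 5, 5, 8)]),
    (0x438527610, [(2, 6, 6, 8), (8, 4, 3, 7)]),
    (0x358427610, [(2, 6, 6, 8), (8, 3, 3, 7), (7, 5, 5, 4)]),
    (0x834517620, [(1, 2, 2, 6), (6, 4, 3, 7)]),
    (0x462718530, [(1, 3, 3, 8), (8, 4, 2, 5), (5, 7, 7, 6)]),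
    (0x085327641, [(0, 1, 1, 4), (4, 2, 2, 6), (6, 5, 5, 3), (3, 7, 7, 8)]),
    (0x267418530, [(1, 3, 3, 8), (8, 2, 2, 5), (5, 4, 6, 7)]),
    (0x376815420, [(1, 2, 2, 4), (3, 5, 5, 8)]),
    (0x078645321, [(0, 1, 1, 2), (2, 3, 3, 5), (5, 6, 6, 8)]),
    (0x835217640, [(1, 4, 2, 6), (6, 5, 3, 7)]),
    (0x836715420, [(1, 2, 2, 4), (3, 5, 5, 7)]),
    (0x264738510, [(2, 5, 5, 7), (7, 6, 6, 4), (4, 3, 3, 8)]),
    (0x185427630, [(1, 3, 3, 7), (7, 8, 2, 6), (6, 5, 5, 4)]),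
    (0x346728510, [(2, 5, 5, 7), (7, 4, 3, 8)]),
    (0x187625430, [(1, 3, 3, 5), (5, 6, 6, 7), (7, 8, 2, 4)]),
    (0x235418760, [(1, 6, 6, 5), (5, 4, 2, 7), (7, 3, 3, 8)]),
    (0x467835210, [(3, 5, 5, 8), (8, 4, 6, 7)]),
    (0x037628541, [(0, 1, 1, 4), (4, 2, 2, 5), (5, 6, 6, 7), (7, 3, 3, 8)])]
  moves := [[(1, 113), (0, 140), (4, 163), (6, 163), (2, 123), (9, 177), (3, 123), (7, 31), (11, 82), (5, 177), (14, 22), (8, 67), (15, 69), (16, 13), (10, 13), (12, 69), (13, 22), (18, 163), (17, 123), (22, 69), (23, 9), (25, 60), (19, 69), (20, 9), (26, 177), (21, 137), (24, 177), (29, 32), (28, 29), (27, 32)],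
    [(2, 102), (3, 107), (5, 150), (7, 67), (8, 5), (0, 64), (10, 168), (1, 17), (12, 22), (13, 31), (11, 23), (6, 177), (4, 110), (17, 19), (18, 169), (19, 70), (20, 100), (9, 87), (21, 76), (23, 55), (24, 18), (14, 75), (25, 114), (15, 22), (16, 171), (27, 133), (28, 20), (22, 25), (29, 100), (26, 95)]]

/-- An orbit sum. -/
def antiPairOrb12 : Orb2 where
  si := 2
  els := [(0x865743210, [(5, 7, 7, 6)]),
    (0x356748210, [(3, 8, 5, 7)]),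
    (0x382417560, [(1, 6, 6, 2), (2, 5, 5, 4), (3, 7, 7, 8)]),
    (0x284317560, [(1, 6, 6, 4), (2, 5, 5, 3), (3, 7, 7, 8)]),
    (0x876524310, [(2, 3, 3, 4)]),
    (0x276518430, [(1, 3, 3, 8), (8, 2, 2, 4)]),
    (0x057628431, [(0, 1, 1, 3), (3, 8, 2, 4), (5, 6, 6, 7)]),
    (0x867514320, [(1, 2, 2, 3), (3, 4, 6, 7)]),
    (0x375864210, [(3, 4, 4, 6), (6, 5, 5, 8)]),
    (0x038427561, [(0, 1, 1, 6), (6, 8, 2, 5), (5, 4, 3, 7)]),
    (0x187564320, [(1, 2, 2, 3), (3, 4, 4, 6), (6, 7, 7, 8)]),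
    (0x367518420, [(1, 2, 2, 4), (3, 8, 6, 7)]),
    (0x875634210, [(3, 4, 5, 6)]),
    (0x275638410, [(2, 4, 4, 3), (3, 8, 5, 6)]),
    (0x156748320, [(1, 2, 2, 3), (3, 8, 5, 7)]),
    (0x165738420, [(1, 2, 2, 4), (4, 3, 3, 8), (5, 7, 7, 6)]),
    (0x476538210, [(3, 8, 8, 4)]),
    (0x265748310, [(2, 3, 3, 8), (5, 7, 7, 6)]),
    (0x357628410, [(2, 4, 3, 8), (5, 6, 6, 7)]),
    (0x057864321, [(0, 1, 1, 2), (2, 3, 3, 4), (4, 6, 6, 7), (7, 5, 5, 8)]),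
    (0x428317560, [(1, 6, 6, 8), (8, 4, 2, 5), (5, 3, 3, 7)]),
    (0x467528310, [(2, 3, 3, 8), (8, 4, 6, 7)]),
    (0x485763210, [(4, 6, 6, 5), (5, 7, 7, 8)]),
    (0x065748321, [(0, 1, 1, 2), (2, 3, 3, 8), (5, 7, 7, 6)]),
    (0x823417560, [(1, 6, 6, 3), (3, 7, 7, 2), (2, 5, 5, 4)]),
    (0x278564310, [(2, 3, 3, 4), (4, 6, 6, 8)]),
    (0x056738421, [(0, 1, 1, 2), (2, 4, 4, 3), (3, 8, 5, 7)]),
    (0x148327560, [(1, 6, 6, 8), (2, 5, 5, 3), (3, 7, 7, 4)]),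
    (0x156728430, [(1, 3, 3, 8), (2, 4, 5, 7)]),
    (0x476518320, [(1, 2, 2, 3), (3, 8, 8, 4)])]
  moves := [[(1, 73), (0, 73), (4, 22), (6, 163), (2, 13), (9, 7), (3, 123), (11, 1), (12, 29), (5, 7), (15, 37), (7, 1), (8, 29), (19, 10), (14, 1), (10, 37), (22, 82), (23, 1), (24, 143), (13, 10), (21, 174), (20, 186), (16, 67), (17, 1), (18, 166), (26, 9), (25, 9), (28, 165), (27, 165), (29, 1)],
    [(2, 163), (3, 165), (5, 25), (7, 180), (8, 58), (0, 23), (10, 148), (1, 116), (13, 46), (14, 171), (16, 121), (17, 17), (18, 103), (4, 17), (20, 165), (21, 17), (6, 97), (24, 163), (25, 55), (15, 131), (9, 4), (19, 51), (26, 102), (27, 182), (11, 130), (12, 58), (28, 2), (29, 64), (22, 27), (23, 54)]]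

/-- An orbit sum. -/
def antiPairOrb13 : Orb2 where
  si := 2
  els := [(0x254638710, [(2, 7, 7, 5), (5, 6, 6, 4), (4, 3, 3, 8)]),
    (0x068547321, [(0, 1, 1, 2), (2, 3, 3, 7), (7, 6, 6, 8)]),
    (0x874315620, [(1, 2, 2, 6), (6, 4, 3, 5)]),
    (0x147825630, [(1, 3, 3, 5), (5, 8, 2, 6), (6, 7, 7, 4)]),
    (0x384715620, [(1, 2, 2, 6), (6, 4, 3, 5), (5, 7, 7, 8)]),
    (0x365817420, [(1, 2, 2, 4), (3, 7, 7, 6), (6, 5, 5, 8)]),
    (0x186527430, [(1, 3, 3, 7), (7, 8, 2, 4)]),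
    (0x452618730, [(1, 3, 3, 8), (8, 4, 2, 7), (7, 5, 5, 6)]),
    (0x256817430, [(1, 3, 3, 7), (7, 5, 5, 8), (8, 2, 2, 4)]),
    (0x835617420, [(1, 2, 2, 4), (3, 7, 5, 6)]),
    (0x456837210, [(3, 7, 7, 5), (5, 8, 8, 4)]),
    (0x478325610, [(2, 6, 6, 8), (8, 4, 3, 5)]),
    (0x074825631, [(0, 1, 1, 3), (3, 5, 5, 8), (2, 6, 6, 4)]),
    (0x854637210, [(3, 7, 7, 5), (5, 6, 6, 4)]),
    (0x345628710, [(2, 7, 7, 4), (3, 8, 5, 6)]),
    (0x036528741, [(0, 1, 1, 4), (4, 2, 2, 7), (7, 3, 3, 8)]),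
    (0x037825641, [(0, 1, 1, 4), (4, 2, 2, 6), (6, 7, 7, 3), (3, 5, 5, 8)]),
    (0x146528730, [(1, 3, 3, 8), (2, 7, 7, 4)]),
    (0x386547210, [(3, 7, 7, 8)]),
    (0x827315640, [(1, 4, 2, 6), (6, 7, 3, 5)]),
    (0x234718560, [(1, 6, 6, 4), (2, 5, 5, 7), (7, 3, 3, 8)]),
    (0x256418730, [(1, 3, 3, 8), (8, 2, 2, 7), (7, 5, 5, 4)]),
    (0x173825640, [(1, 4, 4, 2), (2, 6, 6, 3), (3, 5, 5, 8)]),
    (0x437218560, [(1, 6, 6, 7), (7, 3, 3, 8), (8, 4, 2, 5)]),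
    (0x287415630, [(1, 3, 3, 5), (5, 4, 2, 6), (6, 7, 7, 8)]),
    (0x348725610, [(2, 6, 6, 8), (8, 3, 3, 5), (5, 7, 7, 4)]),
    (0x465328710, [(2, 7, 7, 6), (6, 5, 5, 3), (3, 8, 8, 4)]),
    (0x085627431, [(0, 1, 1, 3), (3, 7, 7, 8), (2, 4, 5, 6)]),
    (0x852617430, [(1, 3, 3, 7), (7, 5, 5, 6), (6, 2, 2, 4)]),
    (0x168537420, [(1, 2, 2, 4), (4, 3, 3, 7), (7, 6, 6, 8)])]
  moves := [[(1, 9), (0, 9), (4, 69), (6, 123), (2, 69), (9, 69), (3, 163), (11, 113), (12, 32), (5, 69), (10, 29), (7, 140), (8, 32), (18, 82), (19, 186), (20, 7), (21, 32), (22, 163), (13, 67), (14, 174), (15, 7), (16, 32), (17, 123), (26, 60), (27, 177), (28, 140), (23, 137), (24, 177), (25, 113), (29, 31)],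
    [(2, 113), (3, 184), (5, 110), (7, 64), (8, 70), (0, 55), (10, 20), (1, 100), (13, 5), (14, 114), (15, 100), (16, 4), (17, 189), (4, 113), (20, 64), (6, 95), (22, 75), (23, 133), (24, 163), (25, 87), (9, 70), (19, 60), (11, 31), (12, 102), (28, 25), (21, 133), (27, 107), (29, 67), (18, 23), (26, 17)]]

/-- An orbit sum. -/
def antiPairOrb14 : Orb2 where
  si := 3
  els := [(0x065438721, [(0, 1, 1, 2), (2, 7, 7, 6), (6, 5, 5, 4), (4, 3, 3, 8)]),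
    (0x056847321, [(0, 1, 1, 2), (2, 3, 3, 7), (7, 5, 5, 8)]),
    (0x465218730, [(1, 3, 3, 8), (8, 4, 2, 7), (7, 6, 6, 5)]),
    (0x463518720, [(1, 2, 2, 7), (7, 6, 6, 3), (3, 8, 8, 4)]),
    (0x137428560, [(1, 6, 6, 7), (7, 3, 3, 8), (2, 5, 5, 4)]),
    (0x458627310, [(2, 3, 3, 7), (7, 5, 5, 6), (6, 8, 8, 4)]),
    (0x187435620, [(1, 2, 2, 6), (6, 7, 7, 8), (3, 5, 5, 4)]),
    (0x248715630, [(1, 3, 3, 5), (5, 7, 7, 4), (2, 6, 6, 8)]),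
    (0x156837420, [(1, 2, 2, 4), (4, 3, 3, 7), (7, 5, 5, 8)]),
    (0x284735610, [(2, 6, 6, 4), (4, 3, 3, 5), (5, 7, 7, 8)]),
    (0x856427310, [(2, 3, 3, 7), (7, 5, 5, 4)]),
    (0x265837410, [(2, 4, 4, 3), (3, 7, 7, 6), (6, 5, 5, 8)]),
    (0x053628741, [(0, 1, 1, 4), (4, 2, 2, 7), (7, 5, 5, 6), (6, 3, 3, 8)]),
    (0x832715640, [(1, 4, 2, 6), (3, 5, 5, 7)]),
    (0x346518720, [(1, 2, 2, 7), (7, 4, 3, 8)]),
    (0x386517420, [(1, 2, 2, 4), (3, 7, 7, 8)]),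
    (0x836527410, [(2, 4, 3, 7)]),
    (0x047328561, [(0, 1, 1, 6), (6, 7, 7, 4), (4, 2, 2, 5), (5, 3, 3, 8)]),
    (0x372815640, [(1, 4, 2, 6), (3, 5, 5, 8)]),
    (0x368527410, [(2, 4, 3, 7), (7, 6, 6, 8)]),
    (0x478215630, [(1, 3, 3, 5), (5, 2, 2, 6), (6, 8, 8, 4)]),
    (0x245618730, [(1, 3, 3, 8), (8, 2, 2, 7), (7, 4, 5, 6)]),
    (0x863517420, [(1, 2, 2, 4), (3, 7, 7, 6)]),
    (0x472318560, [(1, 6, 6, 2), (2, 5, 5, 3), (3, 8, 8, 4)]),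
    (0x154628730, [(1, 3, 3, 8), (2, 7, 7, 5), (5, 6, 6, 4)]),
    (0x847325610, [(2, 6, 6, 7), (7, 4, 3, 5)]),
    (0x347815620, [(1, 2, 2, 6), (6, 7, 7, 4), (3, 5, 5, 8)]),
    (0x156438720, [(1, 2, 2, 7), (7, 5, 5, 4), (4, 3, 3, 8)]),
    (0x285647310, [(2, 3, 3, 7), (7, 8, 5, 6)]),
    (0x078435621, [(0, 1, 1, 2), (2, 6, 6, 8), (3, 5, 5, 4)])]
  moves := [[(1, 10), (0, 10), (2, 59), (5, 100), (7, 97), (3, 100), (9, 19), (4, 54), (11, 4), (6, 19), (14, 100), (8, 4), (17, 123), (18, 3), (10, 100), (16, 0), (15, 0), (12, 163), (13, 3), (22, 0), (23, 16), (24, 122), (19, 0), (20, 45), (21, 122), (26, 0), (25, 0), (28, 112), (27, 105), (29, 31)],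
    [(2, 59), (3, 54), (4, 137), (6, 175), (0, 181), (8, 28), (1, 76), (10, 137), (12, 17), (13, 31), (15, 81), (16, 66), (5, 48), (14, 186), (9, 173), (7, 182), (19, 72), (20, 102), (21, 143), (11, 28), (24, 140), (25, 186), (26, 184), (27, 104), (17, 189), (18, 75), (28, 177), (29, 47), (22, 66), (23, 16)]]

/-- An orbit sum. -/
def antiPairOrb15 : Orb2 where
  si := 3
  els := [(0x876543210, []),
    (0x375648210, [(3, 8, 5, 6)]),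
    (0x375618420, [(1, 2, 2, 4), (3, 8, 5, 6)]),
    (0x276518430, [(1, 3, 3, 8), (8, 2, 2, 4)]),
    (0x865724310, [(2, 3, 3, 4), (5, 7, 7, 6)]),
    (0x284317560, [(1, 6, 6, 4), (2, 5, 5, 3), (3, 7, 7, 8)]),
    (0x167528430, [(1, 3, 3, 8), (2, 4, 6, 7)]),
    (0x823417560, [(1, 6, 6, 3), (3, 7, 7, 2), (2, 5, 5, 4)]),
    (0x375864210, [(3, 4, 4, 6), (6, 5, 5, 8)]),
    (0x134827560, [(1, 6, 6, 4), (4, 2, 2, 5), (5, 8, 3, 7)]),
    (0x078564321, [(0, 1, 1, 2), (2, 3, 3, 4), (4, 6, 6, 8)]),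
    (0x324817560, [(1, 6, 6, 4), (2, 5, 5, 8), (8, 3, 3, 7)]),
    (0x856734210, [(3, 4, 5, 7)]),
    (0x256738410, [(2, 4, 4, 3), (3, 8, 5, 7)]),
    (0x065748321, [(0, 1, 1, 2), (2, 3, 3, 8), (5, 7, 7, 6)]),
    (0x056738421, [(0, 1, 1, 2), (2, 4, 4, 3), (3, 8, 5, 7)]),
    (0x465738210, [(3, 8, 8, 4), (5, 7, 7, 6)]),
    (0x276548310, [(2, 3, 3, 8)]),
    (0x357628410, [(2, 4, 3, 8), (5, 6, 6, 7)]),
    (0x158764320, [(1, 2, 2, 3), (3, 4, 4, 6), (6, 8, 5, 7)]),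
    (0x457618320, [(1, 2, 2, 3), (3, 8, 8, 4), (5, 6, 6, 7)]),
    (0x467528310, [(2, 3, 3, 8), (8, 4, 6, 7)]),
    (0x485763210, [(4, 6, 6, 5), (5, 7, 7, 8)]),
    (0x156748320, [(1, 2, 2, 3), (3, 8, 5, 7)]),
    (0x867514320, [(1, 2, 2, 3), (3, 4, 6, 7)]),
    (0x257864310, [(2, 3, 3, 4), (4, 6, 6, 7), (7, 5, 5, 8)]),
    (0x165738420, [(1, 2, 2, 4), (4, 3, 3, 8), (5, 7, 7, 6)]),
    (0x043827561, [(0, 1, 1, 6), (6, 3, 3, 7), (7, 4, 4, 2), (2, 5, 5, 8)]),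
    (0x065728431, [(0, 1, 1, 3), (3, 8, 2, 4), (5, 7, 7, 6)]),
    (0x483217560, [(1, 6, 6, 3), (3, 7, 7, 8), (8, 4, 2, 5)])]
  moves := [[(1, 6), (0, 6), (4, 100), (6, 122), (2, 100), (9, 0), (3, 122), (11, 19), (12, 24), (5, 0), (15, 9), (7, 19), (8, 21), (19, 48), (14, 1), (10, 9), (22, 63), (23, 100), (24, 100), (13, 48), (21, 100), (20, 100), (16, 63), (17, 100), (18, 100), (26, 112), (25, 105), (28, 123), (27, 163), (29, 4)],
    [(2, 12), (3, 12), (5, 62), (7, 18), (8, 65), (0, 7), (10, 141), (1, 32), (13, 42), (14, 128), (16, 127), (17, 7), (18, 12), (4, 142), (20, 54), (21, 54), (6, 12), (24, 142), (25, 79), (15, 61), (9, 74), (19, 135), (26, 95), (27, 184), (11, 167), (12, 26), (28, 2), (29, 19), (22, 63), (23, 165)]]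

/-- An orbit sum. -/
def antiPairOrb16 : Orb2 where
  si := 3
  els := [(0x258716430, [(1, 3, 3, 6), (6, 8, 8, 2), (2, 4, 5, 7)]),
    (0x137528640, [(1, 4, 4, 2), (2, 6, 6, 7), (7, 3, 3, 8)]),
    (0x846217530, [(1, 3, 3, 7), (7, 4, 2, 5)]),
    (0x087526431, [(0, 1, 1, 3), (3, 6, 6, 7), (7, 8, 2, 4)]),
    (0x342618750, [(1, 5, 5, 6), (6, 2, 2, 7), (7, 4, 3, 8)]),
    (0x375428610, [(2, 6, 6, 5), (5, 4, 3, 8)]),
    (0x086427531, [(0, 1, 1, 3), (3, 7, 7, 8), (2, 5, 5, 4)]),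
    (0x487536210, [(3, 6, 6, 7), (7, 8, 8, 4)]),
    (0x274538610, [(2, 6, 6, 4), (4, 3, 3, 8)]),
    (0x845716320, [(1, 2, 2, 3), (3, 6, 6, 5), (5, 7, 7, 4)]),
    (0x463817520, [(1, 2, 2, 5), (5, 8, 8, 4), (3, 7, 7, 6)]),
    (0x178546320, [(1, 2, 2, 3), (3, 6, 6, 8)]),
    (0x857216430, [(1, 3, 3, 6), (6, 7, 7, 5), (5, 2, 2, 4)]),
    (0x348627510, [(2, 5, 5, 6), (6, 8, 8, 3), (3, 7, 7, 4)]),
    (0x468327510, [(2, 5, 5, 3), (3, 7, 7, 6), (6, 8, 8, 4)]),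
    (0x352718640, [(1, 4, 2, 6), (3, 8, 5, 7)]),
    (0x843617520, [(1, 2, 2, 5), (5, 6, 6, 3), (3, 7, 7, 4)]),
    (0x236817540, [(1, 4, 2, 5), (5, 8, 3, 7)]),
    (0x186327540, [(1, 4, 4, 2), (2, 5, 5, 3), (3, 7, 7, 8)]),
    (0x246318750, [(1, 5, 5, 3), (3, 8, 8, 2), (2, 7, 7, 4)]),
    (0x357846210, [(3, 6, 6, 7), (7, 5, 5, 8)]),
    (0x083627541, [(0, 1, 1, 4), (4, 2, 2, 5), (5, 6, 6, 3), (3, 7, 7, 8)]),
    (0x184627530, [(1, 3, 3, 7), (7, 8, 2, 5), (5, 6, 6, 4)]),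
    (0x874536210, [(3, 6, 6, 4)]),
    (0x257318640, [(1, 4, 2, 6), (6, 7, 7, 5), (5, 3, 3, 8)]),
    (0x047528631, [(0, 1, 1, 3), (3, 8, 2, 6), (6, 7, 7, 4)]),
    (0x185726430, [(1, 3, 3, 6), (6, 5, 5, 7), (7, 8, 2, 4)]),
    (0x475816320, [(1, 2, 2, 3), (3, 6, 6, 5), (5, 8, 8, 4)]),
    (0x078536421, [(0, 1, 1, 2), (2, 4, 4, 3), (3, 6, 6, 8)]),
    (0x435728610, [(2, 6, 6, 5), (5, 7, 7, 3), (3, 8, 8, 4)])]
  moves := [[(1, 54), (0, 97), (4, 16), (6, 177), (2, 45), (9, 100), (3, 177), (7, 63), (11, 48), (5, 100), (14, 0), (8, 48), (15, 16), (16, 0), (10, 0), (12, 45), (13, 0), (18, 0), (17, 0), (22, 97), (23, 24), (25, 177), (19, 54), (20, 21), (26, 97), (21, 177), (24, 54), (29, 100), (28, 31), (27, 100)],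
    [(2, 184), (3, 95), (5, 137), (7, 63), (8, 167), (0, 42), (10, 4), (1, 1), (12, 39), (13, 182), (11, 7), (6, 18), (4, 182), (17, 75), (18, 87), (19, 186), (20, 163), (9, 186), (21, 87), (23, 167), (24, 1), (14, 3), (25, 150), (15, 9), (16, 143), (27, 105), (28, 67), (22, 62), (29, 54), (26, 95)]]

/-- An orbit sum. -/
def antiPairOrb17 : Orb2 where
  si := 2
  els := [(0x486715320, [(1, 2, 2, 3), (3, 5, 5, 7), (7, 8, 8, 4)]),
    (0x436718520, [(1, 2, 2, 5), (5, 7, 7, 3), (3, 8, 8, 4)]),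
    (0x076438521, [(0, 1, 1, 2), (2, 5, 5, 4), (4, 3, 3, 8)]),
    (0x074628531, [(0, 1, 1, 3), (3, 8, 2, 5), (5, 6, 6, 4)]),
    (0x267845310, [(2, 3, 3, 5), (5, 8, 6, 7)]),
    (0x158437620, [(1, 2, 2, 6), (6, 8, 3, 7), (7, 5, 5, 4)]),
    (0x238517640, [(1, 4, 2, 6), (6, 8, 3, 7)]),
    (0x145328760, [(1, 6, 6, 5), (5, 3, 3, 8), (2, 7, 7, 4)]),
    (0x842517630, [(1, 3, 3, 7), (7, 4, 2, 6)]),
    (0x835427610, [(2, 6, 6, 5), (5, 4, 3, 7)]),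
    (0x173628540, [(1, 4, 4, 2), (2, 5, 5, 6), (6, 3, 3, 8)]),
    (0x378625410, [(2, 4, 3, 5), (5, 6, 6, 8)]),
    (0x367218540, [(1, 4, 2, 5), (3, 8, 6, 7)]),
    (0x364718520, [(1, 2, 2, 5), (5, 7, 7, 6), (6, 4, 3, 8)]),
    (0x468725310, [(2, 3, 3, 5), (5, 7, 7, 6), (6, 8, 8, 4)]),
    (0x287635410, [(2, 4, 4, 3), (3, 5, 5, 6), (6, 7, 7, 8)]),
    (0x864715320, [(1, 2, 2, 3), (3, 5, 5, 7), (7, 6, 6, 4)]),
    (0x452817630, [(1, 3, 3, 7), (7, 5, 5, 8), (8, 4, 2, 6)]),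
    (0x076835421, [(0, 1, 1, 2), (2, 4, 4, 3), (3, 5, 5, 8)]),
    (0x876325410, [(2, 4, 3, 5)]),
    (0x358217640, [(1, 4, 2, 6), (6, 8, 8, 3), (3, 7, 7, 5)]),
    (0x085437621, [(0, 1, 1, 2), (2, 6, 6, 5), (5, 4, 4, 3), (3, 7, 7, 8)]),
    (0x352418760, [(1, 6, 6, 2), (2, 7, 7, 5), (5, 4, 3, 8)]),
    (0x846725310, [(2, 3, 3, 5), (5, 7, 7, 4)]),
    (0x254837610, [(2, 6, 6, 4), (4, 3, 3, 7), (7, 5, 5, 8)]),
    (0x176845320, [(1, 2, 2, 3), (3, 5, 5, 8)]),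
    (0x237618540, [(1, 4, 2, 5), (5, 6, 6, 7), (7, 3, 3, 8)]),
    (0x167438520, [(1, 2, 2, 5), (5, 4, 4, 3), (3, 8, 6, 7)]),
    (0x035428761, [(0, 1, 1, 6), (6, 5, 5, 4), (4, 2, 2, 7), (7, 3, 3, 8)]),
    (0x435817620, [(1, 2, 2, 6), (6, 5, 5, 8), (8, 4, 3, 7)])]
  moves := [[(1, 1), (0, 1), (4, 10), (6, 7), (2, 10), (5, 31), (3, 7), (10, 163), (11, 22), (12, 49), (7, 123), (8, 13), (9, 76), (16, 1), (17, 140), (18, 75), (13, 1), (14, 113), (15, 87), (22, 140), (23, 60), (24, 75), (19, 113), (20, 137), (21, 87), (27, 10), (28, 32), (25, 10), (26, 32), (29, 69)],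
    [(2, 51), (3, 117), (5, 47), (7, 189), (8, 123), (0, 60), (9, 75), (1, 64), (12, 166), (13, 171), (14, 9), (15, 27), (4, 1), (6, 22), (18, 21), (19, 23), (20, 22), (21, 4), (10, 17), (11, 5), (24, 31), (25, 76), (26, 76), (22, 133), (16, 113), (17, 32), (23, 37), (29, 76), (27, 181), (28, 51)]]

/-- An orbit sum. -/
def antiPairOrb18 : Orb2 where
  si := 2
  els := [(0x143628750, [(1, 5, 5, 6), (6, 3, 3, 8), (2, 7, 7, 4)]),
    (0x153728640, [(1, 4, 4, 2), (2, 6, 6, 3), (3, 8, 5, 7)]),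
    (0x437518620, [(1, 2, 2, 6), (6, 7, 7, 3), (3, 8, 8, 4)]),
    (0x478526310, [(2, 3, 3, 6), (6, 8, 8, 4)]),
    (0x487516320, [(1, 2, 2, 3), (3, 6, 6, 7), (7, 8, 8, 4)]),
    (0x054728631, [(0, 1, 1, 3), (3, 8, 2, 6), (6, 4, 5, 7)]),
    (0x482617530, [(1, 3, 3, 7), (7, 8, 8, 4), (2, 5, 5, 6)]),
    (0x057836421, [(0, 1, 1, 2), (2, 4, 4, 3), (3, 6, 6, 7), (7, 5, 5, 8)]),
    (0x057438621, [(0, 1, 1, 2), (2, 6, 6, 7), (7, 5, 5, 4), (4, 3, 3, 8)]),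
    (0x268317540, [(1, 4, 2, 5), (5, 3, 3, 7), (7, 6, 6, 8)]),
    (0x046837521, [(0, 1, 1, 2), (2, 5, 5, 8), (3, 7, 7, 4)]),
    (0x285736410, [(2, 4, 4, 3), (3, 6, 6, 5), (5, 7, 7, 8)]),
    (0x275846310, [(2, 3, 3, 6), (6, 5, 5, 8)]),
    (0x148637520, [(1, 2, 2, 5), (5, 6, 6, 8), (3, 7, 7, 4)]),
    (0x846327510, [(2, 5, 5, 3), (3, 7, 7, 4)]),
    (0x284637510, [(2, 5, 5, 6), (6, 4, 4, 3), (3, 7, 7, 8)]),
    (0x157846320, [(1, 2, 2, 3), (3, 6, 6, 7), (7, 5, 5, 8)]),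
    (0x857326410, [(2, 4, 3, 6), (6, 7, 7, 5)]),
    (0x862417530, [(1, 3, 3, 7), (7, 6, 6, 2), (2, 5, 5, 4)]),
    (0x375218640, [(1, 4, 2, 6), (6, 5, 3, 8)]),
    (0x374518620, [(1, 2, 2, 6), (6, 4, 3, 8)]),
    (0x874516320, [(1, 2, 2, 3), (3, 6, 6, 4)]),
    (0x175438620, [(1, 2, 2, 6), (6, 5, 5, 4), (4, 3, 3, 8)]),
    (0x364218750, [(1, 5, 5, 2), (2, 7, 7, 6), (6, 4, 3, 8)]),
    (0x358726410, [(2, 4, 3, 6), (6, 8, 5, 7)]),
    (0x328617540, [(1, 4, 2, 5), (5, 6, 6, 8), (8, 3, 3, 7)]),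
    (0x486317520, [(1, 2, 2, 5), (5, 3, 3, 7), (7, 8, 8, 4)]),
    (0x235718640, [(1, 4, 2, 6), (6, 5, 5, 7), (7, 3, 3, 8)]),
    (0x847526310, [(2, 3, 3, 6), (6, 7, 7, 4)]),
    (0x034628751, [(0, 1, 1, 5), (5, 6, 6, 4), (4, 2, 2, 7), (7, 3, 3, 8)])]
  moves := [[(1, 177), (0, 177), (4, 1), (6, 13), (2, 1), (9, 165), (3, 22), (11, 87), (12, 10), (5, 165), (15, 87), (7, 75), (8, 10), (13, 31), (19, 137), (10, 75), (22, 10), (23, 137), (24, 113), (14, 60), (21, 1), (20, 1), (16, 10), (17, 60), (18, 140), (28, 174), (26, 69), (29, 7), (25, 186), (27, 7)],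
    [(2, 133), (3, 9), (5, 117), (7, 21), (8, 51), (0, 150), (10, 19), (1, 17), (13, 161), (14, 87), (16, 166), (17, 23), (18, 32), (4, 174), (20, 64), (21, 22), (6, 123), (24, 5), (19, 76), (12, 1), (9, 113), (25, 113), (26, 60), (27, 22), (11, 27), (15, 31), (29, 16), (28, 37), (23, 64), (22, 109)]]

/-- An orbit sum. -/
def antiPairOrb19 : Orb2 where
  si := 3
  els := [(0x243518760, [(1, 6, 6, 3), (3, 8, 8, 2), (2, 7, 7, 4)]),
    (0x154827630, [(1, 3, 3, 7), (7, 5, 5, 8), (2, 6, 6, 4)]),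
    (0x864735210, [(3, 5, 5, 7), (7, 6, 6, 4)]),
    (0x046728531, [(0, 1, 1, 3), (3, 8, 2, 5), (5, 7, 7, 4)]),
    (0x376845210, [(3, 5, 5, 8)]),
    (0x372618540, [(1, 4, 2, 5), (5, 6, 3, 8)]),
    (0x053827641, [(0, 1, 1, 4), (4, 2, 2, 6), (6, 3, 3, 7), (7, 5, 5, 8)]),
    (0x467815320, [(1, 2, 2, 3), (3, 5, 5, 8), (8, 4, 6, 7)]),
    (0x276318540, [(1, 4, 2, 5), (5, 3, 3, 8)]),
    (0x876215430, [(1, 3, 3, 5), (5, 2, 2, 4)]),
    (0x438527610, [(2, 6, 6, 8), (8, 4, 3, 7)]),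
    (0x437628510, [(2, 5, 5, 6), (6, 7, 7, 3), (3, 8, 8, 4)]),
    (0x187625430, [(1, 3, 3, 5), (5, 6, 6, 7), (7, 8, 2, 4)]),
    (0x853417620, [(1, 2, 2, 6), (6, 3, 3, 7), (7, 5, 5, 4)]),
    (0x345218760, [(1, 6, 6, 5), (5, 2, 2, 7), (7, 4, 3, 8)]),
    (0x483517620, [(1, 2, 2, 6), (6, 3, 3, 7), (7, 8, 8, 4)]),
    (0x135827640, [(1, 4, 4, 2), (2, 6, 6, 5), (5, 8, 3, 7)]),
    (0x068735421, [(0, 1, 1, 2), (2, 4, 4, 3), (3, 5, 5, 7), (7, 6, 6, 8)]),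
    (0x358427610, [(2, 6, 6, 8), (8, 3, 3, 7), (7, 5, 5, 4)]),
    (0x825417630, [(1, 3, 3, 7), (7, 2, 2, 6), (6, 5, 5, 4)]),
    (0x264738510, [(2, 5, 5, 7), (7, 6, 6, 4), (4, 3, 3, 8)]),
    (0x168745320, [(1, 2, 2, 3), (3, 5, 5, 7), (7, 6, 6, 8)]),
    (0x285317640, [(1, 4, 2, 6), (6, 5, 5, 3), (3, 7, 7, 8)]),
    (0x367428510, [(2, 5, 5, 4), (3, 8, 6, 7)]),
    (0x045827631, [(0, 1, 1, 3), (3, 7, 7, 4), (4, 2, 2, 6), (6, 5, 5, 8)]),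
    (0x847615320, [(1, 2, 2, 3), (3, 5, 5, 6), (6, 7, 7, 4)]),
    (0x278615430, [(1, 3, 3, 5), (5, 6, 6, 8), (8, 2, 2, 4)]),
    (0x086725431, [(0, 1, 1, 3), (3, 5, 5, 7), (7, 8, 2, 4)]),
    (0x136728540, [(1, 4, 4, 2), (2, 5, 5, 7), (7, 3, 3, 8)]),
    (0x486735210, [(3, 5, 5, 7), (7, 8, 8, 4)])]
  moves := [[(1, 97), (0, 54), (4, 21), (6, 163), (2, 24), (9, 45), (3, 123), (11, 100), (12, 97), (5, 16), (15, 0), (7, 100), (8, 54), (18, 0), (19, 107), (10, 0), (22, 0), (17, 31), (13, 0), (14, 51), (21, 48), (20, 48), (16, 0), (25, 100), (27, 123), (23, 100), (28, 54), (24, 163), (26, 97), (29, 63)],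
    [(2, 173), (3, 189), (5, 9), (7, 105), (8, 1), (0, 143), (10, 3), (1, 74), (13, 49), (14, 184), (16, 75), (12, 95), (17, 67), (4, 32), (20, 173), (21, 165), (6, 75), (11, 54), (22, 87), (23, 49), (9, 39), (24, 184), (25, 143), (26, 42), (15, 19), (18, 145), (19, 18), (29, 63), (27, 95), (28, 1)]]

/-- An orbit sum. -/
def antiPairOrb20 : Orb2 where
  si := 4
  els := [(0x857643210, [(5, 6, 6, 7)]),
    (0x054328761, [(0, 1, 1, 6), (6, 4, 4, 2), (2, 7, 7, 5), (5, 3, 3, 8)]),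
    (0x345827610, [(2, 6, 6, 5), (5, 8, 8, 3), (3, 7, 7, 4)]),
    (0x173628540, [(1, 4, 4, 2), (2, 5, 5, 6), (6, 3, 3, 8)]),
    (0x748516320, [(1, 2, 2, 3), (3, 6, 6, 8), (8, 7, 7, 4)]),
    (0x276835410, [(2, 4, 4, 3), (3, 5, 5, 8)]),
    (0x586724310, [(2, 3, 3, 4), (5, 7, 7, 8)]),
    (0x567418320, [(1, 2, 2, 3), (3, 8, 8, 5), (5, 4, 6, 7)]),
    (0x623817540, [(1, 4, 2, 5), (5, 8, 8, 6), (6, 3, 3, 7)]),
    (0x387215640, [(1, 4, 2, 6), (6, 7, 7, 8), (8, 3, 3, 5)]),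
    (0x754628310, [(2, 3, 3, 8), (8, 7, 7, 5), (5, 6, 6, 4)]),
    (0x457638210, [(3, 8, 8, 4), (5, 6, 6, 7)]),
    (0x432518760, [(1, 6, 6, 2), (2, 7, 7, 3), (3, 8, 8, 4)]),
    (0x064738521, [(0, 1, 1, 2), (2, 5, 5, 7), (7, 6, 6, 4), (4, 3, 3, 8)]),
    (0x732418560, [(1, 6, 6, 2), (2, 5, 5, 4), (3, 8, 8, 7)]),
    (0x534628710, [(2, 7, 7, 3), (3, 8, 8, 5), (5, 6, 6, 4)]),
    (0x257438610, [(2, 6, 6, 7), (7, 5, 5, 4), (4, 3, 3, 8)]),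
    (0x645837210, [(3, 7, 7, 4), (5, 8, 8, 6)]),
    (0x157428630, [(1, 3, 3, 8), (2, 6, 6, 7), (7, 5, 5, 4)]),
    (0x547836210, [(3, 6, 6, 7), (7, 4, 5, 8)]),
    (0x785326410, [(2, 4, 3, 6), (6, 5, 7, 8)]),
    (0x374628510, [(2, 5, 5, 6), (6, 4, 3, 8)]),
    (0x148327560, [(1, 6, 6, 8), (2, 5, 5, 3), (3, 7, 7, 4)]),
    (0x675328410, [(2, 4, 3, 8), (8, 6, 6, 5)]),
    (0x468517320, [(1, 2, 2, 3), (3, 7, 7, 6), (6, 8, 8, 4)]),
    (0x265718430, [(1, 3, 3, 8), (8, 2, 2, 4), (5, 7, 7, 6)]),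
    (0x865327410, [(2, 4, 3, 7), (7, 6, 6, 5)]),
    (0x368417520, [(1, 2, 2, 5), (5, 4, 3, 7), (7, 6, 6, 8)]),
    (0x582417630, [(1, 3, 3, 7), (7, 8, 8, 5), (5, 4, 2, 6)]),
    (0x078325641, [(0, 1, 1, 4), (4, 2, 2, 6), (6, 8, 3, 5)]),
    (0x853417620, [(1, 2, 2, 6), (6, 3, 3, 7), (7, 5, 5, 4)]),
    (0x468327510, [(2, 5, 5, 3), (3, 7, 7, 6), (6, 8, 8, 4)]),
    (0x684725310, [(2, 3, 3, 5), (5, 7, 7, 8), (8, 6, 6, 4)]),
    (0x048627531, [(0, 1, 1, 3), (3, 7, 7, 4), (4, 2, 2, 5), (5, 6, 6, 8)]),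
    (0x765318420, [(1, 2, 2, 4), (3, 8, 8, 7), (7, 6, 6, 5)]),
    (0x782615430, [(1, 3, 3, 5), (5, 6, 6, 2), (2, 4, 7, 8)]),
    (0x357418620, [(1, 2, 2, 6), (6, 7, 7, 5), (5, 4, 3, 8)]),
    (0x253817640, [(1, 4, 2, 6), (6, 3, 3, 7), (7, 5, 5, 8)]),
    (0x487315620, [(1, 2, 2, 6), (6, 7, 7, 8), (8, 4, 3, 5)]),
    (0x158736420, [(1, 2, 2, 4), (4, 3, 3, 6), (6, 8, 5, 7)]),
    (0x568317420, [(1, 2, 2, 4), (3, 7, 7, 6), (6, 8, 8, 5)]),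
    (0x537218640, [(1, 4, 2, 6), (6, 7, 7, 3), (3, 8, 8, 5)]),
    (0x065728431, [(0, 1, 1, 3), (3, 8, 2, 4), (5, 7, 7, 6)]),
    (0x156438720, [(1, 2, 2, 7), (7, 5, 5, 4), (4, 3, 3, 8)]),
    (0x642518730, [(1, 3, 3, 8), (8, 6, 6, 2), (2, 7, 7, 4)]),
    (0x637418520, [(1, 2, 2, 5), (5, 4, 3, 8), (8, 6, 6, 7)]),
    (0x234618750, [(1, 5, 5, 6), (6, 4, 2, 7), (7, 3, 3, 8)]),
    (0x862417530, [(1, 3, 3, 7), (7, 6, 6, 2), (2, 5, 5, 4)]),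
    (0x362518740, [(1, 4, 2, 7), (7, 6, 3, 8)]),
    (0x746835210, [(3, 5, 5, 8), (8, 7, 7, 4)]),
    (0x375864210, [(3, 4, 4, 6), (6, 5, 5, 8)]),
    (0x834725610, [(2, 6, 6, 4), (3, 5, 5, 7)]),
    (0x462718530, [(1, 3, 3, 8), (8, 4, 2, 5), (5, 7, 7, 6)]),
    (0x485726310, [(2, 3, 3, 6), (6, 5, 5, 7), (7, 8, 8, 4)]),
    (0x086537421, [(0, 1, 1, 2), (2, 4, 4, 3), (3, 7, 7, 8)]),
    (0x075846321, [(0, 1, 1, 2), (2, 3, 3, 6), (6, 5, 5, 8)]),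
    (0x268547310, [(2, 3, 3, 7), (7, 6, 6, 8)]),
    (0x678514320, [(1, 2, 2, 3), (3, 4, 6, 8)]),
    (0x287415630, [(1, 3, 3, 5), (5, 4, 2, 6), (6, 7, 7, 8)]),
    (0x165827430, [(1, 3, 3, 7), (7, 6, 6, 5), (5, 8, 2, 4)]),
    (0x176845320, [(1, 2, 2, 3), (3, 5, 5, 8)]),
    (0x825716430, [(1, 3, 3, 6), (6, 5, 5, 7), (7, 2, 2, 4)]),
    (0x867315420, [(1, 2, 2, 4), (3, 5, 6, 7)])]
  moves := [[(0, 34), (2, 60), (1, 137), (5, 113), (6, 73), (3, 140), (4, 73), (10, 73), (11, 70), (13, 60), (7, 73), (8, 62), (17, 118), (9, 137), (19, 118), (20, 144), (22, 49), (12, 182), (25, 69), (14, 182), (15, 80), (29, 49), (16, 76), (31, 106), (32, 73), (18, 69), (26, 106), (33, 1), (35, 31), (21, 76), (30, 88), (23, 106), (24, 73), (27, 1), (40, 106), (28, 31), (42, 69), (43, 22), (45, 80), (46, 143), (34, 106), (49, 168), (36, 69), (37, 13), (52, 31), (38, 144), (39, 166),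 (47, 9), (54, 22), (41, 184), (55, 73), (51, 183), (44, 31), (57, 73), (48, 13), (50, 73), (60, 67), (53, 73), (59, 69), (58, 69), (56, 82), (61, 37), (62, 106)],
    [(1, 54), (3, 90), (4, 171), (0, 46), (7, 128), (8, 169), (9, 118), (2, 46), (12, 171), (14, 64), (15, 58), (16, 121), (5, 46), (18, 33), (6, 126), (21, 58), (23, 126), (24, 171), (26, 126), (27, 171), (28, 118), (10, 58), (30, 70), (11, 58), (25, 180), (17, 58), (13, 57), (34, 180), (36, 64), (22, 40), (29, 24), (37, 70), (38, 118), (39, 83), (19, 58), (41, 64), (20, 126), (44, 171), (46, 133), (47, 128), (48, 128), (50, 46), (43, 33), (51, 46), (31, 121), (53, 126), (32, 108), (33, 16), (49, 46), (40, 171), (35, 130), (42, 127), (56, 121), (58, 118), (59, 115), (60, 47), (57, 113), (52, 180), (45, 64), (61, 169), (62, 60), (54, 57), (55, 51)]]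

/-- Terms. -/
def antiPairTerms0 : List Term2 :=
  [⟨(0x506871423, [(0, 3, 3, 1), (1, 2, 2, 4), (4, 7, 5, 8)]), 0, [[(1, 0), (2, 0), (3, 0)],
     [(4, 0), (5, 0), (6, 0)],
     [(7, 0), (8, 0), (9, 0)]]⟩,
   ⟨(0x186754320, [(1, 2, 2, 3), (3, 4, 4, 5), (5, 7, 7, 8)]), 0, [[(10, 0), (11, 0), (12, 0)],
     [(13, 0), (14, 0), (15, 0)],
     [(16, 0), (17, 0), (18, 0)]]⟩,
   ⟨(0x751203468, [(0, 8, 8, 7), (7, 5, 5, 2), (2, 4, 1, 6)]), 0, [[(19, 0), (20, 0), (21, 0)],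
     [(22, 0), (23, 0), (24, 0)],
     [(25, 0), (26, 0), (27, 0)]]⟩,
   ⟨(0x512804637, [(0, 7, 7, 1), (1, 3, 3, 4), (2, 6, 5, 8)]), 0, [[(28, 0), (29, 0), (30, 0)],
     [(31, 0), (32, 0), (33, 0)],
     [(34, 0), (35, 0), (36, 0)]]⟩,
   ⟨(0x458763201, [(0, 1, 4, 6), (6, 8, 5, 7)]), 0, [[(37, 0), (38, 0), (39, 0)],
     [(40, 0), (41, 0), (42, 0)],
     [(43, 0), (44, 0), (45, 0)]]⟩,
   ⟨(0x261708543, [(0, 3, 3, 8), (8, 2, 2, 5), (5, 7, 7, 6), (6, 1, 1, 4)]), 0, [[(46, 0), (47, 0), (48, 0)],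
     [(49, 0), (50, 0), (51, 0)],
     [(52, 0), (53, 0), (54, 0)]]⟩,
   ⟨(0x583421607, [(0, 7, 7, 8), (8, 5, 5, 4), (4, 2, 2, 6), (6, 3, 3, 1)]), 0, [[(55, 0), (56, 0), (57, 0)],
     [(58, 0), (59, 0), (60, 0)],
     [(61, 0), (62, 0), (63, 0)]]⟩,
   ⟨(0x423875610, [(2, 6, 6, 3), (3, 5, 5, 8), (8, 4, 4, 7)]), 0, [[(64, 0), (65, 0), (66, 0)],
     [(67, 0), (68, 0), (69, 0)],
     [(70, 0), (71, 0), (72, 0)]]⟩]

/-- Terms. -/
def antiPairTerms1 : List Term2 :=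
  [⟨(0x142830765, [(0, 5, 5, 8), (8, 1, 1, 6), (6, 2, 2, 7), (7, 4, 4, 3)]), 0, [[(73, 0), (74, 0), (75, 0)],
     [(76, 0), (77, 0), (78, 0)],
     [(79, 0), (80, 0), (81, 0)]]⟩,
   ⟨(0x506813742, [(0, 2, 2, 7), (1, 4, 5, 8)]), 0, [[(82, 0), (83, 0), (84, 0)],
     [(85, 0), (86, 0), (87, 0)],
     [(88, 0), (89, 0), (90, 0)]]⟩,
   ⟨(0x723618405, [(0, 5, 5, 6), (6, 3, 3, 8), (8, 7, 7, 2), (2, 4, 4, 1)]), 0, [[(91, 0), (92, 0), (93, 0)],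
     [(94, 0), (95, 0), (96, 0)],
     [(97, 0), (98, 0), (99, 0)]]⟩,
   ⟨(0x608417235, [(0, 5, 5, 4), (4, 1, 1, 3), (3, 7, 6, 8)]), 0, [[(100, 0), (101, 0), (102, 0)],
     [(103, 0), (104, 0), (105, 0)],
     [(106, 0), (107, 0), (108, 0)]]⟩,
   ⟨(0x361748250, [(1, 5, 5, 7), (7, 6, 3, 8)]), 0, [[(109, 0), (110, 0), (111, 0)],
     [(112, 0), (113, 0), (114, 0)],
     [(115, 0), (116, 0), (117, 0)]]⟩,
   ⟨(0x148672530, [(1, 3, 3, 2), (2, 5, 5, 6), (6, 8, 4, 7)]), 0, [[(118, 0), (119, 0), (120, 0)],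
     [(121, 0), (122, 0), (123, 0)],
     [(124, 0), (125, 0), (126, 0)]]⟩,
   ⟨(0x241075368, [(0, 8, 8, 2), (2, 3, 3, 5), (1, 6, 4, 7)]), 0, [[(127, 0), (128, 0), (129, 0)],
     [(130, 0), (131, 0), (132, 0)],
     [(133, 0), (134, 0), (135, 0)]]⟩,
   ⟨(0x243615780, [(1, 8, 8, 2), (2, 7, 7, 4), (3, 5, 5, 6)]), 0, [[(136, 0), (137, 0), (138, 0)],
     [(139, 0), (140, 0), (141, 0)],
     [(142, 0), (143, 0), (144, 0)]]⟩]

/-- Terms. -/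
def antiPairTerms2 : List Term2 :=
  [⟨(0x371085624, [(0, 4, 4, 8), (8, 3, 3, 5), (1, 2, 2, 6)]), 0, [[(145, 0), (146, 0), (147, 0)],
     [(148, 0), (149, 0), (150, 0)],
     [(151, 0), (152, 0), (153, 0)]]⟩,
   ⟨(0x531726048, [(0, 8, 8, 5), (5, 7, 7, 3), (3, 6, 6, 1), (1, 4, 4, 2)]), 0, [[(154, 0), (155, 0), (156, 0)],
     [(157, 0), (158, 0), (159, 0)],
     [(160, 0), (161, 0), (162, 0)]]⟩,
   ⟨(0x074238156, [(0, 6, 6, 4), (4, 3, 3, 8), (1, 5, 5, 2)]), 0, [[(163, 0), (164, 0), (165, 0)],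
     [(166, 0), (167, 0), (168, 0)],
     [(169, 0), (170, 0), (171, 0)]]⟩,
   ⟨(0x780615423, [(0, 3, 3, 5), (5, 6, 1, 2), (2, 4, 7, 8)]), 0, [[(172, 0), (173, 0), (174, 0)],
     [(175, 0), (176, 0), (177, 0)],
     [(178, 0), (179, 0), (180, 0)]]⟩,
   ⟨(0x375248160, [(1, 6, 6, 5), (5, 2, 3, 8)]), 0, [[(181, 0), (182, 0), (183, 0)],
     [(184, 0), (185, 0), (186, 0)],
     [(187, 0), (188, 0), (189, 0)]]⟩,
   ⟨(0x203746158, [(0, 8, 8, 2), (2, 1, 1, 5), (5, 7, 3, 6)]), 0, [[(190, 0), (191, 0), (192, 0)],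
     [(193, 0), (194, 0), (195, 0)],
     [(196, 0), (197, 0), (198, 0)]]⟩,
   ⟨(0x065823714, [(0, 4, 4, 2), (2, 7, 7, 6), (6, 5, 5, 8)]), 0, [[(199, 0), (200, 0), (201, 0)],
     [(202, 0), (203, 0), (204, 0)],
     [(205, 0), (206, 0), (207, 0)]]⟩,
   ⟨(0x845263107, [(0, 7, 7, 4), (4, 6, 6, 5), (5, 2, 2, 1)]), 0, [[(208, 0), (209, 0), (210, 0)],
     [(211, 0), (212, 0), (213, 0)],
     [(214, 0), (215, 0), (216, 0)]]⟩]

/-- Terms. -/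
def antiPairTerms3 : List Term2 :=
  [⟨(0x856317204, [(0, 4, 4, 1), (3, 7, 7, 5)]), 0, [[(217, 0), (218, 0), (219, 0)],
     [(220, 0), (221, 0), (222, 0)],
     [(223, 0), (224, 0), (225, 0)]]⟩,
   ⟨(0x152086734, [(0, 4, 4, 8), (8, 1, 1, 3), (3, 6, 6, 2), (2, 7, 7, 5)]), 0, [[(226, 0), (227, 0), (228, 0)],
     [(229, 0), (230, 0), (231, 0)],
     [(232, 0), (233, 0), (234, 0)]]⟩,
   ⟨(0x056314287, [(0, 7, 7, 5), (5, 3, 3, 4), (4, 1, 1, 8)]), 0, [[(235, 0), (236, 0), (237, 0)],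
     [(238, 0), (239, 0), (240, 0)],
     [(241, 0), (242, 0), (243, 0)]]⟩,
   ⟨(0x803165427, [(0, 7, 1, 2), (2, 4, 4, 6), (6, 3, 3, 5)]), 0, [[(244, 0), (245, 0), (246, 0)],
     [(247, 0), (248, 0), (249, 0)],
     [(250, 0), (251, 0), (252, 0)]]⟩,
   ⟨(0x165432807, [(0, 7, 7, 6), (6, 5, 5, 4), (4, 3, 3, 2), (2, 8, 8, 1)]), 0, [[(253, 0), (254, 0), (255, 0)],
     [(256, 0), (257, 0), (258, 0)],
     [(259, 0), (260, 0), (261, 0)]]⟩,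
   ⟨(0x741602583, [(0, 3, 3, 2), (2, 5, 5, 6), (6, 1, 1, 8), (8, 7, 7, 4)]), 0, [[(262, 0), (263, 0), (264, 0)],
     [(265, 0), (266, 0), (267, 0)],
     [(268, 0), (269, 0), (270, 0)]]⟩,
   ⟨(0x740625138, [(0, 8, 8, 7), (7, 4, 4, 2), (2, 1, 1, 3), (3, 5, 5, 6)]), 0, [[(271, 0), (272, 0), (273, 0)],
     [(274, 0), (275, 0), (276, 0)],
     [(277, 0), (278, 0), (279, 0)]]⟩,
   ⟨(0x560321748, [(0, 8, 8, 5), (5, 3, 3, 1), (1, 4, 4, 2), (2, 7, 7, 6)]), 0, [[(280, 0), (281, 0), (282, 0)],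
     [(283, 0), (284, 0), (285, 0)],
     [(286, 0), (287, 0), (288, 0)]]⟩]

/-- Terms. -/
def antiPairTerms4 : List Term2 :=
  [⟨(0x583214760, [(1, 6, 6, 3), (3, 4, 2, 7), (7, 8, 8, 5)]), 0, [[(289, 0), (290, 0), (291, 0)],
     [(292, 0), (293, 0), (294, 0)],
     [(295, 0), (296, 0), (297, 0)]]⟩,
   ⟨(0x260548731, [(0, 1, 1, 3), (3, 8, 8, 2), (2, 7, 7, 6)]), 0, [[(298, 0), (299, 0), (300, 0)],
     [(301, 0), (302, 0), (303, 0)],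
     [(304, 0), (305, 0), (306, 0)]]⟩,
   ⟨(0x450178236, [(0, 6, 1, 3), (3, 8, 8, 4), (4, 7, 7, 5)]), 0, [[(307, 0), (308, 0), (309, 0)],
     [(310, 0), (311, 0), (312, 0)],
     [(313, 0), (314, 0), (315, 0)]]⟩,
   ⟨(0x752364810, [(2, 8, 8, 7), (7, 5, 5, 3), (3, 4, 4, 6)]), 0, [[(316, 0), (317, 0), (318, 0)],
     [(319, 0), (320, 0), (321, 0)],
     [(322, 0), (323, 0), (324, 0)]]⟩,
   ⟨(0x436015782, [(0, 2, 2, 7), (7, 3, 3, 5), (1, 8, 8, 4)]), 0, [[(325, 0), (326, 0), (327, 0)],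
     [(328, 0), (329, 0), (330, 0)],
     [(331, 0), (332, 0), (333, 0)]]⟩,
   ⟨(0x674831520, [(1, 2, 2, 5), (5, 8, 8, 6), (6, 4, 4, 3)]), 0, [[(334, 0), (335, 0), (336, 0)],
     [(337, 0), (338, 0), (339, 0)],
     [(340, 0), (341, 0), (342, 0)]]⟩,
   ⟨(0x840713256, [(0, 6, 1, 5), (5, 7, 7, 4)]), 0, [[(343, 0), (344, 0), (345, 0)],
     [(346, 0), (347, 0), (348, 0)],
     [(349, 0), (350, 0), (351, 0)]]⟩,
   ⟨(0x602381574, [(0, 4, 4, 8), (8, 6, 6, 2), (2, 5, 5, 3), (3, 1, 1, 7)]), 0, [[(352, 0), (353, 0), (354, 0)],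
     [(355, 0), (356, 0), (357, 0)],
     [(358, 0), (359, 0), (360, 0)]]⟩]

/-- Terms. -/
def antiPairTerms5 : List Term2 :=
  [⟨(0x168307542, [(0, 2, 2, 5), (5, 3, 3, 7), (7, 6, 6, 8), (8, 1, 1, 4)]), 0, [[(361, 0), (362, 0), (363, 0)],
     [(364, 0), (365, 0), (366, 0)],
     [(367, 0), (368, 0), (369, 0)]]⟩,
   ⟨(0x037861452, [(0, 2, 2, 4), (4, 6, 6, 7), (7, 3, 3, 1), (1, 5, 5, 8)]), 0, [[(370, 0), (371, 0), (372, 0)],
     [(373, 0), (374, 0), (375, 0)],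
     [(376, 0), (377, 0), (378, 0)]]⟩,
   ⟨(0x253014786, [(0, 6, 6, 3), (3, 4, 4, 1), (1, 8, 8, 2), (2, 7, 7, 5)]), 0, [[(379, 0), (380, 0), (381, 0)],
     [(382, 0), (383, 0), (384, 0)],
     [(385, 0), (386, 0), (387, 0)]]⟩,
   ⟨(0x872064315, [(0, 5, 2, 3), (3, 4, 4, 6)]), 0, [[(388, 0), (389, 0), (390, 0)],
     [(391, 0), (392, 0), (393, 0)],
     [(394, 0), (395, 0), (396, 0)]]⟩,
   ⟨(0x671082354, [(0, 4, 4, 8), (8, 6, 6, 1), (1, 5, 2, 3)]), 0, [[(397, 0), (398, 0), (399, 0)],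
     [(400, 0), (401, 0), (402, 0)],
     [(403, 0), (404, 0), (405, 0)]]⟩,
   ⟨(0x567281340, [(1, 4, 4, 8), (8, 5, 5, 2), (2, 3, 6, 7)]), 0, [[(406, 0), (407, 0), (408, 0)],
     [(409, 0), (410, 0), (411, 0)],
     [(412, 0), (413, 0), (414, 0)]]⟩,
   ⟨(0x364120875, [(0, 5, 5, 1), (1, 7, 7, 6), (6, 4, 4, 2), (2, 8, 8, 3)]), 0, [[(415, 0), (416, 0), (417, 0)],
     [(418, 0), (419, 0), (420, 0)],
     [(421, 0), (422, 0), (423, 0)]]⟩,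
   ⟨(0x623810745, [(0, 5, 5, 8), (8, 6, 6, 3), (1, 4, 2, 7)]), 0, [[(424, 0), (425, 0), (426, 0)],
     [(427, 0), (428, 0), (429, 0)],
     [(430, 0), (431, 0), (432, 0)]]⟩]

/-- Terms. -/
def antiPairTerms6 : List Term2 :=
  [⟨(0x320741568, [(0, 8, 8, 3), (3, 1, 1, 6), (2, 5, 5, 7)]), 0, [[(433, 0), (434, 0), (435, 0)],
     [(436, 0), (437, 0), (438, 0)],
     [(439, 0), (440, 0), (441, 0)]]⟩,
   ⟨(0x314578602, [(0, 2, 2, 6), (6, 4, 4, 7), (7, 1, 3, 8)]), 0, [[(442, 0), (443, 0), (444, 0)],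
     [(445, 0), (446, 0), (447, 0)],
     [(448, 0), (449, 0), (450, 0)]]⟩,
   ⟨(0x718026435, [(0, 5, 1, 3), (3, 6, 6, 8), (8, 7, 2, 4)]), 0, [[(451, 0), (452, 0), (453, 0)],
     [(451, 38), (452, 11), (453, 44)],
     [(451, 148), (452, 78), (453, 141)]]⟩,
   ⟨(0x128350647, [(0, 7, 7, 2), (2, 6, 6, 8), (8, 1, 1, 4), (4, 5, 5, 3)]), 0, [[(454, 0), (455, 0), (456, 0)],
     [(457, 0), (458, 0), (459, 0)],
     [(460, 0), (461, 0), (462, 0)]]⟩,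
   ⟨(0x574836120, [(1, 2, 3, 6), (6, 4, 5, 8)]), 0, [[(463, 0), (464, 0), (465, 0)],
     [(466, 0), (467, 0), (468, 0)],
     [(469, 0), (470, 0), (471, 0)]]⟩,
   ⟨(0x827016354, [(0, 4, 4, 1), (1, 5, 2, 3), (3, 6, 6, 7)]), 0, [[(472, 0), (473, 0), (474, 0)],
     [(474, 26), (472, 77), (473, 65)],
     [(473, 121), (474, 126), (472, 58)]]⟩,
   ⟨(0x043168725, [(0, 5, 5, 1), (1, 2, 2, 7), (7, 4, 4, 6), (6, 3, 3, 8)]), 0, [[(475, 0), (476, 0), (477, 0)],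
     [(478, 0), (479, 0), (480, 0)],
     [(481, 0), (482, 0), (483, 0)]]⟩,
   ⟨(0x347561802, [(0, 2, 2, 8), (8, 3, 3, 1), (4, 6, 6, 7)]), 0, [[(484, 0), (485, 0), (486, 0)],
     [(485, 121), (486, 126), (484, 58)],
     [(486, 26), (484, 77), (485, 65)]]⟩]

/-- Terms. -/
def antiPairTerms7 : List Term2 :=
  [⟨(0x650172348, [(0, 8, 8, 6), (1, 4, 4, 7), (7, 5, 2, 3)]), 1, [[(393, 24), (487, 0), (389, 89), (488, 0), (489, 0), (395, 25), (490, 0)],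
     [(396, 24), (491, 0), (392, 89), (488, 134), (492, 0), (389, 25), (487, 101)],
     [(390, 24), (490, 125), (395, 89), (488, 41), (493, 0), (392, 25), (491, 101)]]⟩,
   ⟨(0x687041352, [(0, 2, 2, 3), (3, 1, 1, 5), (6, 7, 7, 8)]), 2, [[(494, 0), (495, 0), (496, 0), (497, 0), (333, 94), (498, 0), (290, 172)],
     [(499, 0), (500, 0), (501, 0), (502, 0), (327, 94), (503, 0), (293, 172)],
     [(504, 0), (505, 0), (506, 0), (507, 0), (330, 94), (508, 0), (296, 172)]]⟩,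
   ⟨(0x032815764, [(0, 4, 4, 1), (1, 6, 6, 2), (2, 7, 7, 3), (3, 5, 5, 8)]), 3, [[(214, 165), (223, 179), (509, 0), (510, 0), (487, 51), (345, 62), (511, 0)],
     [(208, 165), (217, 179), (512, 0), (513, 0), (491, 51), (348, 62), (514, 0)],
     [(211, 165), (220, 179), (515, 0), (516, 0), (490, 167), (351, 62), (517, 0)]]⟩,
   ⟨(0x147260853, [(0, 3, 1, 5), (5, 2, 2, 8), (4, 6, 6, 7)]), 4, [[(447, 15), (117, 169), (436, 37), (152, 122), (440, 165), (418, 152), (518, 0)],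
     [(450, 15), (111, 169), (439, 37), (146, 122), (434, 165), (421, 152), (519, 0)],
     [(444, 15), (114, 169), (433, 37), (149, 122), (437, 165), (415, 152), (520, 0)]]⟩,
   ⟨(0x308746521, [(0, 1, 1, 2), (2, 5, 5, 7), (3, 6, 6, 8)]), 1, [[(478, 49), (521, 0), (135, 188), (10, 17), (522, 0), (523, 0), (167, 81)],
     [(481, 49), (524, 0), (129, 188), (13, 17), (525, 0), (526, 0), (170, 81)],
     [(475, 49), (527, 0), (132, 188), (16, 17), (528, 0), (529, 0), (164, 81)]]⟩,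
   ⟨(0x821653407, [(0, 7, 7, 2), (2, 4, 4, 5), (5, 6, 6, 1)]), 3, [[(504, 154), (530, 0), (531, 0), (532, 0), (533, 0), (41, 68), (534, 0)],
     [(494, 154), (535, 0), (536, 0), (537, 0), (538, 0), (44, 68), (539, 0)],
     [(499, 154), (540, 0), (541, 0), (542, 0), (543, 0), (38, 68), (544, 0)]]⟩,
   ⟨(0x023174658, [(0, 8, 1, 5), (2, 6, 6, 3), (3, 4, 4, 7)]), 5, [[(29, 111), (314, 79), (545, 0), (546, 0), (333, 58), (547, 0), (548, 0)],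
     [(32, 111), (308, 79), (549, 0), (550, 0), (327, 58), (551, 0), (552, 0)],
     [(35, 111), (311, 79), (553, 0), (554, 0), (330, 58), (555, 0), (556, 0)]]⟩,
   ⟨(0x253748106, [(0, 6, 6, 3), (3, 8, 8, 2), (2, 1, 5, 7)]), 3, [[(557, 0), (558, 0), (453, 89), (559, 0), (560, 0), (561, 0), (562, 0)],
     [(562, 158), (560, 159), (453, 16), (557, 101), (561, 91), (558, 2), (559, 56)],
     [(559, 125), (561, 2), (453, 66), (562, 56), (558, 159), (560, 96), (557, 158)]]⟩]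

/-- Terms. -/
def antiPairTerms8 : List Term2 :=
  [⟨(0x483571026, [(0, 6, 6, 3), (3, 1, 1, 2), (4, 7, 7, 8)]), 2, [[(563, 0), (564, 0), (243, 43), (565, 0), (566, 0), (567, 0), (568, 0)],
     [(569, 0), (570, 0), (237, 43), (571, 0), (572, 0), (573, 0), (574, 0)],
     [(575, 0), (576, 0), (240, 43), (577, 0), (578, 0), (579, 0), (580, 0)]]⟩,
   ⟨(0x275063814, [(0, 4, 4, 6), (6, 5, 2, 8)]), 3, [[(476, 109), (581, 0), (582, 0), (583, 0), (584, 0), (585, 0), (586, 0)],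
     [(479, 109), (587, 0), (588, 0), (589, 0), (590, 0), (591, 0), (592, 0)],
     [(482, 109), (593, 0), (594, 0), (595, 0), (596, 0), (597, 0), (598, 0)]]⟩,
   ⟨(0x375184026, [(0, 6, 6, 5), (5, 1, 1, 2), (3, 4, 4, 8)]), 5, [[(599, 0), (600, 0), (601, 0), (593, 125), (602, 0), (121, 191), (365, 87)],
     [(603, 0), (604, 0), (605, 0), (581, 125), (606, 0), (124, 191), (368, 87)],
     [(607, 0), (608, 0), (609, 0), (587, 125), (610, 0), (118, 191), (362, 87)]]⟩,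
   ⟨(0x312748506, [(0, 6, 6, 2), (2, 5, 5, 7), (7, 1, 3, 8)]), 1, [[(311, 39), (35, 154), (611, 0), (612, 0), (613, 0), (330, 105), (533, 64)],
     [(314, 39), (29, 154), (614, 0), (615, 0), (616, 0), (333, 105), (538, 64)],
     [(308, 39), (32, 154), (617, 0), (618, 0), (619, 0), (327, 105), (543, 64)]]⟩,
   ⟨(0x712045386, [(0, 6, 6, 2), (2, 3, 3, 5), (1, 8, 8, 7)]), 6, [[(222, 63), (620, 0), (621, 0), (488, 139), (225, 173), (622, 0), (219, 175)],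
     [(225, 63), (621, 174), (622, 183), (488, 12), (219, 173), (620, 1), (222, 175)],
     [(219, 63), (622, 1), (620, 186), (488, 122), (222, 173), (621, 183), (225, 175)]]⟩,
   ⟨(0x642075318, [(0, 8, 8, 6), (6, 2, 2, 3), (3, 5, 4, 7)]), 3, [[(623, 0), (603, 153), (237, 69), (624, 0), (199, 138), (371, 170), (131, 24)],
     [(625, 0), (607, 153), (240, 69), (626, 0), (202, 138), (374, 170), (134, 24)],
     [(627, 0), (599, 153), (243, 69), (628, 0), (205, 138), (377, 170), (128, 24)]]⟩,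
   ⟨(0x346051278, [(0, 8, 8, 3), (3, 1, 1, 7), (7, 4, 4, 5)]), 3, [[(629, 0), (630, 0), (631, 0), (632, 0), (461, 184), (633, 0), (527, 14)],
     [(634, 0), (635, 0), (636, 0), (637, 0), (455, 184), (638, 0), (521, 14)],
     [(639, 0), (640, 0), (641, 0), (642, 0), (458, 184), (643, 0), (524, 14)]]⟩,
   ⟨(0x406721385, [(0, 5, 5, 7), (1, 8, 8, 4), (4, 2, 2, 3)]), 7, [[(313, 92), (82, 153), (644, 0), (645, 0), (43, 179), (402, 130), (646, 0)],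
     [(307, 92), (85, 153), (647, 0), (648, 0), (37, 179), (405, 130), (649, 0)],
     [(310, 92), (88, 153), (650, 0), (651, 0), (40, 179), (399, 130), (652, 0)]]⟩]

/-- Terms. -/
def antiPairTerms9 : List Term2 :=
  [⟨(0x421680357, [(0, 7, 7, 2), (2, 3, 1, 5), (5, 6, 4, 8)]), 7, [[(319, 70), (21, 157), (317, 145), (653, 0), (654, 0), (655, 0), (271, 141)],
     [(322, 70), (24, 157), (320, 145), (656, 0), (657, 0), (658, 0), (274, 141)],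
     [(316, 70), (27, 157), (323, 145), (659, 0), (660, 0), (661, 0), (277, 141)]]⟩,
   ⟨(0x376425081, [(0, 1, 1, 8), (8, 3, 3, 5), (5, 4, 4, 2)]), 4, [[(662, 0), (12, 140), (479, 134), (608, 162), (134, 57), (166, 65), (663, 0)],
     [(664, 0), (15, 140), (482, 134), (600, 162), (128, 57), (169, 65), (665, 0)],
     [(666, 0), (18, 140), (476, 134), (604, 162), (131, 57), (163, 65), (667, 0)]]⟩,
   ⟨(0x452761380, [(1, 8, 8, 4), (4, 6, 6, 2), (2, 3, 5, 7)]), 5, [[(668, 0), (472, 101), (251, 176), (491, 23), (669, 0), (620, 71), (515, 121)],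
     [(670, 0), (474, 168), (245, 176), (490, 183), (671, 0), (621, 88), (509, 121)],
     [(672, 0), (473, 85), (248, 176), (487, 23), (673, 0), (622, 41), (512, 121)]]⟩,
   ⟨(0x123768540, [(1, 4, 4, 6), (6, 3, 3, 8), (2, 5, 5, 7)]), 4, [[(674, 0), (369, 164), (460, 67), (675, 0), (200, 127), (17, 190), (261, 129)],
     [(676, 0), (363, 164), (454, 67), (677, 0), (203, 127), (11, 190), (255, 129)],
     [(678, 0), (366, 164), (457, 67), (679, 0), (206, 127), (14, 190), (258, 129)]]⟩,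
   ⟨(0x367421508, [(0, 8, 8, 3), (3, 1, 2, 5), (5, 4, 6, 7)]), 4, [[(680, 0), (221, 44), (212, 40), (512, 73), (492, 170), (681, 0), (350, 110)],
     [(682, 0), (224, 44), (215, 40), (515, 73), (493, 170), (683, 0), (344, 110)],
     [(684, 0), (218, 44), (209, 40), (509, 73), (489, 170), (685, 0), (347, 110)]]⟩,
   ⟨(0x380652147, [(0, 7, 7, 8), (8, 3, 3, 2), (2, 1, 1, 4), (4, 5, 5, 6)]), 8, [[(463, 160), (154, 138), (686, 0), (333, 39), (687, 0), (357, 98), (688, 0)],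
     [(466, 160), (157, 138), (689, 0), (327, 39), (690, 0), (360, 98), (691, 0)],
     [(469, 160), (160, 138), (692, 0), (330, 39), (693, 0), (354, 98), (694, 0)]]⟩,
   ⟨(0x874012653, [(0, 3, 3, 2), (2, 6, 6, 4), (4, 1, 1, 5)]), 1, [[(695, 0), (183, 53), (450, 132), (696, 0), (697, 0), (698, 0), (152, 16)],
     [(699, 0), (186, 53), (444, 132), (700, 0), (701, 0), (702, 0), (146, 16)],
     [(703, 0), (189, 53), (447, 132), (704, 0), (705, 0), (706, 0), (149, 16)]]⟩,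
   ⟨(0x071568324, [(0, 4, 4, 6), (6, 1, 1, 2), (2, 3, 3, 8)]), 1, [[(294, 133), (540, 58), (648, 186), (549, 152), (466, 12), (707, 0), (409, 8)],
     [(297, 133), (530, 58), (651, 186), (553, 152), (469, 12), (708, 0), (412, 8)],
     [(291, 133), (535, 58), (645, 186), (545, 152), (463, 12), (709, 0), (406, 8)]]⟩]

/-- Terms. -/
def antiPairTerms10 : List Term2 :=
  [⟨(0x483570216, [(0, 6, 6, 3), (4, 7, 7, 8)]), 8, [[(95, 41), (273, 136), (92, 88), (98, 4), (279, 8), (276, 68), (452, 78)],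
     [(98, 41), (276, 136), (95, 88), (92, 4), (273, 8), (279, 68), (452, 0)],
     [(92, 41), (279, 136), (98, 88), (95, 4), (276, 8), (273, 68), (452, 11)]]⟩,
   ⟨(0x482763015, [(0, 5, 5, 7), (7, 8, 8, 4), (4, 6, 6, 2)]), 4, [[(406, 77), (289, 7), (535, 20), (709, 57), (710, 0), (645, 152), (464, 12)],
     [(409, 77), (292, 7), (540, 20), (707, 57), (711, 0), (648, 152), (467, 12)],
     [(412, 77), (295, 7), (530, 20), (708, 57), (712, 0), (651, 152), (470, 12)]]⟩,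
   ⟨(0x218046735, [(0, 5, 1, 3), (3, 6, 6, 8), (8, 2, 2, 7)]), 3, [[(259, 137), (16, 34), (713, 0), (714, 0), (201, 109), (462, 87), (368, 121)],
     [(253, 137), (10, 34), (715, 0), (716, 0), (204, 109), (456, 87), (362, 121)],
     [(256, 137), (13, 34), (717, 0), (718, 0), (207, 109), (459, 87), (365, 121)]]⟩,
   ⟨(0x521470863, [(0, 3, 1, 6), (2, 8, 8, 5), (5, 4, 4, 7)]), 1, [[(719, 0), (706, 21), (720, 0), (112, 133), (153, 35), (185, 64), (721, 0)],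
     [(722, 0), (698, 21), (723, 0), (115, 133), (147, 35), (188, 64), (724, 0)],
     [(725, 0), (702, 21), (726, 0), (109, 133), (150, 35), (182, 64), (727, 0)]]⟩,
   ⟨(0x137842560, [(1, 6, 6, 7), (7, 3, 3, 2), (2, 5, 5, 8)]), 5, [[(297, 64), (728, 0), (712, 122), (470, 95), (729, 0), (651, 191), (412, 148)],
     [(291, 64), (730, 0), (710, 122), (464, 95), (731, 0), (645, 191), (406, 148)],
     [(294, 64), (732, 0), (711, 122), (467, 95), (733, 0), (648, 191), (409, 148)]]⟩,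
   ⟨(0x384567201, [(0, 1, 3, 7), (7, 8, 4, 6)]), 5, [[(79, 179), (529, 16), (383, 147), (193, 187), (630, 144), (734, 0), (259, 141)],
     [(73, 179), (523, 16), (386, 147), (196, 187), (635, 144), (735, 0), (253, 141)],
     [(76, 179), (526, 16), (380, 147), (190, 187), (640, 144), (736, 0), (256, 141)]]⟩,
   ⟨(0x843052167, [(0, 7, 7, 4), (4, 5, 1, 6), (6, 3, 3, 2)]), 2, [[(328, 39), (613, 44), (555, 121), (554, 131), (611, 124), (35, 57), (311, 123)],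
     [(331, 39), (616, 44), (547, 121), (546, 131), (614, 124), (29, 57), (314, 123)],
     [(325, 39), (619, 44), (551, 121), (550, 131), (617, 124), (32, 57), (308, 123)]]⟩,
   ⟨(0x527401386, [(0, 6, 6, 7), (7, 2, 2, 3), (3, 1, 1, 8), (8, 5, 5, 4)]), 5, [[(208, 180), (737, 0), (681, 132), (738, 0), (225, 120), (388, 110), (739, 0)],
     [(211, 180), (740, 0), (683, 132), (741, 0), (219, 120), (391, 110), (742, 0)],
     [(214, 180), (743, 0), (685, 132), (744, 0), (222, 120), (394, 110), (745, 0)]]⟩]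

/-- Terms. -/
def antiPairTerms11 : List Term2 :=
  [⟨(0x861324750, [(1, 5, 5, 3), (3, 4, 4, 2), (2, 7, 7, 6)]), 2, [[(545, 33), (408, 105), (730, 23), (645, 124), (709, 160), (464, 4), (291, 107)],
     [(549, 33), (411, 105), (732, 23), (648, 124), (707, 160), (467, 4), (294, 107)],
     [(553, 33), (414, 105), (728, 23), (651, 124), (708, 160), (470, 4), (297, 107)]]⟩,
   ⟨(0x314206785, [(0, 5, 5, 2), (2, 7, 7, 1), (1, 8, 8, 3), (3, 6, 6, 4)]), 1, [[(339, 161), (746, 0), (400, 123), (357, 76), (57, 62), (747, 0), (748, 0)],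
     [(342, 161), (749, 0), (403, 123), (360, 76), (60, 62), (750, 0), (751, 0)],
     [(336, 161), (752, 0), (397, 123), (354, 76), (63, 62), (753, 0), (754, 0)]]⟩,
   ⟨(0x087654321, [(0, 1, 1, 2), (2, 3, 3, 4), (4, 5, 5, 6), (6, 7, 7, 8)]), 5, [[(568, 39), (755, 0), (641, 56), (567, 129), (564, 108), (242, 14), (566, 171)],
     [(574, 39), (756, 0), (631, 56), (573, 129), (570, 108), (236, 14), (572, 171)],
     [(580, 39), (757, 0), (636, 56), (579, 129), (576, 108), (239, 14), (578, 171)]]⟩,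
   ⟨(0x284017536, [(0, 6, 6, 4), (4, 1, 1, 3), (3, 7, 7, 8), (8, 2, 2, 5)]), 4, [[(100, 1), (336, 25), (312, 69), (426, 49), (758, 0), (162, 125), (530, 175)],
     [(103, 1), (339, 25), (315, 69), (429, 49), (759, 0), (156, 125), (535, 175)],
     [(106, 1), (342, 25), (309, 69), (432, 49), (760, 0), (159, 125), (540, 175)]]⟩,
   ⟨(0x205836417, [(0, 7, 2, 4), (4, 3, 3, 6), (6, 5, 5, 8)]), 7, [[(761, 0), (275, 159), (318, 116), (762, 0), (175, 170), (269, 86), (763, 0)],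
     [(764, 0), (278, 159), (321, 116), (765, 0), (178, 170), (263, 86), (766, 0)],
     [(767, 0), (272, 159), (324, 116), (768, 0), (172, 170), (266, 86), (769, 0)]]⟩,
   ⟨(0x670258314, [(0, 4, 4, 5), (5, 2, 2, 3), (3, 8, 8, 6)]), 3, [[(770, 0), (755, 69), (771, 0), (122, 81), (169, 59), (258, 144), (376, 177)],
     [(772, 0), (756, 69), (773, 0), (125, 81), (163, 59), (261, 144), (370, 177)],
     [(774, 0), (757, 69), (775, 0), (119, 81), (166, 59), (255, 144), (373, 177)]]⟩,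
   ⟨(0x781364520, [(1, 2, 2, 5), (5, 3, 3, 4), (4, 6, 7, 8)]), 8, [[(728, 100), (424, 149), (334, 3), (311, 72), (101, 85), (776, 0), (161, 136)],
     [(730, 100), (427, 149), (337, 3), (314, 72), (104, 85), (777, 0), (155, 136)],
     [(732, 100), (430, 149), (340, 3), (308, 72), (107, 85), (778, 0), (158, 136)]]⟩,
   ⟨(0x845617230, [(1, 3, 3, 7), (7, 4, 5, 6)]), 1, [[(301, 31), (233, 5), (629, 183), (756, 7), (779, 0), (193, 111), (17, 72)],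
     [(304, 31), (227, 5), (634, 183), (757, 7), (780, 0), (196, 111), (11, 72)],
     [(298, 31), (230, 5), (639, 183), (755, 7), (781, 0), (190, 111), (14, 72)]]⟩]

/-- Terms. -/
def antiPairTerms12 : List Term2 :=
  [⟨(0x123048675, [(0, 5, 1, 7), (7, 2, 2, 6), (6, 3, 3, 8)]), 7, [[(332, 131), (782, 0), (315, 171), (710, 131), (783, 0), (748, 1), (30, 107)],
     [(326, 131), (784, 0), (309, 171), (711, 131), (785, 0), (751, 1), (33, 107)],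
     [(329, 131), (786, 0), (312, 171), (712, 131), (787, 0), (754, 1), (36, 107)]]⟩,
   ⟨(0x205417386, [(0, 6, 6, 5), (5, 4, 4, 1), (1, 8, 8, 2), (2, 3, 3, 7)]), 5, [[(788, 0), (488, 35), (345, 57), (348, 179), (350, 121), (673, 91), (669, 41)],
     [(789, 0), (488, 73), (348, 57), (351, 179), (344, 121), (669, 91), (671, 41)],
     [(790, 0), (488, 100), (351, 57), (345, 179), (347, 121), (671, 91), (673, 41)]]⟩,
   ⟨(0x527034681, [(0, 1, 1, 8), (8, 5, 2, 6), (6, 7, 3, 4)]), 4, [[(791, 0), (625, 45), (663, 16), (454, 111), (609, 111), (775, 176), (792, 0)],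
     [(793, 0), (627, 45), (665, 16), (457, 111), (601, 111), (771, 176), (794, 0)],
     [(795, 0), (623, 45), (667, 16), (460, 111), (605, 111), (773, 176), (796, 0)]]⟩,
   ⟨(0x140857623, [(0, 3, 3, 7), (7, 4, 4, 5), (5, 8, 8, 1), (1, 2, 2, 6)]), 4, [[(697, 13), (434, 47), (797, 0), (704, 62), (486, 0), (798, 0), (418, 47)],
     [(701, 13), (437, 47), (799, 0), (696, 62), (484, 58), (800, 0), (421, 47)],
     [(705, 13), (440, 47), (801, 0), (700, 62), (485, 65), (802, 0), (415, 47)]]⟩,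
   ⟨(0x853470621, [(0, 1, 1, 2), (2, 6, 6, 3), (4, 7, 7, 5)]), 8, [[(177, 101), (173, 113), (91, 174), (803, 0), (804, 0), (22, 25), (805, 0)],
     [(180, 101), (176, 113), (94, 174), (806, 0), (807, 0), (25, 25), (808, 0)],
     [(174, 101), (179, 113), (97, 174), (809, 0), (810, 0), (19, 25), (811, 0)]]⟩,
   ⟨(0x702415863, [(0, 3, 3, 5), (5, 4, 4, 1), (1, 6, 6, 2), (2, 8, 8, 7)]), 4, [[(518, 82), (419, 93), (441, 66), (436, 165), (447, 109), (153, 142), (116, 116)],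
     [(519, 82), (422, 93), (435, 66), (439, 165), (450, 109), (147, 142), (110, 116)],
     [(520, 82), (416, 93), (438, 66), (433, 165), (444, 109), (150, 142), (113, 116)]]⟩,
   ⟨(0x614873052, [(0, 2, 1, 5), (5, 8, 8, 6), (6, 4, 4, 7)]), 5, [[(105, 70), (56, 60), (70, 3), (812, 0), (813, 0), (710, 103), (44, 9)],
     [(108, 70), (59, 60), (64, 3), (814, 0), (815, 0), (711, 103), (38, 9)],
     [(102, 70), (62, 60), (67, 3), (816, 0), (817, 0), (712, 103), (41, 9)]]⟩,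
   ⟨(0x276480513, [(0, 3, 2, 5), (5, 4, 4, 8)]), 1, [[(520, 164), (438, 138), (444, 176), (149, 147), (416, 167), (114, 102), (435, 146)],
     [(518, 164), (441, 138), (447, 176), (152, 147), (419, 167), (117, 102), (438, 146)],
     [(519, 164), (435, 138), (450, 176), (146, 147), (422, 167), (111, 102), (441, 146)]]⟩]

/-- Terms. -/
def antiPairTerms13 : List Term2 :=
  [⟨(0x350678412, [(0, 2, 2, 4), (4, 7, 7, 5), (5, 6, 3, 8)]), 2, [[(479, 74), (521, 107), (10, 114), (522, 4), (523, 107), (134, 40), (166, 44)],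
     [(482, 74), (524, 107), (13, 114), (525, 4), (526, 107), (128, 40), (169, 44)],
     [(476, 74), (527, 107), (16, 114), (528, 4), (529, 107), (131, 40), (163, 44)]]⟩,
   ⟨(0x287456301, [(0, 1, 2, 3), (3, 6, 6, 7), (7, 8, 4, 5)]), 1, [[(386, 180), (238, 15), (638, 126), (226, 53), (53, 94), (522, 188), (715, 183)],
     [(380, 180), (241, 15), (643, 126), (229, 53), (47, 94), (525, 188), (717, 183)],
     [(383, 180), (235, 15), (633, 126), (232, 53), (50, 94), (528, 188), (713, 183)]]⟩,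
   ⟨(0x287031564, [(0, 4, 4, 3), (3, 1, 1, 6), (6, 7, 7, 8), (8, 2, 2, 5)]), 2, [[(88, 88), (532, 14), (295, 58), (286, 80), (693, 40), (334, 43), (613, 162)],
     [(82, 88), (537, 14), (289, 58), (280, 80), (687, 40), (337, 43), (616, 162)],
     [(85, 88), (542, 14), (292, 58), (283, 80), (690, 40), (340, 43), (619, 162)]]⟩,
   ⟨(0x604517382, [(0, 2, 2, 3), (3, 7, 1, 8), (8, 6, 6, 4)]), 2, [[(818, 0), (246, 75), (391, 27), (346, 133), (247, 104), (517, 188), (215, 55)],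
     [(819, 0), (249, 75), (394, 27), (349, 133), (250, 104), (511, 188), (209, 55)],
     [(820, 0), (252, 75), (388, 27), (343, 133), (244, 104), (514, 188), (212, 55)]]⟩,
   ⟨(0x354706128, [(0, 8, 8, 3), (3, 6, 6, 4), (1, 2, 5, 7)]), 1, [[(739, 139), (208, 101), (223, 108), (742, 2), (789, 99), (388, 88), (517, 160)],
     [(742, 139), (211, 101), (217, 108), (745, 2), (790, 99), (391, 88), (511, 160)],
     [(745, 139), (214, 101), (220, 108), (739, 2), (788, 99), (394, 88), (514, 160)]]⟩,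
   ⟨(0x041372658, [(0, 8, 1, 5), (5, 3, 3, 2), (2, 6, 4, 7)]), 1, [[(821, 0), (741, 3), (472, 126), (743, 86), (515, 102), (491, 104), (252, 14)],
     [(822, 0), (744, 3), (474, 19), (737, 86), (509, 102), (490, 117), (246, 14)],
     [(823, 0), (738, 3), (473, 71), (740, 86), (512, 102), (487, 104), (249, 14)]]⟩,
   ⟨(0x572841360, [(1, 6, 6, 2), (2, 3, 5, 8)]), 5, [[(286, 65), (34, 185), (412, 146), (824, 0), (825, 0), (63, 34), (161, 190)],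
     [(280, 65), (28, 185), (406, 146), (826, 0), (827, 0), (57, 34), (155, 190)],
     [(283, 65), (31, 185), (409, 146), (828, 0), (829, 0), (60, 34), (158, 190)]]⟩,
   ⟨(0x842651703, [(0, 3, 3, 1), (2, 7, 7, 4), (4, 5, 5, 6)]), 1, [[(145, 181), (702, 121), (184, 18), (830, 0), (444, 69), (831, 0), (701, 120)],
     [(148, 181), (706, 121), (187, 18), (832, 0), (447, 69), (833, 0), (705, 120)],
     [(151, 181), (698, 121), (181, 18), (834, 0), (450, 69), (835, 0), (697, 120)]]⟩]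

/-- Terms. -/
def antiPairTerms14 : List Term2 :=
  [⟨(0x432568017, [(0, 7, 7, 3), (3, 8, 8, 4), (4, 6, 6, 2)]), 4, [[(317, 69), (809, 177), (836, 0), (324, 47), (278, 130), (562, 23), (26, 173)],
     [(320, 69), (803, 177), (837, 0), (318, 47), (272, 130), (559, 136), (20, 173)],
     [(323, 69), (806, 177), (838, 0), (321, 47), (275, 130), (557, 108), (23, 173)]]⟩,
   ⟨(0x510364278, [(0, 8, 8, 5), (5, 3, 3, 4), (4, 6, 1, 7)]), 5, [[(271, 0), (265, 98), (323, 66), (762, 162), (560, 55), (174, 176), (839, 0)],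
     [(274, 0), (268, 98), (317, 66), (765, 162), (561, 49), (177, 176), (840, 0)],
     [(277, 0), (262, 98), (320, 66), (768, 162), (558, 101), (180, 176), (841, 0)]]⟩,
   ⟨(0x568032174, [(0, 4, 4, 3), (3, 2, 2, 1), (1, 7, 7, 6), (6, 8, 8, 5)]), 5, [[(660, 29), (178, 47), (838, 185), (173, 73), (98, 164), (20, 50), (561, 11)],
     [(654, 29), (172, 47), (836, 185), (176, 73), (92, 164), (23, 50), (558, 16)],
     [(657, 29), (175, 47), (837, 185), (179, 73), (95, 164), (26, 50), (560, 136)]]⟩,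
   ⟨(0x801567324, [(0, 4, 4, 6), (6, 1, 1, 2), (2, 3, 3, 7)]), 4, [[(64, 151), (842, 0), (751, 30), (544, 70), (85, 128), (431, 155), (410, 89)],
     [(67, 151), (843, 0), (754, 30), (534, 70), (88, 128), (425, 155), (413, 89)],
     [(70, 151), (844, 0), (748, 30), (539, 70), (82, 128), (428, 155), (407, 89)]]⟩,
   ⟨(0x456870132, [(0, 2, 2, 1), (1, 3, 4, 7), (7, 5, 5, 8)]), 1, [[(121, 1), (601, 148), (366, 143), (845, 0), (846, 0), (600, 96), (847, 0)],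
     [(124, 1), (605, 148), (369, 143), (848, 0), (849, 0), (604, 96), (850, 0)],
     [(118, 1), (609, 148), (363, 143), (851, 0), (852, 0), (608, 96), (853, 0)]]⟩,
   ⟨(0x286145073, [(0, 3, 3, 5), (5, 1, 1, 7), (7, 8, 8, 2)]), 2, [[(660, 76), (178, 97), (838, 65), (172, 117), (99, 101), (21, 8), (561, 43)],
     [(654, 76), (172, 97), (836, 65), (175, 117), (93, 101), (24, 8), (558, 13)],
     [(657, 76), (175, 97), (837, 65), (178, 117), (96, 101), (27, 8), (560, 50)]]⟩,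
   ⟨(0x723180645, [(0, 5, 5, 1), (1, 4, 4, 8), (8, 7, 7, 2), (2, 6, 6, 3)]), 2, [[(60, 44), (285, 40), (31, 61), (410, 138), (158, 134), (829, 61), (647, 94)],
     [(63, 44), (288, 40), (34, 61), (413, 138), (161, 134), (825, 61), (650, 94)],
     [(57, 44), (282, 40), (28, 61), (407, 138), (155, 134), (827, 61), (644, 94)]]⟩,
   ⟨(0x075243681, [(0, 1, 1, 8), (2, 6, 6, 5)]), 4, [[(361, 176), (374, 68), (142, 55), (480, 26), (228, 64), (74, 88), (791, 0)],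
     [(364, 176), (377, 68), (136, 55), (483, 26), (231, 64), (77, 88), (793, 0)],
     [(367, 176), (371, 68), (139, 55), (477, 26), (234, 64), (80, 88), (795, 0)]]⟩]

/-- Terms. -/
def antiPairTerms15 : List Term2 :=
  [⟨(0x017254683, [(0, 3, 3, 4), (4, 5, 5, 2), (2, 6, 6, 7), (7, 1, 1, 8)]), 2, [[(0, 33), (789, 113), (669, 98), (348, 141), (344, 79), (788, 165), (350, 78)],
     [(0, 65), (790, 113), (671, 98), (351, 141), (347, 79), (789, 165), (344, 78)],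
     [(0, 134), (788, 113), (673, 98), (345, 141), (350, 79), (790, 165), (347, 78)]]⟩,
   ⟨(0x184206573, [(0, 3, 3, 6), (6, 4, 1, 7), (7, 8, 2, 5)]), 5, [[(809, 111), (766, 41), (854, 0), (653, 163), (94, 111), (267, 127), (24, 158)],
     [(803, 111), (769, 41), (855, 0), (656, 163), (97, 111), (270, 127), (27, 158)],
     [(806, 111), (763, 41), (856, 0), (659, 163), (91, 111), (264, 127), (21, 158)]]⟩,
   ⟨(0x506723418, [(0, 8, 8, 5), (5, 7, 2, 4)]), 4, [[(389, 126), (244, 85), (343, 180), (514, 93), (250, 17), (211, 121), (622, 35)],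
     [(392, 126), (247, 85), (346, 180), (517, 93), (244, 17), (214, 121), (620, 12)],
     [(395, 126), (250, 85), (349, 180), (511, 93), (247, 17), (208, 121), (621, 144)]]⟩,
   ⟨(0x687513420, [(1, 2, 2, 4), (6, 7, 7, 8)]), 4, [[(629, 110), (303, 19), (193, 11), (233, 172), (857, 0), (17, 63), (581, 79)],
     [(634, 110), (306, 19), (196, 11), (227, 172), (858, 0), (11, 63), (587, 79)],
     [(639, 110), (300, 19), (190, 11), (230, 172), (859, 0), (14, 63), (593, 79)]]⟩,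
   ⟨(0x726403815, [(0, 5, 5, 4), (2, 8, 8, 7)]), 1, [[(71, 47), (748, 74), (688, 172), (844, 107), (428, 141), (407, 139), (84, 128)],
     [(65, 47), (751, 74), (691, 172), (842, 107), (431, 141), (410, 139), (87, 128)],
     [(68, 47), (754, 74), (694, 172), (843, 107), (425, 141), (413, 139), (90, 128)]]⟩,
   ⟨(0x538746021, [(0, 1, 1, 2), (3, 6, 6, 8), (8, 5, 5, 7)]), 2, [[(170, 68), (482, 9), (665, 5), (525, 184), (129, 132), (664, 23), (13, 100)],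
     [(164, 68), (476, 9), (667, 5), (528, 184), (132, 132), (666, 23), (16, 100)],
     [(167, 68), (479, 9), (663, 5), (522, 184), (135, 132), (662, 23), (10, 100)]]⟩,
   ⟨(0x365870214, [(0, 4, 4, 7), (7, 6, 6, 5), (5, 8, 8, 3)]), 2, [[(135, 37), (203, 80), (238, 152), (853, 35), (634, 8), (860, 0), (373, 55)],
     [(129, 37), (206, 80), (241, 152), (847, 35), (639, 8), (861, 0), (376, 55)],
     [(132, 37), (200, 80), (235, 152), (850, 35), (629, 8), (862, 0), (370, 55)]]⟩,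
   ⟨(0x628134507, [(0, 7, 7, 2), (2, 5, 5, 1), (3, 4, 6, 8)]), 4, [[(863, 0), (178, 110), (20, 110), (658, 150), (172, 172), (98, 168), (561, 118)],
     [(864, 0), (172, 110), (23, 110), (661, 150), (175, 172), (92, 168), (558, 123)],
     [(865, 0), (175, 110), (26, 110), (655, 150), (178, 172), (95, 168), (560, 77)]]⟩]

/-- Terms. -/
def antiPairTerms16 : List Term2 :=
  [⟨(0x683241507, [(0, 7, 7, 8), (8, 6, 6, 3), (3, 1, 2, 5)]), 4, [[(276, 180), (806, 76), (323, 114), (557, 58), (810, 24), (22, 106), (319, 13)],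
     [(279, 180), (809, 76), (317, 114), (562, 75), (804, 24), (25, 106), (322, 13)],
     [(273, 180), (803, 76), (320, 114), (559, 184), (807, 24), (19, 106), (316, 13)]]⟩,
   ⟨(0x837205416, [(0, 6, 6, 7), (7, 3, 3, 5), (5, 2, 2, 4)]), 4, [[(787, 153), (88, 3), (286, 60), (295, 144), (866, 0), (335, 155), (867, 0)],
     [(783, 153), (82, 3), (280, 60), (289, 144), (868, 0), (338, 155), (869, 0)],
     [(785, 153), (85, 3), (283, 60), (292, 144), (870, 0), (341, 155), (871, 0)]]⟩,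
   ⟨(0x054173628, [(0, 8, 1, 2), (2, 6, 6, 4), (4, 7, 7, 5)]), 1, [[(512, 10), (221, 7), (492, 66), (349, 164), (681, 124), (213, 14), (510, 90)],
     [(515, 10), (224, 7), (493, 66), (343, 164), (683, 124), (216, 14), (513, 90)],
     [(509, 10), (218, 7), (489, 66), (346, 164), (685, 124), (210, 14), (516, 90)]]⟩,
   ⟨(0x582346701, [(0, 1, 2, 7), (7, 8, 8, 5), (5, 3, 3, 6)]), 9, [[(508, 102), (333, 97), (807, 17), (287, 169), (872, 0), (44, 72), (84, 25), (765, 2), (17, 31), (613, 36), (330, 186), (791, 91), (674, 77), (6, 40), (173, 118), (812, 136), (658, 87), (570, 171), (648, 38), (550, 89), (609, 93), (546, 96), (100, 180), (118, 54), (623, 114), (411, 112), (480, 5), (569, 128), (316, 1), (552, 150)],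
     [(498, 102), (327, 97), (810, 17), (281, 169), (873, 0), (38, 72), (87, 25), (768, 2), (11, 31), (616, 36), (333, 186), (793, 91), (676, 77), (9, 40), (176, 118), (814, 136), (661, 87), (576, 171), (651, 38), (554, 89), (601, 93), (550, 96), (103, 180), (121, 54), (625, 114), (414, 112), (483, 5), (575, 128), (319, 1), (556, 150)],
     [(503, 102), (330, 97), (804, 17), (284, 169), (874, 0), (41, 72), (90, 25), (762, 2), (14, 31), (619, 36), (327, 186), (795, 91), (678, 77), (3, 40), (179, 118), (816, 136), (655, 87), (564, 171), (645, 38), (546, 89), (605, 93), (554, 96), (106, 180), (124, 54), (627, 114), (408, 112), (477, 5), (563, 128), (322, 1), (548, 150)]]⟩,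
   ⟨(0x702681534, [(0, 4, 4, 8), (8, 7, 1, 3), (2, 5, 5, 6)]), 9, [[(577, 16), (808, 161), (616, 171), (715, 97), (749, 132), (766, 139), (98, 129), (730, 123), (446, 111), (478, 16), (662, 150), (815, 113), (800, 2), (739, 53), (408, 103), (267, 81), (546, 10), (421, 151), (672, 153), (819, 116), (814, 17), (761, 1), (638, 14), (499, 171), (116, 101), (823, 98), (649, 114), (147, 51), (869, 110), (208, 191)],
     [(565, 16), (811, 161), (619, 171), (717, 97), (752, 132), (769, 139), (92, 129), (732, 123), (449, 111), (481, 16), (664, 150), (817, 113), (802, 2), (742, 53), (411, 103), (270, 81), (550, 10), (415, 151), (668, 153), (820, 116), (816, 17), (764, 1), (643, 14), (504, 171), (110, 101), (821, 98), (652, 114), (150, 51), (871, 110), (211, 191)],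
     [(571, 16), (805, 161), (613, 171), (713, 97), (746, 132), (763, 139), (95, 129), (728, 123), (443, 111), (475, 16), (666, 150), (813, 113), (798, 2), (745, 53), (414, 103), (264, 81), (554, 10), (418, 151), (670, 153), (818, 116), (812, 17), (767, 1), (633, 14), (494, 171), (113, 101), (822, 98), (646, 114), (153, 51), (867, 110), (214, 191)]]⟩,
   ⟨(0x453120687, [(0, 7, 7, 5), (5, 1, 1, 8), (8, 4, 4, 2), (2, 6, 6, 3)]), 10, [[(778, 18), (17, 74), (81, 95), (61, 57), (405, 88), (90, 50), (218, 158), (691, 57), (632, 37), (744, 162), (840, 21), (772, 84), (285, 66), (7, 169), (875, 0), (804, 156), (380, 67), (330, 73), (237, 4), (389, 84), (365, 148), (876, 0), (627, 71), (249, 63), (617, 41), (530, 51), (510, 44), (272, 3), (180, 157), (169, 150)],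
     [(776, 18), (11, 74), (75, 95), (55, 57), (399, 88), (84, 50), (221, 158), (694, 57), (637, 37), (738, 162), (841, 21), (774, 84), (288, 66), (1, 169), (877, 0), (807, 156), (383, 67), (333, 73), (240, 4), (392, 84), (368, 148), (878, 0), (623, 71), (252, 63), (611, 41), (535, 51), (513, 44), (275, 3), (174, 157), (163, 150)],
     [(777, 18), (14, 74), (78, 95), (58, 57), (402, 88), (87, 50), (224, 158), (688, 57), (642, 37), (741, 162), (839, 21), (770, 84), (282, 66), (4, 169), (879, 0), (810, 156), (386, 67), (327, 73), (243, 4), (395, 84), (362, 148), (880, 0), (625, 71), (246, 63), (614, 41), (540, 51), (516, 44), (278, 3), (177, 157), (166, 150)]]⟩,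
   ⟨(0x180563742, [(0, 2, 2, 7), (7, 8, 8, 1), (1, 4, 4, 6)]), 11, [[(35, 70), (68, 116), (458, 7), (257, 186), (318, 115), (503, 43), (803, 25), (431, 155), (361, 105), (544, 32), (479, 173), (181, 106), (151, 178), (88, 151), (187, 19), (254, 135), (330, 64), (170, 4), (656, 140), (112, 30), (602, 123), (663, 61), (881, 0), (278, 161), (293, 118), (833, 103), (870, 161), (451, 70), (296, 19), (600, 87)],
     [(29, 70), (71, 116), (461, 7), (260, 186), (321, 115), (508, 43), (806, 25), (425, 155), (364, 105), (534, 32), (482, 173), (184, 106), (145, 178), (82, 151), (181, 19), (257, 135), (333, 64), (164, 4), (659, 140), (115, 30), (606, 123), (665, 61), (882, 0), (272, 161), (296, 118), (835, 103), (866, 161), (451, 181), (290, 19), (604, 87)],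
     [(32, 70), (65, 116), (455, 7), (254, 186), (324, 115), (498, 43), (809, 25), (428, 155), (367, 105), (539, 32), (476, 173), (187, 106), (148, 178), (85, 151), (184, 19), (260, 135), (327, 64), (167, 4), (653, 140), (109, 30), (610, 123), (667, 61), (883, 0), (275, 161), (290, 118), (831, 103), (868, 161), (451, 186), (293, 19), (608, 87)]]⟩,
   ⟨(0x360158742, [(0, 2, 2, 7), (7, 6, 1, 4), (4, 5, 3, 8)]), 12, [[(700, 69), (789, 104), (884, 0), (26, 60), (436, 146), (263, 90), (48, 126), (724, 34), (245, 20), (794, 159), (326, 24), (489, 167), (182, 157), (172, 108), (64, 150), (885, 0), (82, 4), (276, 50), (220, 128), (13, 166), (463, 31), (55, 163), (777, 88), (378, 110), (886, 0), (559, 185), (602, 130), (340, 57), (829, 127), (538, 42)],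
     [(704, 69), (790, 104), (887, 0), (20, 60), (439, 146), (266, 90), (51, 126), (727, 34), (248, 20), (796, 159), (329, 24), (492, 167), (185, 157), (175, 108), (67, 150), (888, 0), (85, 4), (279, 50), (223, 128), (16, 166), (466, 31), (58, 163), (778, 88), (372, 110), (889, 0), (557, 69), (606, 130), (334, 57), (825, 127), (543, 42)],
     [(696, 69), (788, 104), (890, 0), (23, 60), (433, 146), (269, 90), (54, 126), (721, 34), (251, 20), (792, 159), (332, 24), (493, 167), (188, 157), (178, 108), (70, 150), (891, 0), (88, 4), (273, 50), (217, 128), (10, 166), (469, 31), (61, 163), (776, 88), (375, 110), (892, 0), (562, 126), (610, 130), (337, 57), (827, 127), (533, 42)]]⟩]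

/-- Terms. -/
def antiPairTerms17 : List Term2 :=
  [⟨(0x514027638, [(0, 8, 8, 5), (1, 3, 3, 7), (2, 6, 6, 4)]), 13, [[(62, 18), (487, 166), (154, 57), (727, 20), (557, 42), (321, 131), (148, 123), (241, 75), (817, 8), (103, 30), (771, 170), (457, 30), (492, 163), (536, 94), (273, 19), (249, 178), (250, 172), (893, 0), (269, 69), (891, 180), (752, 105), (776, 159), (189, 79), (847, 184), (329, 46), (265, 87), (366, 53), (212, 65), (401, 110), (115, 78)],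
     [(56, 18), (491, 166), (157, 57), (721, 20), (562, 14), (324, 131), (151, 123), (235, 75), (813, 8), (106, 30), (773, 170), (460, 30), (493, 163), (541, 94), (276, 19), (252, 178), (244, 172), (894, 0), (263, 69), (885, 180), (746, 105), (777, 159), (183, 79), (850, 184), (332, 46), (268, 87), (369, 53), (215, 65), (404, 110), (109, 78)],
     [(59, 18), (490, 87), (160, 57), (724, 20), (559, 64), (318, 131), (145, 123), (238, 75), (815, 8), (100, 30), (775, 170), (454, 30), (489, 163), (531, 94), (279, 19), (246, 178), (247, 172), (895, 0), (266, 69), (888, 180), (749, 105), (778, 159), (186, 79), (853, 184), (326, 46), (262, 87), (363, 53), (209, 65), (398, 110), (112, 78)]]⟩,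
   ⟨(0x680725341, [(0, 1, 1, 4), (4, 2, 2, 3), (3, 5, 5, 7), (7, 8, 8, 6)]), 12, [[(728, 164), (813, 184), (896, 0), (147, 175), (69, 59), (897, 0), (305, 106), (330, 191), (3, 86), (479, 19), (778, 121), (748, 170), (286, 174), (417, 184), (405, 155), (409, 107), (136, 128), (152, 5), (644, 22), (239, 99), (257, 114), (898, 0), (627, 125), (255, 150), (399, 175), (833, 107), (609, 54), (690, 82), (551, 43), (564, 108)],
     [(730, 164), (815, 184), (899, 0), (150, 175), (72, 59), (900, 0), (299, 106), (333, 191), (6, 86), (482, 19), (776, 121), (751, 170), (280, 174), (420, 184), (399, 155), (412, 107), (139, 128), (146, 5), (647, 22), (242, 99), (260, 114), (901, 0), (623, 125), (258, 150), (402, 175), (835, 107), (601, 54), (693, 82), (555, 43), (570, 108)],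
     [(732, 164), (817, 184), (902, 0), (153, 175), (66, 59), (903, 0), (302, 106), (327, 191), (9, 86), (476, 19), (777, 121), (754, 170), (283, 174), (423, 184), (402, 155), (406, 107), (142, 128), (149, 5), (650, 22), (236, 99), (254, 114), (904, 0), (625, 125), (261, 150), (405, 175), (831, 107), (605, 54), (687, 82), (547, 43), (576, 108)]]⟩,
   ⟨(0x426570813, [(0, 3, 2, 8), (8, 4, 4, 7)]), 9, [[(367, 145), (292, 173), (681, 161), (667, 187), (892, 24), (404, 119), (39, 79), (217, 144), (253, 118), (164, 70), (260, 128), (435, 79), (872, 101), (276, 75), (0, 148), (785, 27), (789, 130), (626, 42), (765, 46), (654, 113), (450, 16), (732, 185), (795, 7), (152, 17), (73, 133), (839, 154), (150, 183), (54, 59), (213, 148), (23, 71)],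
     [(361, 145), (295, 173), (683, 161), (663, 187), (886, 24), (398, 119), (42, 79), (220, 144), (256, 118), (167, 70), (254, 128), (438, 79), (873, 101), (279, 75), (0, 89), (787, 27), (790, 130), (628, 42), (768, 46), (657, 113), (444, 16), (728, 185), (791, 7), (146, 17), (76, 133), (840, 154), (153, 183), (48, 59), (216, 148), (26, 71)],
     [(364, 145), (289, 173), (685, 161), (665, 187), (889, 24), (401, 119), (45, 79), (223, 144), (259, 118), (170, 70), (257, 128), (441, 79), (874, 101), (273, 75), (0, 77), (783, 27), (788, 130), (624, 42), (762, 46), (660, 113), (447, 16), (730, 185), (793, 7), (149, 17), (79, 133), (841, 154), (147, 183), (51, 59), (210, 148), (20, 71)]]⟩,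
   ⟨(0x378046512, [(0, 2, 2, 5), (3, 6, 6, 8)]), 14, [[(169, 47), (457, 8), (905, 0), (906, 0), (588, 166), (907, 0), (227, 190), (908, 0), (361, 63), (29, 93), (697, 74), (614, 135), (678, 13), (188, 48), (102, 12), (296, 16), (799, 47), (628, 79), (89, 175), (312, 36), (909, 0), (812, 127), (181, 85), (294, 165), (203, 75), (484, 59), (816, 32), (198, 40), (910, 0), (665, 55)],
     [(163, 47), (460, 8), (911, 0), (912, 0), (594, 166), (913, 0), (230, 190), (905, 167), (364, 63), (32, 93), (701, 74), (617, 135), (674, 13), (182, 48), (105, 12), (290, 16), (801, 47), (624, 79), (83, 175), (315, 36), (914, 0), (814, 127), (184, 85), (297, 165), (206, 75), (485, 75), (812, 32), (192, 40), (915, 0), (667, 55)],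
     [(166, 47), (454, 8), (908, 180), (916, 0), (582, 166), (917, 0), (233, 190), (911, 167), (367, 63), (35, 93), (705, 74), (611, 135), (676, 13), (185, 48), (108, 12), (293, 16), (797, 47), (626, 79), (86, 175), (309, 36), (918, 0), (816, 127), (187, 85), (291, 165), (200, 75), (486, 35), (814, 32), (195, 40), (919, 0), (663, 55)]]⟩,
   ⟨(0x176058423, [(0, 3, 3, 8), (8, 1, 1, 2), (2, 4, 4, 5)]), 13, [[(619, 26), (700, 1), (880, 147), (76, 163), (225, 91), (683, 80), (598, 29), (71, 182), (340, 32), (920, 0), (82, 79), (280, 106), (442, 117), (872, 178), (213, 146), (440, 183), (418, 175), (299, 116), (738, 128), (921, 0), (327, 167), (647, 69), (601, 139), (759, 112), (60, 109), (512, 141), (154, 80), (798, 59), (375, 172), (602, 147)],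
     [(613, 26), (704, 1), (876, 147), (79, 163), (219, 91), (685, 80), (586, 29), (65, 182), (334, 32), (922, 0), (85, 79), (283, 106), (445, 117), (873, 178), (216, 146), (434, 183), (421, 175), (302, 116), (741, 128), (923, 0), (330, 167), (650, 69), (605, 139), (760, 112), (63, 109), (515, 141), (157, 80), (800, 59), (378, 172), (606, 147)],
     [(616, 26), (696, 1), (878, 147), (73, 163), (222, 91), (681, 80), (592, 29), (68, 182), (337, 32), (924, 0), (88, 79), (286, 106), (448, 117), (874, 178), (210, 146), (437, 183), (415, 175), (305, 116), (744, 128), (925, 0), (333, 167), (644, 69), (609, 139), (758, 112), (57, 109), (509, 141), (160, 80), (802, 59), (372, 172), (610, 147)]]⟩,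
   ⟨(0x340526178, [(0, 8, 8, 3), (3, 6, 1, 7), (7, 4, 4, 2)]), 13, [[(579, 78), (737, 82), (446, 134), (807, 185), (694, 36), (753, 122), (804, 184), (593, 168), (676, 95), (449, 142), (642, 3), (137, 23), (513, 95), (418, 11), (334, 181), (789, 93), (350, 120), (19, 3), (413, 123), (110, 86), (662, 3), (134, 54), (322, 72), (859, 125), (774, 124), (286, 97), (377, 62), (680, 85), (725, 116), (856, 132)],
     [(567, 78), (740, 82), (449, 134), (810, 185), (688, 36), (747, 122), (807, 184), (581, 168), (678, 95), (443, 142), (632, 3), (140, 23), (516, 95), (421, 11), (337, 181), (790, 93), (344, 120), (22, 3), (407, 123), (113, 86), (664, 3), (128, 54), (316, 72), (857, 125), (770, 124), (280, 97), (371, 62), (682, 85), (719, 116), (854, 132)],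
     [(573, 78), (743, 82), (443, 134), (804, 185), (691, 36), (750, 122), (810, 184), (587, 168), (674, 95), (446, 142), (637, 3), (143, 23), (510, 95), (415, 11), (340, 181), (788, 93), (347, 120), (25, 3), (410, 123), (116, 86), (666, 3), (131, 54), (319, 72), (858, 125), (772, 124), (283, 97), (374, 62), (684, 85), (722, 116), (855, 132)]]⟩,
   ⟨(0x158734602, [(0, 2, 2, 6), (6, 8, 8, 1), (3, 4, 5, 7)]), 13, [[(334, 31), (299, 156), (143, 54), (236, 131), (283, 134), (870, 36), (584, 135), (704, 40), (399, 77), (479, 164), (418, 137), (152, 172), (876, 119), (716, 175), (468, 38), (381, 36), (525, 51), (370, 6), (828, 100), (522, 57), (693, 15), (69, 121), (302, 100), (149, 80), (8, 181), (404, 125), (520, 177), (481, 137), (240, 168), (139, 128)],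
     [(337, 31), (302, 156), (137, 54), (239, 131), (286, 134), (866, 36), (590, 135), (696, 40), (402, 77), (482, 164), (421, 137), (146, 172), (878, 119), (718, 175), (471, 38), (384, 36), (528, 51), (373, 6), (824, 100), (525, 57), (687, 15), (72, 121), (305, 100), (152, 80), (2, 181), (398, 125), (518, 177), (475, 137), (243, 168), (142, 128)],
     [(340, 31), (305, 156), (140, 54), (242, 131), (280, 134), (868, 36), (596, 135), (700, 40), (405, 77), (476, 164), (415, 137), (149, 172), (880, 119), (714, 175), (465, 38), (387, 36), (522, 51), (376, 6), (826, 100), (528, 57), (690, 15), (66, 121), (299, 100), (146, 80), (5, 181), (401, 125), (519, 177), (478, 137), (237, 168), (136, 128)]]⟩,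
   ⟨(0x178653240, [(1, 4, 4, 5), (5, 6, 6, 8)]), 15, [[(10, 54), (518, 32), (889, 45), (380, 179), (144, 177), (627, 87), (284, 64), (239, 38), (900, 82), (778, 62), (570, 90), (833, 93), (635, 180), (718, 144), (382, 186), (372, 72), (338, 103), (123, 89), (423, 191), (751, 94), (44, 100), (408, 19), (333, 166), (39, 98), (118, 57), (482, 96), (467, 103), (16, 62), (632, 178), (3, 129)],
     [(13, 54), (519, 32), (892, 45), (383, 179), (138, 177), (623, 87), (287, 64), (242, 38), (903, 82), (776, 62), (576, 90), (835, 93), (640, 180), (714, 144), (385, 186), (375, 72), (341, 103), (126, 89), (417, 191), (754, 94), (38, 100), (411, 19), (327, 166), (42, 98), (121, 57), (476, 96), (470, 103), (10, 62), (637, 178), (6, 129)],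
     [(16, 54), (520, 32), (886, 45), (386, 179), (141, 177), (625, 87), (281, 64), (236, 38), (897, 82), (777, 62), (564, 90), (831, 93), (630, 180), (716, 144), (379, 186), (378, 72), (335, 103), (120, 89), (420, 191), (748, 94), (41, 100), (414, 19), (330, 166), (45, 98), (124, 57), (479, 96), (464, 103), (13, 62), (642, 178), (9, 129)]]⟩]

/-- Terms. -/
def antiPairTerms18 : List Term2 :=
  [⟨(0x065327148, [(0, 8, 1, 4), (4, 2, 3, 7), (7, 6, 6, 5)]), 16, [[(590, 56), (106, 129), (370, 99), (244, 28), (278, 48), (91, 139), (514, 44), (873, 2), (202, 99), (925, 84), (643, 48), (6, 188), (477, 33), (21, 45), (846, 2), (324, 12), (460, 129), (757, 188), (307, 34), (361, 164), (838, 60), (391, 4), (468, 182), (674, 95), (227, 177), (743, 107), (325, 23), (241, 5), (741, 34), (847, 91)],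
     [(596, 56), (100, 129), (373, 99), (247, 28), (272, 48), (94, 139), (517, 44), (874, 2), (205, 99), (921, 84), (633, 48), (9, 188), (480, 33), (24, 45), (849, 2), (318, 12), (454, 129), (755, 188), (310, 34), (364, 164), (836, 60), (394, 4), (471, 182), (676, 95), (230, 177), (737, 107), (328, 23), (235, 5), (744, 34), (850, 91)],
     [(584, 56), (103, 129), (376, 99), (250, 28), (275, 48), (97, 139), (511, 44), (872, 2), (199, 99), (923, 84), (638, 48), (3, 188), (483, 33), (27, 45), (852, 2), (321, 12), (457, 129), (756, 188), (313, 34), (367, 164), (837, 60), (388, 4), (465, 182), (678, 95), (233, 177), (740, 107), (331, 23), (238, 5), (738, 34), (853, 91)]]⟩,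
   ⟨(0x846531207, [(0, 7, 7, 4), (4, 3, 3, 1)]), 17, [[(441, 159), (798, 31), (323, 37), (766, 62), (846, 145), (81, 15), (922, 142), (18, 143), (742, 157), (248, 3), (675, 187), (715, 115), (374, 184), (880, 107), (725, 130), (205, 41), (223, 35), (110, 173), (94, 183), (823, 128), (228, 44), (271, 147), (120, 123), (391, 161), (366, 142), (51, 184), (794, 34), (476, 67), (557, 37), (446, 163)],
     [(435, 159), (800, 31), (317, 37), (769, 62), (849, 145), (75, 15), (924, 142), (12, 143), (745, 157), (251, 3), (677, 187), (717, 115), (377, 184), (876, 107), (719, 130), (199, 41), (217, 35), (113, 173), (97, 183), (821, 128), (231, 44), (274, 147), (123, 123), (394, 161), (369, 142), (54, 184), (796, 34), (479, 67), (562, 17), (449, 163)],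
     [(438, 159), (802, 31), (320, 37), (763, 62), (852, 145), (78, 15), (920, 142), (15, 143), (739, 157), (245, 3), (679, 187), (713, 115), (371, 184), (878, 107), (722, 130), (202, 41), (220, 35), (116, 173), (91, 183), (822, 128), (234, 44), (277, 147), (126, 123), (388, 161), (363, 142), (48, 184), (792, 34), (482, 67), (559, 160), (443, 163)]]⟩,
   ⟨(0x375612840, [(1, 4, 2, 8), (8, 3, 5, 6)]), 15, [[(189, 44), (458, 162), (861, 70), (0, 6), (702, 75), (682, 113), (37, 5), (450, 111), (231, 154), (359, 71), (924, 132), (526, 0), (114, 38), (745, 12), (367, 182), (571, 156), (775, 118), (252, 183), (121, 86), (31, 111), (588, 187), (11, 51), (580, 42), (292, 18), (486, 5), (890, 119), (432, 128), (862, 65), (383, 144), (75, 135)],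
     [(183, 44), (461, 162), (862, 70), (0, 31), (706, 75), (684, 113), (40, 5), (444, 111), (234, 154), (353, 71), (920, 132), (529, 0), (117, 38), (739, 12), (361, 182), (577, 156), (771, 118), (246, 183), (124, 86), (34, 111), (594, 187), (14, 51), (568, 42), (295, 18), (484, 8), (884, 119), (426, 128), (860, 65), (386, 144), (78, 135)],
     [(186, 44), (455, 162), (860, 70), (0, 29), (698, 75), (680, 113), (43, 5), (447, 111), (228, 154), (356, 71), (922, 132), (523, 0), (111, 38), (742, 12), (364, 182), (565, 156), (773, 118), (249, 183), (118, 86), (28, 111), (582, 187), (17, 51), (574, 42), (289, 18), (485, 102), (887, 119), (429, 128), (861, 65), (380, 144), (81, 135)]]⟩,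
   ⟨(0x348560271, [(0, 1, 1, 7), (7, 4, 4, 6), (6, 8, 8, 3)]), 13, [[(678, 172), (52, 84), (185, 45), (855, 179), (848, 144), (573, 113), (264, 162), (612, 72), (794, 83), (416, 88), (310, 147), (508, 45), (926, 0), (723, 64), (200, 23), (226, 14), (11, 176), (98, 144), (581, 108), (433, 78), (366, 133), (122, 122), (659, 81), (62, 32), (922, 96), (629, 73), (816, 97), (454, 127), (724, 168), (761, 127)],
     [(674, 172), (46, 84), (188, 45), (856, 179), (851, 144), (579, 113), (267, 162), (615, 72), (796, 83), (419, 88), (313, 147), (498, 45), (927, 0), (726, 64), (203, 23), (229, 14), (14, 176), (92, 144), (587, 108), (436, 78), (369, 133), (125, 122), (653, 81), (56, 32), (924, 96), (634, 73), (812, 97), (457, 127), (727, 168), (764, 127)],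
     [(676, 172), (49, 84), (182, 45), (854, 179), (845, 144), (567, 113), (270, 162), (618, 72), (792, 83), (422, 88), (307, 147), (503, 45), (928, 0), (720, 64), (206, 23), (232, 14), (17, 176), (95, 144), (593, 108), (439, 78), (363, 133), (119, 122), (656, 81), (59, 32), (920, 96), (639, 73), (814, 97), (460, 127), (721, 168), (767, 127)]]⟩,
   ⟨(0x518247360, [(1, 6, 6, 8), (8, 5, 5, 2), (2, 3, 3, 7)]), 18, [[(336, 100), (752, 78), (689, 166), (778, 157), (784, 146), (383, 89), (929, 0), (50, 31), (849, 65), (518, 70), (125, 73), (441, 89), (704, 69), (41, 14), (465, 54), (519, 170), (69, 83), (155, 124), (930, 0), (92, 98), (761, 136), (644, 158), (312, 41), (21, 174), (875, 38), (23, 111), (39, 116), (830, 102), (3, 74), (630, 157)],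
     [(339, 100), (746, 78), (692, 166), (776, 157), (786, 146), (386, 89), (931, 0), (53, 31), (852, 65), (519, 70), (119, 73), (435, 89), (696, 69), (44, 14), (468, 54), (520, 170), (72, 83), (158, 124), (929, 148), (95, 98), (764, 136), (647, 158), (315, 41), (24, 174), (877, 38), (26, 111), (42, 116), (832, 102), (6, 74), (635, 157)],
     [(342, 100), (749, 78), (686, 166), (777, 157), (782, 146), (380, 89), (930, 38), (47, 31), (846, 65), (520, 70), (122, 73), (438, 89), (700, 69), (38, 14), (471, 54), (518, 170), (66, 83), (161, 124), (931, 148), (98, 98), (767, 136), (650, 158), (309, 41), (27, 174), (879, 38), (20, 111), (45, 116), (834, 102), (9, 74), (640, 157)]]⟩,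
   ⟨(0x810524637, [(0, 7, 7, 1), (1, 3, 3, 4), (4, 2, 2, 6)]), 10, [[(514, 52), (467, 101), (283, 38), (9, 32), (789, 183), (553, 120), (894, 121), (392, 56), (499, 49), (725, 128), (855, 63), (307, 113), (822, 7), (507, 96), (20, 92), (560, 42), (718, 73), (334, 183), (66, 70), (445, 7), (380, 95), (376, 125), (922, 142), (698, 40), (680, 109), (534, 6), (423, 9), (836, 158), (274, 126), (781, 167)],
     [(517, 52), (470, 101), (286, 38), (3, 32), (790, 183), (545, 120), (895, 121), (395, 56), (504, 49), (719, 128), (856, 63), (310, 113), (823, 7), (497, 96), (23, 92), (561, 62), (714, 73), (337, 183), (69, 70), (448, 7), (383, 95), (370, 125), (924, 142), (702, 40), (682, 109), (539, 6), (417, 9), (837, 158), (277, 126), (779, 167)],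
     [(511, 52), (464, 101), (280, 38), (6, 32), (788, 183), (549, 120), (893, 121), (389, 56), (494, 49), (722, 128), (854, 63), (313, 113), (821, 7), (502, 96), (26, 92), (558, 120), (716, 73), (340, 183), (72, 70), (442, 7), (386, 95), (373, 125), (920, 142), (706, 40), (684, 109), (544, 6), (420, 9), (838, 158), (271, 126), (780, 167)]]⟩,
   ⟨(0x167802534, [(0, 4, 1, 3), (3, 2, 2, 5), (5, 8, 6, 7)]), 19, [[(429, 21), (447, 151), (852, 9), (358, 18), (47, 69), (229, 185), (86, 77), (195, 58), (496, 47), (851, 184), (574, 184), (756, 162), (187, 69), (626, 118), (755, 103), (582, 102), (185, 161), (907, 13), (524, 76), (662, 189), (315, 105), (438, 11), (291, 65), (664, 15), (499, 64), (166, 69), (916, 83), (293, 183), (113, 46), (130, 33)],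
     [(432, 21), (450, 151), (846, 9), (352, 18), (50, 69), (232, 185), (89, 77), (198, 58), (501, 47), (845, 184), (580, 184), (757, 162), (181, 69), (628, 118), (756, 103), (588, 102), (188, 161), (913, 13), (527, 76), (664, 189), (309, 105), (441, 11), (294, 65), (666, 15), (504, 64), (169, 69), (906, 83), (296, 183), (116, 46), (133, 33)],
     [(426, 21), (444, 151), (849, 9), (355, 18), (53, 69), (226, 185), (83, 77), (192, 58), (506, 47), (848, 184), (568, 184), (755, 162), (184, 69), (624, 118), (757, 103), (594, 102), (182, 161), (917, 13), (521, 76), (666, 189), (312, 105), (435, 11), (297, 65), (662, 15), (494, 64), (163, 69), (912, 83), (290, 183), (110, 46), (127, 33)]]⟩,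
   ⟨(0x564710283, [(0, 3, 1, 8), (8, 5, 5, 7), (7, 6, 6, 4)]), 18, [[(681, 160), (388, 11), (238, 106), (638, 79), (12, 67), (699, 139), (167, 64), (450, 141), (436, 127), (736, 157), (421, 124), (566, 30), (457, 109), (819, 123), (338, 64), (567, 119), (250, 176), (313, 121), (918, 43), (928, 84), (584, 52), (331, 156), (221, 147), (924, 127), (756, 123), (195, 104), (203, 92), (923, 51), (869, 175), (518, 121)],
     [(683, 160), (391, 11), (241, 106), (643, 79), (15, 67), (703, 139), (170, 64), (444, 141), (439, 127), (734, 157), (415, 124), (572, 30), (460, 109), (820, 123), (341, 64), (573, 119), (244, 176), (307, 121), (909, 43), (926, 84), (590, 52), (325, 156), (224, 147), (920, 127), (757, 123), (198, 104), (206, 92), (925, 51), (871, 175), (519, 121)],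
     [(685, 160), (394, 11), (235, 106), (633, 79), (18, 67), (695, 139), (164, 64), (447, 141), (433, 127), (735, 157), (418, 124), (578, 30), (454, 109), (818, 123), (335, 64), (579, 119), (247, 176), (310, 121), (914, 43), (927, 84), (596, 52), (328, 156), (218, 147), (922, 127), (755, 123), (192, 104), (200, 92), (921, 51), (867, 175), (520, 121)]]⟩]

/-- Terms. -/
def antiPairTerms19 : List Term2 :=
  [⟨(0x253764810, [(2, 8, 3, 4), (4, 6, 5, 7)]), 20, [[(229, 74), (16, 108), (285, 163), (852, 130), (869, 120), (221, 29), (262, 113), (178, 174), (450, 62), (86, 105), (339, 87), (35, 178), (413, 33), (260, 146), (731, 177), (19, 165), (488, 182), (446, 48), (10, 127), (806, 169), (777, 87), (500, 59), (589, 136), (706, 29), (708, 105), (744, 37), (376, 79), (411, 143), (319, 173), (194, 49), (565, 76), (712, 3), (705, 154), (572, 58), (494, 98), (289, 54), (292,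 175), (394, 31), (69, 173), (361, 113), (837, 88), (658, 185), (573, 169), (227, 140), (802, 143), (151, 40), (351, 118), (882, 16), (647, 109), (896, 1), (885, 188), (793, 62), (63, 139), (554, 62), (163, 14), (857, 188), (822, 15), (441, 135), (492, 125), (904, 117), (478, 114), (243, 70), (639, 12)],
     [(232, 74), (10, 108), (288, 163), (846, 130), (871, 120), (224, 29), (265, 113), (172, 174), (444, 62), (89, 105), (342, 87), (29, 178), (407, 33), (254, 146), (733, 177), (22, 165), (488, 83), (449, 48), (13, 127), (809, 169), (778, 87), (505, 59), (595, 136), (698, 29), (709, 105), (738, 37), (370, 79), (414, 143), (322, 173), (197, 49), (571, 76), (710, 3), (697, 154), (578, 58), (499, 98), (292, 54), (295, 175), (388, 31), (72, 173), (364, 113), (838, 88), (661, 185), (579, 169), (230, 140), (798, 143), (145, 40), (345, 118), (883, 16), (650, 109), (899,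 1), (888, 188), (795, 62), (57, 139), (546, 62), (166, 14), (858, 188), (823, 15), (435, 135), (493, 125), (898, 117), (481, 114), (237, 70), (629, 12)],
     [(226, 74), (13, 108), (282, 163), (849, 130), (867, 120), (218, 29), (268, 113), (175, 174), (447, 62), (83, 105), (336, 87), (32, 178), (410, 33), (257, 146), (729, 177), (25, 165), (488, 56), (443, 48), (16, 127), (803, 169), (776, 87), (495, 59), (583, 136), (702, 29), (707, 105), (741, 37), (373, 79), (408, 143), (316, 173), (191, 49), (577, 76), (711, 3), (701, 154), (566, 58), (504, 98), (295, 54), (289, 175), (391, 31), (66, 173), (367, 113), (836, 88), (655, 185), (567, 169), (233, 140), (800, 143), (148, 40), (348, 118), (881, 16), (644, 109), (902, 1), (891, 188), (791, 62), (60, 139), (550, 62), (169, 14), (859, 188), (821, 15), (438, 135), (489, 125), (901, 117), (475, 114), (240, 70), (634, 12)]]⟩,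
   ⟨(0x478653201, [(0, 1, 4, 5), (5, 6, 6, 8)]), 20, [[(37, 19), (478, 58), (145, 30), (302, 184), (863, 182), (377, 59), (9, 55), (286, 64), (250, 46), (435, 146), (97, 183), (339, 100), (281, 77), (373, 127), (95, 58), (919, 48), (229, 138), (473, 25), (857, 36), (35, 156), (841, 121), (798, 182), (570, 166), (822, 89), (155, 136), (923, 71), (308, 129), (697, 85), (533, 41), (591, 8), (540, 11), (55, 35), (246, 161), (168, 136), (277, 168), (178, 69), (450, 48), (242, 119), (105, 147), (848, 49), (825, 32), (787, 109), (143, 177), (581, 58), (620, 157), (820, 63), (755, 117), (106, 73), (442, 156), (25, 154), (889, 31), (885, 62), (868, 151), (357, 170), (134, 160), (860, 43), (793, 185), (249, 176), (643, 52), (772, 40), (126, 135), (711, 166), (551, 172)],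
     [(40, 19), (481, 58), (148, 30), (305, 184), (864, 182), (371, 59), (3, 55), (280, 64), (244, 46), (438, 146), (91, 183), (342, 100), (284, 77), (376, 127), (98, 58), (910, 48), (232, 138), (472, 136), (858, 36), (29, 156), (839, 121), (800, 182), (576, 166), (823, 89), (158, 136), (925, 71), (311, 129), (701, 85), (538, 41), (597, 8), (530, 11), (58, 35), (249, 161), (171, 136), (271, 168), (172, 69), (444, 48), (236, 119), (108, 147), (851, 49), (827, 32), (783, 109), (137, 177), (587, 58), (621, 11), (818, 63), (756, 117), (100, 73), (445, 156), (19, 154), (892, 31), (888, 62), (870, 151), (360, 170), (128, 160), (861, 43), (795, 185), (252, 176), (633, 52), (774, 40), (120, 135), (712, 166), (555, 172)],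
     [(43, 19), (475, 58), (151, 30), (299, 184), (865, 182), (374, 59), (6, 55), (283, 64), (247, 46), (441, 146), (94, 183), (336, 100), (287, 77), (370, 127), (92, 58), (915, 48), (226, 138), (474, 151), (859, 36), (32, 156), (840, 121), (802, 182), (564, 166), (821, 89), (161, 136), (921, 71), (314, 129), (705, 85), (543, 41), (585, 8), (535, 11), (61, 35), (252, 161), (165, 136), (274, 168), (175, 69), (447, 48), (239, 119), (102, 147), (845, 49), (829, 32), (785, 109), (140, 177), (593, 58), (622, 147), (819, 63), (757, 117), (103, 73), (448, 156), (22, 154), (886, 31), (891, 62), (866, 151), (354, 170), (131, 160), (862, 43), (791, 185), (246, 176), (638, 52), (770, 40), (123, 135), (710, 166), (547, 172)]]⟩]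

/-- The orbit sums. -/
def antiPairOrbs : List Orb2 := [antiPairOrb0, antiPairOrb1, antiPairOrb2, antiPairOrb3, antiPairOrb4, antiPairOrb5, antiPairOrb6, antiPairOrb7, antiPairOrb8, antiPairOrb9, antiPairOrb10, antiPairOrb11, antiPairOrb12, antiPairOrb13, antiPairOrb14, antiPairOrb15, antiPairOrb16, antiPairOrb17, antiPairOrb18, antiPairOrb19, antiPairOrb20]

/-- The representatives. -/
def antiPairReps : List (List PC) := [antiPairReps0, antiPairReps1, antiPairReps2, antiPairReps3, antiPairReps4, antiPairReps5, antiPairReps6, antiPairReps7, antiPairReps8, antiPairReps9, antiPairReps10, antiPairReps11, antiPairReps12, antiPairReps13, antiPairReps14, antiPairReps15, antiPairReps16, antiPairReps17, antiPairReps18, antiPairReps19, antiPairReps20, antiPairReps21, antiPairReps22, antiPairReps23, antiPairReps24, antiPairReps25, antiPairReps26, antiPairReps27, antiPairReps28,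 antiPairReps29]

/-- The certificate. -/
def antiPairCert : Cert2 where
  stab := [(2, 1), (3, 1), (4, 1), (5, 1), (6, 1), (7, 1), (3, 2), (4, 2), (5, 2), (6, 2), (7, 2), (4, 3), (5, 3), (6, 3), (7, 3), (5, 4), (6, 4), (7, 4), (2, 5), (4, 5), (5, 5), (6, 5), (7, 5), (5, 6), (7, 6), (3, 8), (4, 8), (6, 8), (7, 8), (4, 9), (5, 9), (6, 9), (7, 9), (5, 10), (6, 10), (7, 10), (4, 11), (5, 11), (6, 11), (7, 11), (5, 12), (7, 12), (4, 14), (5, 14), (6, 14), (7, 14), (5, 15), (6, 15), (7, 15), (4, 16), (5, 16), (6, 16), (7, 16), (5, 17), (7, 17), (6, 19), (7, 19), (2, 20), (5, 20), (6, 20), (7, 20), (5, 21), (7, 21), (2, 23), (5, 23), (6, 23), (7, 23), (5, 24), (7, 24), (4, 26), (5, 26), (6, 26), (7, 26), (5, 27), (6, 27), (7, 27), (7, 28), (7, 29), (2, 31), (4, 31), (7, 31), (4, 33), (6, 33), (7, 33), (6, 34), (7, 34), (7, 35), (6, 37), (7, 37), (5, 38), (6, 38), (7, 38),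 (5, 39), (7, 39), (5, 41), (6, 41), (7, 41), (5, 42), (7, 42), (5, 44), (6, 44), (7, 44), (7, 45), (7, 46), (4, 48), (7, 48), (6, 50), (7, 50), (5, 51), (6, 51), (7, 51), (5, 52), (7, 52), (5, 54), (6, 54), (7, 54), (5, 55), (7, 55), (5, 57), (6, 57), (7, 57), (7, 58), (7, 59), (4, 61), (7, 61), (7, 63), (5, 65), (6, 65), (7, 65), (7, 66), (7, 67), (2, 69), (7, 69), (5, 71), (6, 71), (7, 71), (7, 72), (7, 73), (2, 75), (7, 75), (5, 77), (6, 77), (7, 77), (7, 78), (7, 79), (7, 81), (7, 82), (4, 86), (7, 86), (7, 87), (6, 89), (7, 89), (7, 90), (7, 92), (7, 95), (7, 97), (7, 98), (7, 100), (7, 102), (7, 103), (7, 105), (7, 107), (7, 108), (7, 112), (7, 114), (7, 116), (7, 117), (7, 119), (7, 121), (7, 122), (7, 124), (7, 126), (7, 127), (7, 131), (7, 134), (7, 135), (7, 139), (7, 141), (7, 142), (7, 146), (7, 148), (7, 149), (7, 155), (7, 158)]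
  qs := antiPairQs
  reps := antiPairReps
  orbs := antiPairOrbs
  cs := [0, 5, 28]
  terms := antiPairTerms0 ++ antiPairTerms1 ++ antiPairTerms2 ++ antiPairTerms3 ++ antiPairTerms4 ++ antiPairTerms5 ++ antiPairTerms6 ++ antiPairTerms7 ++ antiPairTerms8 ++ antiPairTerms9 ++ antiPairTerms10 ++ antiPairTerms11 ++ antiPairTerms12 ++ antiPairTerms13 ++ antiPairTerms14 ++ antiPairTerms15 ++ antiPairTerms16 ++ antiPairTerms17 ++ antiPairTerms18 ++ antiPairTerms19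

theorem antiPairTerms0OK :
    antiPairTerms0.all (termOK antiPairQs antiPairReps [0, 5, 28] antiPairOrbs) = true := by
  decide +kernel

theorem antiPairTerms1OK :
    antiPairTerms1.all (termOK antiPairQs antiPairReps [0, 5, 28] antiPairOrbs) = true := by
  decide +kernel

theorem antiPairTerms2OK :
    antiPairTerms2.all (termOK antiPairQs antiPairReps [0, 5, 28] antiPairOrbs) = true := by
  decide +kernel

theorem antiPairTerms3OK :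
    antiPairTerms3.all (termOK antiPairQs antiPairReps [0, 5, 28] antiPairOrbs) = true := by
  decide +kernel

theorem antiPairTerms4OK :
    antiPairTerms4.all (termOK antiPairQs antiPairReps [0, 5, 28] antiPairOrbs) = true := by
  decide +kernel

theorem antiPairTerms5OK :
    antiPairTerms5.all (termOK antiPairQs antiPairReps [0, 5, 28] antiPairOrbs) = true := by
  decide +kernel

theorem antiPairTerms6OK :
    antiPairTerms6.all (termOK antiPairQs antiPairReps [0, 5, 28] antiPairOrbs) = true := by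
  decide +kernel

theorem antiPairTerms7OK :
    antiPairTerms7.all (termOK antiPairQs antiPairReps [0, 5, 28] antiPairOrbs) = true := by
  decide +kernel

theorem antiPairTerms8OK :
    antiPairTerms8.all (termOK antiPairQs antiPairReps [0, 5, 28] antiPairOrbs) = true := by
  decide +kernel

theorem antiPairTerms9OK :
    antiPairTerms9.all (termOK antiPairQs antiPairReps [0, 5, 28] antiPairOrbs) = true := by
  decide +kernel

theorem antiPairTerms10OK :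
    antiPairTerms10.all (termOK antiPairQs antiPairReps [0, 5, 28] antiPairOrbs) = true := by
  decide +kernel

theorem antiPairTerms11OK :
    antiPairTerms11.all (termOK antiPairQs antiPairReps [0, 5, 28] antiPairOrbs) = true := by
  decide +kernel

theorem antiPairTerms12OK :
    antiPairTerms12.all (termOK antiPairQs antiPairReps [0, 5, 28] antiPairOrbs) = true := by
  decide +kernel

theorem antiPairTerms13OK :
    antiPairTerms13.all (termOK antiPairQs antiPairReps [0, 5, 28] antiPairOrbs) = true := by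
  decide +kernel

theorem antiPairTerms14OK :
    antiPairTerms14.all (termOK antiPairQs antiPairReps [0, 5, 28] antiPairOrbs) = true := by
  decide +kernel

theorem antiPairTerms15OK :
    antiPairTerms15.all (termOK antiPairQs antiPairReps [0, 5, 28] antiPairOrbs) = true := by
  decide +kernel

theorem antiPairTerms16OK :
    antiPairTerms16.all (termOK antiPairQs antiPairReps [0, 5, 28] antiPairOrbs) = true := by
  decide +kernel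

theorem antiPairTerms17OK :
    antiPairTerms17.all (termOK antiPairQs antiPairReps [0, 5, 28] antiPairOrbs) = true := by
  decide +kernel

theorem antiPairTerms18OK :
    antiPairTerms18.all (termOK antiPairQs antiPairReps [0, 5, 28] antiPairOrbs) = true := by
  decide +kernel

theorem antiPairTerms19OK :
    antiPairTerms19.all (termOK antiPairQs antiPairReps [0, 5, 28] antiPairOrbs) = true := by
  decide +kernel

theorem antiPairBase : baseOK antiPairTarget antiPairHyps antiPairCert = true := by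
  decide +kernel

theorem antiPairCover : coverOK 932 antiPairCert.terms = true := by
  decide +kernel

theorem antiPairTerms :
    antiPairCert.terms.all (termOK antiPairCert.qs antiPairCert.reps antiPairCert.cs antiPairCert.orbs) = true := by
  show (antiPairTerms0 ++ antiPairTerms1 ++ antiPairTerms2 ++ antiPairTerms3 ++ antiPairTerms4 ++ antiPairTerms5 ++ antiPairTerms6 ++ antiPairTerms7 ++ antiPairTerms8 ++ antiPairTerms9 ++ antiPairTerms10 ++ antiPairTerms11 ++ antiPairTerms12 ++ antiPairTerms13 ++ antiPairTerms14 ++ antiPairTerms15 ++ antiPairTerms16 ++ antiPairTerms17 ++ antiPairTerms18 ++ antiPairTerms19).all (termOK antiPairQs antiPairReps [0, 5, 28] antiPairOrbs) = true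
  simp only [List.all_append, Bool.and_eq_true]
  exact ⟨⟨⟨⟨⟨⟨⟨⟨⟨⟨⟨⟨⟨⟨⟨⟨⟨⟨⟨antiPairTerms0OK, antiPairTerms1OK⟩, antiPairTerms2OK⟩, antiPairTerms3OK⟩, antiPairTerms4OK⟩, antiPairTerms5OK⟩, antiPairTerms6OK⟩, antiPairTerms7OK⟩, antiPairTerms8OK⟩, antiPairTerms9OK⟩, antiPairTerms10OK⟩, antiPairTerms11OK⟩, antiPairTerms12OK⟩, antiPairTerms13OK⟩, antiPairTerms14OK⟩, antiPairTerms15OK⟩, antiPairTerms16OK⟩, antiPairTerms17OK⟩, antiPairTerms18OK⟩, antiPairTerms19OK⟩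

end CfsgLib.SolvCent
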