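import Cfsg.Agent.Lib.SolvCent.Base
import Cfsg.Agent.Lib.SolvCent.Sound

/-!
# Lists normalised by elements of small order
-/

set_option autoImplicit false

namespace CfsgLib.SolvCent

variable {n : ℕ}

/-- Every entry of `S` lies, with its scalar, among the products built from `T`. -/
def subOK (p n : ℕ) (S : List (List ℕ × ℕ)) (st : List (ℕ × ℕ)) (T : List (List ℕ × ℕ)) : Bool :=
  S.all fun x => (buildStab p n st ((List.range n, 1) :: T)).any fun q => q.1 == x.1 && q.2 % p == x.2 % p

/-- The element with images `ly` normalises the list, up to the listed products. -/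
def normOK (p n : ℕ) (S : List (List ℕ × ℕ)) (st : List (ℕ × ℕ)) (ly : List ℕ) : Bool :=
  S.all fun x => (buildStab p n st ((List.range n, 1) :: S)).any fun q =>
    comp x.1 ly == comp ly q.1 && q.2 % p == x.2 % p

section Module

variable {V : Type*} [AddCommGroup V] [DistribMulAction (alternatingGroup (Fin n)) V]

theorem stabOK_of_sfix {p : ℕ} (hp : ∀ x : V, p • x = 0) {S : List (List ℕ × ℕ)}
    (hS : ∀ x ∈ S, Valid n x.1) {w : V} (hw : SFix n S w) (st : List (ℕ × ℕ)) :
    StabOK n (buildStab p n st ((List.range n, 1) :: S)) w :=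
  stabOK_buildStab hp st _ fun x hx => by
    rcases List.mem_cons.1 hx with hx | hx
    · subst hx
      exact ⟨valid_range, fun a ha => by rw [imgL_injective (ha.trans imgL_one.symm), one_smul, one_nsmul]⟩
    · exact ⟨hS x hx, hw x hx⟩

/-- A list whose products contain a killed list is killed. -/
theorem Killed.of_sub {p : ℕ} (hp : ∀ x : V, p • x = 0) {S T : List (List ℕ × ℕ)} (h : Killed n V S)
    (hT : ∀ x ∈ T, Valid n x.1) (st : List (ℕ × ℕ)) (hsub : subOK p n S st T = true) : Killed n V T := by
  intro w hw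
  refine h w fun x hx a ha => ?_
  simp only [subOK, List.all_eq_true, List.any_eq_true, Bool.and_eq_true, beq_iff_eq] at hsub
  obtain ⟨q, hq, hq1, hq2⟩ := hsub x hx
  obtain ⟨-, hq3⟩ := stabOK_of_sfix hp hT hw st q hq
  rw [hq3 a (ha.trans hq1.symm), ← mod_nsmul' hp q.2, hq2, mod_nsmul' hp]

/-- A normalising element maps eigenvectors to eigenvectors. -/
theorem sfix_smul {p : ℕ} (hp : ∀ x : V, p • x = 0) {S : List (List ℕ × ℕ)}
    (hS : ∀ x ∈ S, Valid n x.1) {ly : List ℕ} {y : alternatingGroup (Fin n)} (hy : imgL y = ly)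
    (st : List (ℕ × ℕ)) (hc : normOK p n S st ly = true) {w : V} (hw : SFix n S w) : SFix n S (y • w) := by
  intro x hx a ha
  simp only [normOK, List.all_eq_true, List.any_eq_true, Bool.and_eq_true, beq_iff_eq] at hc
  obtain ⟨q, hq, hrel, hq2⟩ := hc x hx
  obtain ⟨⟨b, hb⟩, hq3⟩ := stabOK_of_sfix hp hS hw st q hq
  have hay : a * y = y * b := imgL_injective (by rw [imgL_mul, imgL_mul, hy, ha, hb]; exact hrel)
  rw [← mul_smul, hay, mul_smul, hq3 b hb, ← mod_nsmul' hp q.2, hq2, mod_nsmul' hp, act_nsmul]

/-- The eigenvectors of a list. -/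
def eigSub (n : ℕ) (V : Type*) [AddCommGroup V] [DistribMulAction (alternatingGroup (Fin n)) V]
    (S : List (List ℕ × ℕ)) : AddSubgroup V where
  carrier := {v | SFix n S v}
  zero_mem' := fun x _ a _ => by simp
  add_mem' := fun {u v} hu hv x hx a ha => by rw [smul_add, hu x hx a ha, hv x hx a ha, nsmul_add]
  neg_mem' := fun {u} hu x hx a ha => by rw [smul_neg, hu x hx a ha, neg_nsmul]

/-- If no non-zero eigenvector is also fixed by `y` of order `p` normalising the list, there is none. -/
theorem Killed.of_norm [Finite V] {p : ℕ} [hpp : Fact p.Prime] (hp : ∀ x : V, p • x = 0)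
    {S : List (List ℕ × ℕ)} (hS : ∀ x ∈ S, Valid n x.1) {ly : List ℕ} (y : alternatingGroup (Fin n))
    (hy : imgL y = ly) (hyp : y ^ p = 1) (st : List (ℕ × ℕ)) (hc : normOK p n S st ly = true)
    (h : Killed n V (S ++ [(ly, 1)])) : Killed n V S := by
  classical
  intro w hw
  by_contra hw0
  let W : AddSubgroup V := eigSub n V S
  let f : W → W := fun v => ⟨y • (v : V), sfix_smul hp hS hy st hc v.2⟩
  have hf : Function.Injective f := fun u v huv =>
    Subtype.ext (MulAction.injective y (congrArg Subtype.val huv))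
  let σ : Equiv.Perm W := Equiv.ofBijective f hf.bijective_of_finite
  have hpow : ∀ (m : ℕ) (v : W), ((σ ^ m) v : V) = y ^ m • (v : V) := by
    intro m
    induction m with
    | zero => intro v; simp
    | succ m ih =>
        intro v
        rw [pow_succ', Equiv.Perm.mul_apply, pow_succ', mul_smul, ← ih v]
        rfl
  have hσ : σ ^ p ^ 1 = 1 := by
    refine Equiv.ext fun v => Subtype.ext ?_
    rw [pow_one, hpow, hyp, one_smul]; rfl
  have := Fintype.ofFinite W
  have hdiv : p ∣ Fintype.card W := by
    have h1 : addOrderOf (⟨w, hw⟩ : W) = p :=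
      addOrderOf_eq_prime (Subtype.ext (hp w)) fun h => hw0 (congrArg Subtype.val h)
    rw [← h1]; exact addOrderOf_dvd_card
  obtain ⟨v, hv, hv0⟩ :=
    Equiv.Perm.exists_fixed_point_of_prime' hdiv hσ (a := 0) (Subtype.ext (smul_zero y))
  refine hv0 (Subtype.ext (h (v : V) ?_))
  intro x hx a ha
  rcases List.mem_append.1 hx with hx | hx
  · exact v.2 x hx a ha
  · rw [List.mem_singleton.1 hx] at ha ⊢
    rw [one_nsmul, imgL_injective (ha.trans hy.symm)]
    exact congrArg Subtype.val hv

/-- In characteristic two: if none of the four subgroups of order three of `⟨y, z⟩` has a non-zero fixed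
point among the vectors fixed by the list, then there is no such vector. -/
theorem Killed.of_ninths (h2 : ∀ x : V, 2 • x = 0) {S : List (List ℕ × ℕ)} (hS : ∀ x ∈ S, Valid n x.1)
    {ly lz lu lt : List ℕ} (y z : alternatingGroup (Fin n)) (hy : imgL y = ly) (hz : imgL z = lz)
    (hy3 : y ^ 3 = 1) (hz3 : z ^ 3 = 1) (hyz : y * z = z * y) (hu : imgL (y * z) = lu)
    (ht : imgL (y * z * z) = lt) (st : List (ℕ × ℕ)) (hcy : normOK 2 n S st ly = true)
    (hcz : normOK 2 n S st lz = true) (ky : Killed n V (S ++ [(ly, 1)])) (kz : Killed n V (S ++ [(lz, 1)]))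
    (ku : Killed n V (S ++ [(lu, 1)])) (kt : Killed n V (S ++ [(lt, 1)])) : Killed n V S := by
  have hdd : ∀ x : V, x + x = 0 := fun x => by rw [← two_nsmul, h2]
  have hext : ∀ (g : alternatingGroup (Fin n)) (lg : List ℕ), imgL g = lg → ∀ v : V,
      SFix n S v → g • v = v → SFix n (S ++ [(lg, 1)]) v := by
    intro g lg hg v hv hfix x hx a ha
    rcases List.mem_append.1 hx with hx | hx
    · exact hv x hx a ha
    · rw [List.mem_singleton.1 hx] at ha ⊢
      rw [one_nsmul, imgL_injective (ha.trans hg.symm), hfix]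
  intro w hw
  have hyw : ∀ v : V, SFix n S v → SFix n S (y • v) := fun v => sfix_smul h2 hS hy st hcy
  have hzw : ∀ v : V, SFix n S v → SFix n S (z • v) := fun v => sfix_smul h2 hS hz st hcz
  have hadd : ∀ u v : V, SFix n S u → SFix n S v → SFix n S (u + v) := fun u v hu hv =>
    (eigSub n V S).add_mem hu hv
  -- the sum over a subgroup of order three vanishes
  have tsum : ∀ (g : alternatingGroup (Fin n)) (lg : List ℕ), imgL g = lg → g ^ 3 = 1 →
      (∀ v : V, SFix n S v → SFix n S (g • v)) → Killed n V (S ++ [(lg, 1)]) →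
      ∀ v : V, SFix n S v → g • g • v = v + g • v := by
    intro g lg hg hg3 hgw kg v hv
    have h0 := kg (v + g • v + g • g • v) (hext g lg hg _
      (hadd _ _ (hadd _ _ hv (hgw _ hv)) (hgw _ (hgw _ hv))) (by
        have hg3' : g • g • g • v = v := by rw [← mul_smul, ← mul_smul, ← pow_three', hg3, one_smul]
        rw [smul_add, smul_add, hg3']; abel))
    calc g • g • v = (v + g • v + (v + g • v)) + g • g • v := by rw [hdd, zero_add]
      _ = (v + g • v) + (v + g • v + g • g • v) := by abel
      _ = v + g • v := by rw [h0, add_zero]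
  have hzy : ∀ v : V, z • y • v = y • z • v := fun v => by rw [← mul_smul, ← mul_smul, hyz]
  have hyzw : ∀ v : V, SFix n S v → SFix n S ((y * z) • v) := fun v hv => by
    rw [mul_smul]; exact hyw _ (hzw _ hv)
  have hu3 : (y * z) ^ 3 = 1 := by
    have hc : Commute y z := hyz
    rw [hc.mul_pow, hy3, hz3, one_mul]
  -- the two elements agree
  have heq : ∀ v : V, SFix n S v → y • v = z • v := by
    intro v hv
    have h1 := tsum (y * z) lu hu hu3 hyzw ku v hv
    rw [mul_smul, mul_smul, hzy, ← mul_smul y y, mul_smul, tsum z lz hz hz3 hzw kz v hv,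
      tsum y ly hy hy3 hyw ky (v + z • v) (hadd _ _ hv (hzw _ hv)), smul_add] at h1
    have h2' : y • v + z • v = 0 := by
      calc y • v + z • v = (v + z • v + (y • v + y • z • v)) + (v + y • z • v) := by
            calc y • v + z • v = (v + v) + (y • z • v + y • z • v) + (y • v + z • v) := by
                  rw [hdd, hdd, zero_add, zero_add]
              _ = _ := by abel
        _ = (v + y • z • v) + (v + y • z • v) := by rw [h1]
        _ = 0 := hdd _
    calc y • v = y • v + (z • v + z • v) := by rw [hdd, add_zero]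
      _ = (y • v + z • v) + z • v := by abel
      _ = z • v := by rw [h2', zero_add]
  refine kt w (hext (y * z * z) lt ht w hw ?_)
  rw [mul_smul, mul_smul, ← heq (z • w) (hzw _ hw), ← heq w hw, ← mul_smul, ← mul_smul,
    ← pow_three', hy3, one_smul]

end Module

end CfsgLib.SolvCent
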