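import Cfsg.Agent.Lib.SolvCent.Check
import Cfsg.Agent.Lib.SolvCent.Sound
import Mathlib.Data.List.Perm.Basic

/-!
# A checker for sparse certificates on modules of A9 in characteristic 2

A vector `v` fixed by a list `Q0` is killed as soon as some sum of orbit sums of killed lists,
symmetrised by known stabilising elements, covers the class of `v` an odd number of times and every
other class an even number of times.
-/

set_option autoImplicit false
set_option linter.unusedSectionVars false
set_option linter.style.haveILetI false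

namespace CfsgLib.SolvCent

/-- Exchange of two points. -/
def swN (a b x : ℕ) : ℕ := if x = a then b else if x = b then a else x

/-- The product of two transpositions as a list of images. -/
def tpL : ℕ × ℕ × ℕ × ℕ → List ℕ
  | (a, b, c, d) =>
    if a < 9 ∧ b < 9 ∧ c < 9 ∧ d < 9 ∧ a ≠ b ∧ c ≠ d then
      (List.range 9).map fun x => swN a b (swN c d x)
    else List.range 9

/-- A product of pairs of transpositions. -/
def mkP : List (ℕ × ℕ × ℕ × ℕ) → List ℕ
  | [] => List.range 9
  | x :: r => comp (tpL x) (mkP r)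

theorem valid_tpL (x : ℕ × ℕ × ℕ × ℕ) : Valid 9 (tpL x) := by
  obtain ⟨a, b, c, d⟩ := x
  simp only [tpL]
  split_ifs with h
  · obtain ⟨ha, hb, hc, hd, hab, hcd⟩ := h
    have hab' : (⟨a, ha⟩ : Fin 9) ≠ ⟨b, hb⟩ := fun e => hab (congrArg Fin.val e)
    have hcd' : (⟨c, hc⟩ : Fin 9) ≠ ⟨d, hd⟩ := fun e => hcd (congrArg Fin.val e)
    refine ⟨⟨Equiv.swap ⟨a, ha⟩ ⟨b, hb⟩ * Equiv.swap ⟨c, hc⟩ ⟨d, hd⟩, ?_⟩, ?_⟩
    · rw [Equiv.Perm.mem_alternatingGroup, map_mul, Equiv.Perm.sign_swap hab', Equiv.Perm.sign_swap hcd']
      rfl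
    · apply List.ext_getElem (by simp [imgL])
      intro i h1 h2
      simp only [imgL, List.getElem_ofFn, List.getElem_map, List.getElem_range, Equiv.Perm.mul_apply,
        Equiv.swap_apply_def, swN, Fin.ext_iff]
      split_ifs <;> simp_all
  · exact valid_range

theorem valid_mkP : ∀ l : List (ℕ × ℕ × ℕ × ℕ), Valid 9 (mkP l)
  | [] => valid_range
  | x :: r => valid_comp (valid_tpL x) (valid_mkP r)

/-- The image of a point under a permutation written in base 16. -/
def apN (p i : ℕ) : ℕ := (p >>> (4 * i)) % 16

/-- The list of images of a permutation written in base 16. -/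
def decP (p : ℕ) : List ℕ := (List.range 9).map (apN p)

/-- The number of the identity. -/
def idN : ℕ := 0x876543210

/-- A permutation written in base 16 together with a witness that it is even. -/
abbrev PC := ℕ × List (ℕ × ℕ × ℕ × ℕ)

/-- The witness is correct. -/
def pcOK (x : PC) : Bool := mkP x.2 == decP x.1

theorem valid_of_pcOK {x : PC} (h : pcOK x = true) : Valid 9 (decP x.1) := by
  rw [pcOK, beq_iff_eq] at h
  exact h ▸ valid_mkP x.2

/-- An orbit sum, fixed by a hypothesis list. -/
structure Orb2 where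
  si : ℕ
  els : List PC
  moves : List (List (ℕ × ℕ))

/-- A translated orbit sum with its classes under the symmetrising elements. -/
structure Term2 where
  g : PC
  o : ℕ
  rows : List (List (ℕ × ℕ))

/-- The certificate data; long lists are stored in chunks of length 32. -/
structure Cert2 where
  stab : List (ℕ × ℕ)
  qs : List (List ℕ)
  reps : List (List PC)
  orbs : List Orb2
  cs : List ℕ
  terms : List Term2

/-- An entry of a chunked list. -/
def qel (Qs : List (List ℕ)) (q : ℕ) : ℕ := (Qs.getD (q / 32) []).getD (q % 32) idN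

/-- An entry of a chunked list of witnessed permutations. -/
def rel (R : List (List PC)) (j : ℕ) : ℕ := ((R.getD (j / 32) []).getD (j % 32) (idN, [])).1

/-- The entry of an orbit list. -/
def oel (els : List PC) (j : ℕ) : ℕ := (els.getD j (idN, [])).1

/-- `l` after `x` equals `r` after `q`, at one point. -/
def eqAt (l x r q i : ℕ) : Bool := apN l (apN x i) == apN r (apN q i)

/-- `l` after `x` equals `r` after `q`. -/
def eqComp (l x r q : ℕ) : Bool :=
  eqAt l x r q 0 && eqAt l x r q 1 && eqAt l x r q 2 && eqAt l x r q 3 && eqAt l x r q 4 &&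
    eqAt l x r q 5 && eqAt l x r q 6 && eqAt l x r q 7 && eqAt l x r q 8

/-- `c` after `g` after `x` equals `r` after `q`, at one point. -/
def eqAt₃ (c g x r q i : ℕ) : Bool := apN c (apN g (apN x i)) == apN r (apN q i)

/-- `c` after `g` after `x` equals `r` after `q`. -/
def eqComp₃ (c g x r q : ℕ) : Bool :=
  eqAt₃ c g x r q 0 && eqAt₃ c g x r q 1 && eqAt₃ c g x r q 2 && eqAt₃ c g x r q 3 && eqAt₃ c g x r q 4 &&
    eqAt₃ c g x r q 5 && eqAt₃ c g x r q 6 && eqAt₃ c g x r q 7 && eqAt₃ c g x r q 8

/-- A list of images as a number in base 16. -/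
def encP : List ℕ → ℕ
  | [] => 0
  | a :: r => a + 16 * encP r

/-- One generator permutes the summands of an orbit sum. -/
def moveOK (Qs : List (List ℕ)) (els : List PC) (l : List ℕ) (mv : List (ℕ × ℕ)) : Bool :=
  decP (encP l) == l && decide (mv.length = els.length) &&
    (mv.map Prod.fst).isPerm (List.range els.length) &&
    (els.zip mv).all fun x => eqComp (encP l) x.1.1 (oel els x.2.1) (qel Qs x.2.2)

/-- Check of an orbit sum. -/
def orbOK (Qs : List (List ℕ)) (HS : List (List (List ℕ × ℕ))) (O : Orb2) : Bool :=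
  decide (O.si < HS.length) && O.els.all pcOK &&
    decide (O.moves.length = (HS.getD O.si []).length) &&
    ((HS.getD O.si []).zip O.moves).all fun x => x.1.2 == 1 && moveOK Qs O.els x.1.1 x.2

/-- Check of the classes of one image of a translated orbit sum. -/
def rowOK (Qs : List (List ℕ)) (R : List (List PC)) (els : List PC) (c g : ℕ) (row : List (ℕ × ℕ)) : Bool :=
  decide (row.length = els.length) &&
    (els.zip row).all fun x => eqComp₃ c g x.1.1 (rel R x.2.1) (qel Qs x.2.2)

/-- Check of a term. -/
def termOK (Qs : List (List ℕ)) (R : List (List PC)) (cs : List ℕ) (orbs : List Orb2) (T : Term2) : Bool :=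
  pcOK T.g && decide (T.o < orbs.length) && decide (T.rows.length = cs.length) &&
    (cs.zip T.rows).all fun x => rowOK Qs R (orbs.getD T.o ⟨0, [], []⟩).els (qel Qs x.1) T.g.1 x.2

/-- The classes are counted modulo two. -/
def parMask : List ℕ → ℕ
  | [] => 0
  | j :: r => (2 ^ j) ^^^ parMask r

/-- The classes occurring in a list of terms. -/
def allJs (Ts : List Term2) : List ℕ := Ts.flatMap fun T => T.rows.flatMap fun r => r.map Prod.fst

/-- The classes are in range and the vector `v` is covered an odd number of times, every other class an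
even number of times. -/
def coverOK (N : ℕ) (Ts : List Term2) : Bool :=
  (allJs Ts).all (fun j => decide (j < N)) && parMask (allJs Ts) == 1

/-- The check of the stabiliser, the representatives and the orbit sums. -/
def baseOK (Q0 : List (List ℕ × ℕ)) (HS : List (List (List ℕ × ℕ))) (C : Cert2) : Bool :=
  ((buildStab 2 9 C.stab ((List.range 9, 1) :: Q0)).map Prod.fst == C.qs.flatten.map decP) &&
    C.reps.flatten.all pcOK && (rel C.reps 0 == idN) && C.orbs.all (orbOK C.qs HS)

theorem apN_eq_getD {p i : ℕ} (h : i < 9) : (decP p).getD i 0 = apN p i := by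
  rw [decP, List.getD_eq_getElem _ _ (by simpa using h)]
  simp

theorem decP_idN : decP idN = List.range 9 := by decide +kernel

theorem comp_decP {f g : ℕ} (hg : Valid 9 (decP g)) :
    comp (decP f) (decP g) = (List.range 9).map fun i => apN f (apN g i) := by
  obtain ⟨a, ha⟩ := hg
  apply List.ext_getElem (by simp [comp, decP])
  intro i h1 h2
  have hi : i < 9 := by simpa [comp, decP] using h1
  have hlt : apN g i < 9 := by
    have := congrArg (fun L => L.getD i 0) ha
    simp only [apN_eq_getD hi] at this
    rw [← this, imgL, List.getD_eq_getElem _ _ (by simpa using hi), List.getElem_ofFn]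
    exact Fin.isLt _
  simp only [comp, List.getElem_map, List.getElem_range]
  rw [show (decP g)[i]'(by simpa [decP] using hi) = apN g i by simp [decP], apN_eq_getD hlt]

theorem comp_eq_of_eqComp {l x r q : ℕ} (hx : Valid 9 (decP x)) (hq : Valid 9 (decP q))
    (h : eqComp l x r q = true) : comp (decP l) (decP x) = comp (decP r) (decP q) := by
  rw [comp_decP hx, comp_decP hq]
  simp only [eqComp, eqAt, Bool.and_eq_true, beq_iff_eq] at h
  obtain ⟨⟨⟨⟨⟨⟨⟨⟨h0, h1⟩, h2⟩, h3⟩, h4⟩, h5⟩, h6⟩, h7⟩, h8⟩ := h
  refine List.map_congr_left fun i hi => ?_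
  rw [List.mem_range] at hi
  interval_cases i <;> assumption

theorem apN_comp {g x i : ℕ} (hi : i < 9) (hx : Valid 9 (decP x)) :
    (comp (decP g) (decP x)).getD i 0 = apN g (apN x i) := by
  rw [comp_decP hx, List.getD_eq_getElem _ _ (by simpa using hi)]
  simp

theorem comp_eq_of_eqComp₃ {c g x r q : ℕ} (hg : Valid 9 (decP g)) (hx : Valid 9 (decP x))
    (hq : Valid 9 (decP q)) (h : eqComp₃ c g x r q = true) :
    comp (comp (decP c) (decP g)) (decP x) = comp (decP r) (decP q) := by
  rw [comp_decP hg, comp_decP hq]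
  simp only [eqComp₃, eqAt₃, Bool.and_eq_true, beq_iff_eq] at h
  obtain ⟨⟨⟨⟨⟨⟨⟨⟨h0, h1⟩, h2⟩, h3⟩, h4⟩, h5⟩, h6⟩, h7⟩, h8⟩ := h
  obtain ⟨a, ha⟩ := hx
  apply List.ext_getElem (by simp [comp, decP])
  intro i h1' h2'
  have hi : i < 9 := by simpa [comp, decP] using h1'
  have hlt : apN x i < 9 := by
    have := congrArg (fun L => L.getD i 0) ha
    simp only [apN_eq_getD hi] at this
    rw [← this, imgL, List.getD_eq_getElem _ _ (by simpa using hi), List.getElem_ofFn]
    exact Fin.isLt _
  simp only [comp, List.getElem_map, List.getElem_range]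
  rw [show (decP x)[i]'(by simpa [decP] using hi) = apN x i by simp [decP],
    List.getD_eq_getElem _ _ (by simpa using hlt)]
  simp only [List.getElem_map, List.getElem_range]
  interval_cases i <;> assumption

section Sound

variable {V : Type*} [AddCommGroup V] [DistribMulAction (alternatingGroup (Fin 9)) V]

/-- The sum of the vectors selected by the binary digits of `a`. -/
def selSum (e : ℕ → V) (N a : ℕ) : V := ∑ i ∈ Finset.range N, if a.testBit i then e i else 0

theorem selSum_xor (h2 : ∀ x : V, 2 • x = 0) (e : ℕ → V) (N a b : ℕ) :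
    selSum e N (a ^^^ b) = selSum e N a + selSum e N b := by
  rw [selSum, selSum, selSum, ← Finset.sum_add_distrib]
  refine Finset.sum_congr rfl fun i _ => ?_
  rw [Nat.testBit_xor]
  cases a.testBit i <;> cases b.testBit i <;> simp
  rw [← two_nsmul, h2]

theorem selSum_two_pow (e : ℕ → V) {N j : ℕ} (hj : j < N) : selSum e N (2 ^ j) = e j := by
  rw [selSum, Finset.sum_eq_single j]
  · simp [Nat.testBit_two_pow_self]
  · intro i _ hij
    simp [Nat.testBit_two_pow_of_ne hij.symm]
  · intro h; exact absurd (Finset.mem_range.2 hj) h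

theorem selSum_parMask (h2 : ∀ x : V, 2 • x = 0) (e : ℕ → V) (N : ℕ) :
    ∀ l : List ℕ, (∀ j ∈ l, j < N) → selSum e N (parMask l) = (l.map e).sum
  | [], _ => by simp [parMask, selSum]
  | j :: r, h => by
      rw [parMask, selSum_xor h2, selSum_two_pow e (h j (List.mem_cons_self)),
        selSum_parMask h2 e N r fun i hi => h i (List.mem_cons_of_mem _ hi), List.map_cons, List.sum_cons]

theorem eltOf_comp {f g : List ℕ} (hf : Valid 9 f) (hg : Valid 9 g) :
    eltOf 9 (comp f g) = eltOf 9 f * eltOf 9 g := by
  apply imgL_injective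
  rw [imgL_eltOf (n := 9) (valid_comp hf hg), imgL_mul, imgL_eltOf (n := 9) hf, imgL_eltOf (n := 9) hg]

theorem eltOf_range : eltOf 9 (List.range 9) = 1 := by
  apply imgL_injective
  rw [imgL_eltOf (n := 9) valid_range, imgL_one]

/-- Two lists linked entry by entry give equal sums. -/
theorem sum_zip_eq {α β : Type*} (f : α → V) (g : β → V) :
    ∀ (as : List α) (bs : List β), as.length = bs.length → (∀ x ∈ as.zip bs, f x.1 = g x.2) →
      (as.map f).sum = (bs.map g).sum
  | [], [], _, _ => rfl
  | [], _ :: _, h, _ => by simp at h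
  | _ :: _, [], h, _ => by simp at h
  | a :: as, b :: bs, h, hx => by
      simp only [List.map_cons, List.sum_cons]
      rw [hx (a, b) (by simp), sum_zip_eq f g as bs (by simpa using h) fun x hxm => hx x (by simp [hxm])]

theorem smul_list_sum' (a : alternatingGroup (Fin 9)) :
    ∀ l : List V, a • l.sum = (l.map (a • ·)).sum
  | [] => by simp
  | x :: r => by simp [smul_add, smul_list_sum' a r]

/-- The main theorem: a checked sparse certificate kills `Q0`. -/
theorem killed_of_check2 (h2 : ∀ x : V, 2 • x = 0) {Q0 : List (List ℕ × ℕ)}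
    {HS : List (List (List ℕ × ℕ))} (C : Cert2) (hQ0 : ∀ x ∈ Q0, Valid 9 x.1)
    (hHS : ∀ S ∈ HS, Killed 9 V S) (hb : baseOK Q0 HS C = true)
    (hterms : C.terms.all (termOK C.qs C.reps C.cs C.orbs) = true)
    (hcov : ∃ N, coverOK N C.terms = true) : Killed 9 V Q0 := by
  intro v hv
  obtain ⟨N, hcov⟩ := hcov
  simp only [baseOK, Bool.and_eq_true, beq_iff_eq, List.all_eq_true] at hb
  simp only [coverOK, Bool.and_eq_true, beq_iff_eq, decide_eq_true_eq, List.all_eq_true] at hcov
  simp only [List.all_eq_true] at hterms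
  obtain ⟨⟨⟨hqs, hreps⟩, hR0⟩, horbs⟩ := hb
  obtain ⟨hlt, hmask⟩ := hcov
  by_contra hv0
  have hQ : StabOK 9 (buildStab 2 9 C.stab ((List.range 9, 1) :: Q0)) v := by
    refine stabOK_buildStab h2 _ _ fun x hx => ?_
    rcases List.mem_cons.1 hx with hx | hx
    · subst hx
      exact ⟨valid_range, fun a ha => by rw [imgL_injective (ha.trans imgL_one.symm), one_smul, one_nsmul]⟩
    · exact ⟨hQ0 x hx, hv x hx⟩
  have hq : ∀ q, Valid 9 (decP (qel C.qs q)) ∧ eltOf 9 (decP (qel C.qs q)) • v = v := by
    intro q
    have hid : Valid 9 (decP idN) ∧ eltOf 9 (decP idN) • v = v := by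
      rw [decP_idN, eltOf_range, one_smul]; exact ⟨valid_range, rfl⟩
    by_cases hm : qel C.qs q ∈ C.qs.flatten
    · have hm' : decP (qel C.qs q) ∈ (buildStab 2 9 C.stab ((List.range 9, 1) :: Q0)).map Prod.fst := by
        rw [hqs]; exact List.mem_map_of_mem hm
      obtain ⟨⟨l, c⟩, hx, hxe⟩ := List.mem_map.1 hm'
      obtain ⟨hval, hfix⟩ := hQ _ hx
      simp only at hxe hval hfix
      rw [← hxe]
      refine ⟨hval, ?_⟩
      have h1 := hfix _ (imgL_eltOf (n := 9) hval)
      rw [h1, ← mod_nsmul' h2]
      rcases Nat.mod_two_eq_zero_or_one c with e | e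
      · exfalso
        rw [← mod_nsmul' h2, e, zero_nsmul] at h1
        exact hv0 ((smul_eq_zero_iff_eq _).1 h1)
      · rw [e, one_nsmul]
    · have e : qel C.qs q = idN := by
        by_contra hne
        refine hm ?_
        simp only [qel] at hne ⊢
        by_cases h1 : q / 32 < C.qs.length
        · rw [List.getD_eq_getElem _ _ h1] at hne ⊢
          by_cases h2 : q % 32 < C.qs[q / 32].length
          · rw [List.getD_eq_getElem _ _ h2]
            exact List.mem_flatten.2 ⟨_, List.getElem_mem h1, List.getElem_mem h2⟩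
          · exact absurd (List.getD_eq_default _ _ (Nat.le_of_not_lt h2)) hne
        · rw [List.getD_eq_default _ _ (Nat.le_of_not_lt h1)] at hne
          exact absurd rfl hne
      rw [e]; exact hid
  have hrel : ∀ j, Valid 9 (decP (rel C.reps j)) := by
    intro j
    have hid : Valid 9 (decP ((idN, []) : PC).1) := by rw [decP_idN]; exact valid_range
    simp only [rel]
    by_cases h1 : j / 32 < C.reps.length
    · rw [List.getD_eq_getElem _ _ h1]
      by_cases h2 : j % 32 < C.reps[j / 32].length
      · rw [List.getD_eq_getElem _ _ h2]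
        exact valid_of_pcOK (hreps _ (List.mem_flatten.2 ⟨_, List.getElem_mem h1, List.getElem_mem h2⟩))
      · rw [List.getD_eq_default _ _ (Nat.le_of_not_lt h2)]; exact hid
    · rw [List.getD_eq_default _ _ (Nat.le_of_not_lt h1)]; exact hid
  -- orbit sums vanish
  have hw : ∀ O ∈ C.orbs, (O.els.map fun x => eltOf 9 (decP x.1) • v).sum = 0 := by
    intro O hO
    have hO' := horbs O hO
    simp only [orbOK, Bool.and_eq_true, decide_eq_true_eq, beq_iff_eq, List.all_eq_true] at hO'
    obtain ⟨⟨⟨hsi, hels⟩, hml⟩, hmv⟩ := hO'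
    have hS : Killed 9 V (HS.getD O.si []) := by
      rw [List.getD_eq_getElem _ _ hsi]; exact hHS _ (List.getElem_mem hsi)
    generalize HS.getD O.si [] = L at hS hml hmv
    refine hS _ fun x hx a ha => ?_
    obtain ⟨i, hi, rfl⟩ := List.getElem_of_mem hx
    have hi' : i < O.moves.length := by omega
    have hmem : (L[i], O.moves[i]) ∈ L.zip O.moves := by
      rw [List.mem_iff_getElem]
      exact ⟨i, by simp [hi, hi'], by simp⟩
    obtain ⟨hs1, hm⟩ := hmv _ hmem
    simp only [moveOK, Bool.and_eq_true, decide_eq_true_eq, List.all_eq_true, beq_iff_eq,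
      List.isPerm_iff] at hm
    obtain ⟨⟨⟨hl, hlenm⟩, hperm⟩, heq⟩ := hm
    simp only at hs1
    rw [hs1, one_nsmul]
    have hla : Valid 9 L[i].1 := ⟨a, ha⟩
    have hea : eltOf 9 L[i].1 = a := imgL_injective (by rw [imgL_eltOf (n := 9) hla, ha])
    have hoel : ∀ j, Valid 9 (decP (oel O.els j)) := by
      intro j
      simp only [oel]
      by_cases hj : j < O.els.length
      · rw [List.getD_eq_getElem _ _ hj]; exact valid_of_pcOK (hels _ (List.getElem_mem hj))
      · rw [List.getD_eq_default _ _ (Nat.le_of_not_lt hj)]; rw [decP_idN]; exact valid_range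
    have hidx : ((List.range O.els.length).map fun j => eltOf 9 (decP (oel O.els j)) • v) =
        O.els.map fun x => eltOf 9 (decP x.1) • v := by
      apply List.ext_getElem (by simp)
      intro k h1 h2
      simp only [List.getElem_map, List.getElem_range]
      rw [oel, List.getD_eq_getElem _ _ (by simpa using h2)]
    calc a • (O.els.map fun x => eltOf 9 (decP x.1) • v).sum
        = (O.els.map fun x => a • eltOf 9 (decP x.1) • v).sum := by
          rw [smul_list_sum', List.map_map]; rfl
      _ = (O.moves[i].map fun y => eltOf 9 (decP (oel O.els y.1)) • v).sum := by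
          refine sum_zip_eq _ _ _ _ hlenm.symm fun y hy => ?_
          have hy1 : Valid 9 (decP y.1.1) := valid_of_pcOK (hels _ (List.of_mem_zip hy).1)
          have he := comp_eq_of_eqComp hy1 (hq _).1 (heq y hy)
          rw [hl] at he
          rw [← mul_smul, ← hea, ← eltOf_comp hla hy1, he, eltOf_comp (hoel _) (hq _).1, mul_smul, (hq _).2]
      _ = ((List.range O.els.length).map fun j => eltOf 9 (decP (oel O.els j)) • v).sum := by
          rw [← (hperm.map fun j => eltOf 9 (decP (oel O.els j)) • v).sum_eq, List.map_map]; rfl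
      _ = _ := by rw [hidx]
  -- the classes sum to zero
  let e : ℕ → V := fun j => eltOf 9 (decP (rel C.reps j)) • v
  have hjs : ∀ T ∈ C.terms, ∀ row ∈ T.rows, ((row.map Prod.fst).map e).sum = 0 := by
    intro T hT row hrow
    have hT' := hterms T hT
    simp only [termOK, Bool.and_eq_true, decide_eq_true_eq, List.all_eq_true] at hT'
    obtain ⟨⟨⟨hg, ho⟩, hrl⟩, hrows⟩ := hT'
    obtain ⟨i, hi, rfl⟩ := List.getElem_of_mem hrow
    have hmem : (C.cs[i]'(by omega), T.rows[i]) ∈ C.cs.zip T.rows := by
      rw [List.mem_iff_getElem]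
      exact ⟨i, by simp; omega, by simp⟩
    have hr := hrows _ hmem
    simp only [rowOK, Bool.and_eq_true, decide_eq_true_eq, List.all_eq_true] at hr
    obtain ⟨hrlen, hre⟩ := hr
    set O := C.orbs.getD T.o ⟨0, [], []⟩ with hOdef
    have hOm : O ∈ C.orbs := by
      rw [hOdef, List.getD_eq_getElem _ _ ho]; exact List.getElem_mem ho
    have hO' := horbs O hOm
    simp only [orbOK, Bool.and_eq_true, List.all_eq_true] at hO'
    have hels := hO'.1.1.2
    have hgv : Valid 9 (decP T.g.1) := valid_of_pcOK hg
    have hcg : Valid 9 (comp (decP (qel C.qs (C.cs[i]'(by omega)))) (decP T.g.1)) :=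
      valid_comp (hq _).1 hgv
    rw [List.map_map]
    calc (T.rows[i].map (e ∘ Prod.fst)).sum
        = (O.els.map fun x =>
            eltOf 9 (comp (decP (qel C.qs (C.cs[i]'(by omega)))) (decP T.g.1)) •
              eltOf 9 (decP x.1) • v).sum := by
          refine (sum_zip_eq _ _ _ _ hrlen.symm fun y hy => ?_).symm
          have hy1 : Valid 9 (decP y.1.1) := valid_of_pcOK (hels _ (List.of_mem_zip hy).1)
          rw [← mul_smul, ← eltOf_comp hcg hy1, comp_eq_of_eqComp₃ hgv hy1 (hq _).1 (hre y hy),
            eltOf_comp (hrel _) (hq _).1, mul_smul, (hq _).2]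
          rfl
      _ = eltOf 9 (comp (decP (qel C.qs (C.cs[i]'(by omega)))) (decP T.g.1)) •
            (O.els.map fun x => eltOf 9 (decP x.1) • v).sum := by
          rw [smul_list_sum', List.map_map]; rfl
      _ = 0 := by rw [hw O hOm, smul_zero]
  have hsum : ((allJs C.terms).map e).sum = 0 := by
    rw [allJs, List.map_flatMap, List.flatMap_def, List.sum_flatten, List.map_map]
    refine List.sum_eq_zero fun x hx => ?_
    obtain ⟨T, hT, rfl⟩ := List.mem_map.1 hx
    show ((List.map e (T.rows.flatMap fun r => r.map Prod.fst))).sum = 0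
    rw [List.map_flatMap, List.flatMap_def, List.sum_flatten, List.map_map]
    refine List.sum_eq_zero fun y hy => ?_
    obtain ⟨row, hrow, rfl⟩ := List.mem_map.1 hy
    exact hjs T hT row hrow
  have h0 := selSum_parMask h2 e N _ hlt
  have hN : 0 < N := by
    rcases hl : allJs C.terms with _ | ⟨j, r⟩
    · rw [hl] at hmask; simp [parMask] at hmask
    · have := hlt j (by rw [hl]; exact List.mem_cons_self)
      omega
  rw [hmask, hsum, show (1 : ℕ) = 2 ^ 0 by norm_num, selSum_two_pow e hN] at h0
  simp only [e, hR0, decP_idN, eltOf_range, one_smul] at h0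
  exact hv0 h0

end Sound

end CfsgLib.SolvCent
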