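import Cfsg.Agent.Lib.SolvCent.TwoCheck

/-!
# Certificate for modules of A9 in characteristic 2 (onePair)

The checker of `TwoCheck.lean` evaluated by the kernel on explicit data.
-/

set_option autoImplicit false

namespace CfsgLib.SolvCent

/-- The list to be killed. -/
def onePairTarget : List (List ℕ × ℕ) :=
  [([1, 0, 3, 2, 4, 5, 6, 7, 8], 1), ([2, 3, 0, 1, 4, 5, 6, 7, 8], 1), ([0, 1, 2, 3, 5, 4, 7, 6, 8], 1), ([0, 1, 2, 3, 6, 7, 4, 5, 8], 1), ([1, 2, 0, 3, 4, 5, 6, 7, 8], 1), ([0, 2, 1, 3, 4, 6, 5, 7, 8], 1)]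

/-- The hypothesis lists. -/
def onePairHyps : List (List (List ℕ × ℕ)) :=
  [[([1, 0, 2, 3, 6, 5, 4, 7, 8], 1), ([5, 1, 2, 3, 0, 4, 6, 7, 8], 1)],
   [([1, 0, 2, 3, 6, 5, 4, 7, 8], 1), ([0, 5, 2, 3, 1, 4, 6, 7, 8], 1)],
   [([3, 1, 7, 0, 4, 5, 6, 2, 8], 1), ([2, 5, 8, 3, 4, 7, 6, 1, 0], 1)],
   [([0, 3, 7, 1, 4, 5, 6, 2, 8], 1), ([5, 2, 8, 3, 4, 7, 6, 0, 1], 1)],
   [([1, 0, 3, 2, 4, 5, 6, 7, 8], 1), ([2, 3, 0, 1, 4, 5, 6, 7, 8], 1), ([0, 1, 2, 3, 5, 4, 7, 6, 8], 1), ([0, 1, 2, 3, 6, 7, 4, 5, 8], 1), ([1, 2, 0, 3, 4, 5, 6, 7, 8], 1), ([0, 1, 2, 3, 5, 6, 4, 7, 8], 1)],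
   [([1, 0, 3, 2, 4, 5, 6, 7, 8], 1), ([2, 3, 0, 1, 4, 5, 6, 7, 8], 1), ([0, 1, 2, 3, 5, 4, 7, 6, 8], 1), ([0, 1, 2, 3, 6, 7, 4, 5, 8], 1), ([1, 2, 0, 3, 5, 6, 4, 7, 8], 1)],
   [([1, 0, 3, 2, 4, 5, 6, 7, 8], 1), ([2, 3, 0, 1, 4, 5, 6, 7, 8], 1), ([0, 1, 2, 3, 5, 4, 7, 6, 8], 1), ([0, 1, 2, 3, 6, 7, 4, 5, 8], 1), ([1, 2, 0, 3, 6, 4, 5, 7, 8], 1)]]

/-- The stabiliser. -/
def onePairQs : List (List ℕ) :=
  [[0x876543210, 0x876542301, 0x876541032, 0x867453210, 0x854763210, 0x876543021, 0x875643120, 0x876540123, 0x867452301, 0x854762301, 0x876540312, 0x875641302, 0x867451032, 0x854761032, 0x876542130, 0x875642031, 0x845673210, 0x867453021, 0x857463120, 0x854763021, 0x864753120, 0x876541203, 0x876543102, 0x875643012, 0x875643201, 0x867450123, 0x854760123, 0x875640213, 0x845672301, 0x867450312, 0x857461302, 0x854760312],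
   [0x864751302, 0x876541320, 0x875640321, 0x875642310, 0x845671032, 0x867452130, 0x857462031, 0x854762130, 0x864752031, 0x876540231, 0x875641230, 0x875640132, 0x845673021, 0x846573120, 0x867451203, 0x867453102, 0x857463012, 0x857463201, 0x854761203, 0x854763102, 0x864753012, 0x864753201, 0x876542013, 0x875642103, 0x875641023, 0x845670123, 0x857460213, 0x864750213, 0x845670312, 0x846571302, 0x867451320, 0x857460321],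
   [0x857462310, 0x854761320, 0x864750321, 0x864752310, 0x845672130, 0x846572031, 0x867450231, 0x857461230, 0x857460132, 0x854760231, 0x864751230, 0x864750132, 0x845671203, 0x845673102, 0x846573012, 0x846573201, 0x867452013, 0x857462103, 0x857461023, 0x854762013, 0x864752103, 0x864751023, 0x846570213, 0x845671320, 0x846570321, 0x846572310, 0x845670231, 0x846571230, 0x846570132, 0x845672013, 0x846572103, 0x846571023]]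

/-- Representatives. -/
def onePairReps0 : List PC :=
  [(0x876543210, []),
   (0x265017438, [(0, 8, 8, 2), (2, 4, 4, 1), (1, 3, 3, 7), (7, 6, 6, 5)]),
   (0x250617438, [(0, 8, 8, 2), (2, 4, 4, 1), (1, 3, 3, 7), (7, 5, 5, 6)]),
   (0x206517438, [(0, 8, 8, 2), (2, 4, 4, 1), (1, 3, 3, 7)]),
   (0x065127438, [(0, 8, 1, 3), (3, 7, 7, 6), (6, 5, 2, 4)]),
   (0x051627438, [(0, 8, 1, 3), (3, 7, 7, 5), (5, 6, 2, 4)]),
   (0x016527438, [(0, 8, 1, 3), (3, 7, 2, 4)]),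
   (0x165207438, [(0, 8, 8, 1), (1, 3, 3, 7), (7, 6, 6, 5), (5, 2, 2, 4)]),
   (0x152607438, [(0, 8, 8, 1), (1, 3, 3, 7), (7, 5, 5, 6), (6, 2, 2, 4)]),
   (0x126507438, [(0, 8, 8, 1), (1, 3, 3, 7), (7, 2, 2, 4)]),
   (0x182065347, [(0, 7, 7, 8), (8, 1, 1, 4), (4, 6, 6, 2), (2, 3, 3, 5)]),
   (0x120865347, [(0, 7, 7, 2), (2, 3, 3, 5), (5, 8, 8, 1), (1, 4, 4, 6)]),
   (0x108265347, [(0, 7, 1, 4), (4, 6, 6, 8), (2, 3, 3, 5)]),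
   (0x280165347, [(0, 7, 7, 8), (8, 2, 2, 3), (3, 5, 5, 1), (1, 4, 4, 6)]),
   (0x201865347, [(0, 7, 1, 4), (4, 6, 2, 3), (3, 5, 5, 8)]),
   (0x218065347, [(0, 7, 7, 1), (1, 4, 4, 6), (6, 8, 8, 2), (2, 3, 3, 5)]),
   (0x081265347, [(0, 7, 7, 8), (1, 4, 4, 6), (2, 3, 3, 5)]),
   (0x012865347, [(0, 7, 7, 1), (1, 4, 4, 6), (6, 2, 2, 3), (3, 5, 5, 8)]),
   (0x028165347, [(0, 7, 7, 2), (2, 3, 3, 5), (5, 1, 1, 4), (4, 6, 6, 8)]),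
   (0x632057418, [(0, 8, 8, 6), (6, 2, 2, 4), (4, 5, 3, 7)]),
   (0x620357418, [(0, 8, 8, 6), (2, 4, 4, 5), (5, 3, 3, 7)]),
   (0x603257418, [(0, 8, 8, 6), (6, 3, 3, 7), (2, 4, 4, 5)]),
   (0x630157428, [(0, 8, 8, 6), (1, 2, 2, 4), (4, 5, 3, 7)]),
   (0x601357428, [(0, 8, 8, 6), (6, 1, 1, 2), (2, 4, 4, 5), (5, 3, 3, 7)]),
   (0x613057428, [(0, 8, 8, 6), (6, 3, 3, 7), (7, 1, 1, 2), (2, 4, 4, 5)]),
   (0x631257408, [(0, 8, 8, 6), (6, 1, 2, 4), (4, 5, 3, 7)]),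
   (0x612357408, [(0, 8, 8, 6), (6, 2, 2, 4), (4, 5, 5, 3), (3, 7, 7, 1)]),
   (0x623157408, [(0, 8, 8, 6), (6, 3, 3, 7), (7, 2, 2, 4), (4, 5, 5, 1)]),
   (0x210874536, [(0, 6, 1, 3), (3, 4, 4, 7), (2, 5, 5, 8)]),
   (0x208174536, [(0, 6, 6, 8), (8, 2, 2, 5), (5, 1, 1, 3), (3, 4, 4, 7)]),
   (0x281074536, [(0, 6, 6, 1), (1, 3, 3, 4), (4, 7, 7, 8), (8, 2, 2, 5)]),
   (0x021874536, [(0, 6, 6, 1), (1, 3, 3, 4), (4, 7, 7, 2), (2, 5, 5, 8)])]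

/-- Representatives. -/
def onePairReps1 : List PC :=
  [(0x018274536, [(0, 6, 6, 8), (1, 3, 3, 4), (4, 7, 2, 5)]),
   (0x082174536, [(0, 6, 6, 2), (2, 5, 5, 1), (1, 3, 3, 4), (4, 7, 7, 8)]),
   (0x102874536, [(0, 6, 6, 2), (2, 5, 5, 8), (8, 1, 1, 3), (3, 4, 4, 7)]),
   (0x128074536, [(0, 6, 6, 8), (8, 1, 1, 3), (3, 4, 4, 7), (7, 2, 2, 5)]),
   (0x180274536, [(0, 6, 1, 3), (3, 4, 4, 7), (7, 8, 2, 5)]),
   (0x504372816, [(0, 6, 6, 4), (4, 7, 2, 8), (8, 5, 5, 3)]),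
   (0x543072816, [(0, 6, 6, 3), (3, 2, 2, 8), (8, 5, 4, 7)]),
   (0x530472816, [(0, 6, 2, 8), (8, 5, 5, 4), (4, 7, 7, 3)]),
   (0x514370826, [(0, 6, 6, 4), (4, 7, 7, 1), (1, 2, 2, 8), (8, 5, 5, 3)]),
   (0x543170826, [(0, 6, 6, 3), (1, 2, 2, 8), (8, 5, 4, 7)]),
   (0x531470826, [(0, 6, 6, 1), (1, 2, 2, 8), (8, 5, 5, 4), (4, 7, 7, 3)]),
   (0x524371806, [(0, 6, 6, 4), (4, 7, 7, 2), (2, 8, 8, 5), (5, 3, 3, 1)]),
   (0x543271806, [(0, 6, 6, 3), (3, 1, 2, 8), (8, 5, 4, 7)]),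
   (0x532471806, [(0, 6, 6, 2), (2, 8, 8, 5), (5, 4, 4, 7), (7, 3, 3, 1)]),
   (0x320684751, [(0, 1, 1, 5), (5, 6, 2, 7), (3, 4, 4, 8)]),
   (0x306284751, [(0, 1, 1, 5), (5, 2, 2, 7), (3, 4, 4, 8)]),
   (0x362084751, [(0, 1, 1, 5), (2, 7, 7, 6), (3, 4, 4, 8)]),
   (0x301684752, [(0, 2, 2, 7), (1, 5, 5, 6), (3, 4, 4, 8)]),
   (0x316084752, [(0, 2, 2, 7), (7, 1, 1, 5), (3, 4, 4, 8)]),
   (0x360184752, [(0, 2, 2, 7), (7, 6, 1, 5), (3, 4, 4, 8)]),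
   (0x312684750, [(1, 5, 5, 6), (6, 2, 2, 7), (3, 4, 4, 8)]),
   (0x326184750, [(1, 5, 2, 7), (3, 4, 4, 8)]),
   (0x361284750, [(1, 5, 5, 2), (2, 7, 7, 6), (3, 4, 4, 8)]),
   (0x657120483, [(0, 3, 1, 8), (8, 6, 6, 7), (7, 5, 2, 4)]),
   (0x615720483, [(0, 3, 1, 8), (8, 6, 6, 5), (5, 7, 2, 4)]),
   (0x671520483, [(0, 3, 1, 8), (8, 6, 2, 4)]),
   (0x657201483, [(0, 3, 3, 1), (1, 8, 8, 6), (6, 7, 7, 5), (5, 2, 2, 4)]),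
   (0x625701483, [(0, 3, 3, 1), (1, 8, 8, 6), (6, 5, 5, 7), (7, 2, 2, 4)]),
   (0x672501483, [(0, 3, 3, 1), (1, 8, 8, 6), (6, 2, 2, 4)]),
   (0x657012483, [(0, 3, 3, 2), (2, 4, 4, 1), (1, 8, 8, 6), (6, 7, 7, 5)]),
   (0x605712483, [(0, 3, 3, 2), (2, 4, 4, 1), (1, 8, 8, 6), (6, 5, 5, 7)]),
   (0x670512483, [(0, 3, 3, 2), (2, 4, 4, 1), (1, 8, 8, 6)])]

/-- Representatives. -/
def onePairReps2 : List PC :=
  [(0x283647501, [(0, 1, 2, 5), (5, 6, 6, 3), (3, 7, 7, 8)]),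
   (0x236847501, [(0, 1, 2, 5), (5, 8, 3, 7)]),
   (0x268347501, [(0, 1, 2, 5), (5, 3, 3, 7), (7, 6, 6, 8)]),
   (0x083647512, [(0, 2, 2, 5), (5, 6, 6, 3), (3, 7, 7, 8)]),
   (0x036847512, [(0, 2, 2, 5), (5, 8, 3, 7)]),
   (0x068347512, [(0, 2, 2, 5), (5, 3, 3, 7), (7, 6, 6, 8)]),
   (0x183647520, [(1, 2, 2, 5), (5, 6, 6, 3), (3, 7, 7, 8)]),
   (0x136847520, [(1, 2, 2, 5), (5, 8, 3, 7)]),
   (0x168347520, [(1, 2, 2, 5), (5, 3, 3, 7), (7, 6, 6, 8)]),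
   (0x038217645, [(0, 5, 5, 2), (2, 6, 6, 8), (1, 4, 3, 7)]),
   (0x082317645, [(0, 5, 5, 3), (3, 7, 7, 8), (1, 4, 2, 6)]),
   (0x023817645, [(0, 5, 5, 8), (1, 4, 2, 6), (6, 3, 3, 7)]),
   (0x138027645, [(0, 5, 1, 4), (4, 2, 2, 6), (6, 8, 3, 7)]),
   (0x180327645, [(0, 5, 5, 3), (3, 7, 7, 8), (8, 1, 1, 4), (4, 2, 2, 6)]),
   (0x103827645, [(0, 5, 5, 8), (8, 1, 1, 4), (4, 2, 2, 6), (6, 3, 3, 7)]),
   (0x238107645, [(0, 5, 5, 1), (1, 4, 2, 6), (6, 8, 3, 7)]),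
   (0x281307645, [(0, 5, 5, 3), (3, 7, 7, 8), (8, 2, 2, 6), (6, 1, 1, 4)]),
   (0x213807645, [(0, 5, 5, 8), (8, 2, 2, 6), (6, 3, 3, 7), (7, 1, 1, 4)]),
   (0x857402361, [(0, 1, 1, 6), (6, 7, 7, 5), (5, 4, 2, 3)]),
   (0x874502361, [(0, 1, 1, 6), (6, 4, 2, 3)]),
   (0x845702361, [(0, 1, 1, 6), (6, 5, 5, 7), (7, 4, 2, 3)]),
   (0x857410362, [(0, 2, 2, 3), (1, 6, 6, 7), (7, 5, 5, 4)]),
   (0x874510362, [(0, 2, 2, 3), (1, 6, 6, 4)]),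
   (0x845710362, [(0, 2, 2, 3), (1, 6, 6, 5), (5, 7, 7, 4)]),
   (0x857421360, [(1, 6, 6, 7), (7, 5, 5, 4), (4, 2, 2, 3)]),
   (0x874521360, [(1, 6, 6, 4), (4, 2, 2, 3)]),
   (0x845721360, [(1, 6, 6, 5), (5, 7, 7, 4), (4, 2, 2, 3)]),
   (0x863547021, [(0, 1, 1, 2), (3, 7, 7, 6)]),
   (0x835647021, [(0, 1, 1, 2), (3, 7, 5, 6)]),
   (0x856347021, [(0, 1, 1, 2), (3, 7, 7, 5)]),
   (0x657032184, [(0, 4, 4, 3), (3, 2, 2, 1), (1, 8, 8, 6), (6, 7, 7, 5)]),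
   (0x670532184, [(0, 4, 4, 3), (3, 2, 2, 1), (1, 8, 8, 6)])]

/-- Representatives. -/
def onePairReps3 : List PC :=
  [(0x605732184, [(0, 4, 4, 3), (3, 2, 2, 1), (1, 8, 8, 6), (6, 5, 5, 7)]),
   (0x657130284, [(0, 4, 4, 3), (1, 8, 8, 6), (6, 7, 7, 5)]),
   (0x671530284, [(0, 4, 4, 3), (1, 8, 8, 6)]),
   (0x615730284, [(0, 4, 4, 3), (1, 8, 8, 6), (6, 5, 5, 7)]),
   (0x657231084, [(0, 4, 4, 3), (3, 1, 1, 8), (8, 6, 6, 7), (7, 5, 5, 2)]),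
   (0x672531084, [(0, 4, 4, 3), (3, 1, 1, 8), (8, 6, 6, 2)]),
   (0x625731084, [(0, 4, 4, 3), (3, 1, 1, 8), (8, 6, 6, 5), (5, 7, 7, 2)]),
   (0x026853471, [(0, 1, 1, 7), (7, 2, 2, 4), (4, 5, 5, 8)]),
   (0x068253471, [(0, 1, 1, 7), (7, 6, 6, 8), (2, 4, 4, 5)]),
   (0x082653471, [(0, 1, 1, 7), (7, 8, 2, 4), (4, 5, 5, 6)]),
   (0x106853472, [(0, 2, 2, 4), (4, 5, 5, 8), (8, 1, 1, 7)]),
   (0x168053472, [(0, 2, 2, 4), (4, 5, 1, 7), (7, 6, 6, 8)]),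
   (0x180653472, [(0, 2, 2, 4), (4, 5, 5, 6), (1, 7, 7, 8)]),
   (0x216853470, [(1, 7, 2, 4), (4, 5, 5, 8)]),
   (0x268153470, [(1, 7, 7, 6), (6, 8, 8, 2), (2, 4, 4, 5)]),
   (0x281653470, [(1, 7, 7, 8), (8, 2, 2, 4), (4, 5, 5, 6)]),
   (0x213857460, [(1, 6, 6, 3), (3, 7, 2, 4), (4, 5, 5, 8)]),
   (0x238157460, [(1, 6, 6, 8), (8, 2, 2, 4), (4, 5, 3, 7)]),
   (0x281357460, [(1, 6, 2, 4), (4, 5, 5, 3), (3, 7, 7, 8)]),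
   (0x023857461, [(0, 1, 1, 6), (6, 3, 3, 7), (7, 2, 2, 4), (4, 5, 5, 8)]),
   (0x038257461, [(0, 1, 1, 6), (6, 8, 2, 4), (4, 5, 3, 7)]),
   (0x082357461, [(0, 1, 1, 6), (6, 2, 2, 4), (4, 5, 5, 3), (3, 7, 7, 8)]),
   (0x103857462, [(0, 2, 2, 4), (4, 5, 5, 8), (8, 1, 1, 6), (6, 3, 3, 7)]),
   (0x138057462, [(0, 2, 2, 4), (4, 5, 1, 6), (6, 8, 3, 7)]),
   (0x180357462, [(0, 2, 2, 4), (4, 5, 5, 3), (3, 7, 7, 8), (8, 1, 1, 6)]),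
   (0x251760348, [(0, 8, 8, 2), (2, 3, 1, 4), (4, 6, 5, 7)]),
   (0x217560348, [(0, 8, 8, 2), (2, 3, 1, 4), (4, 6, 6, 7)]),
   (0x275160348, [(0, 8, 8, 2), (2, 3, 1, 4), (4, 6, 6, 5)]),
   (0x052761348, [(0, 8, 1, 4), (4, 6, 6, 2), (2, 3, 5, 7)]),
   (0x027561348, [(0, 8, 1, 4), (4, 6, 6, 7), (7, 2, 2, 3)]),
   (0x075261348, [(0, 8, 1, 4), (4, 6, 6, 5), (5, 2, 2, 3)]),
   (0x150762348, [(0, 8, 8, 1), (1, 4, 4, 6), (2, 3, 5, 7)])]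

/-- Representatives. -/
def onePairReps4 : List PC :=
  [(0x107562348, [(0, 8, 8, 1), (1, 4, 4, 6), (6, 7, 2, 3)]),
   (0x175062348, [(0, 8, 8, 1), (1, 4, 4, 6), (6, 5, 2, 3)]),
   (0x836502417, [(0, 7, 7, 3), (3, 2, 2, 4)]),
   (0x865302417, [(0, 7, 7, 6), (6, 5, 5, 3), (3, 2, 2, 4)]),
   (0x853602417, [(0, 7, 7, 5), (5, 6, 6, 3), (3, 2, 2, 4)]),
   (0x836510427, [(0, 7, 7, 3), (1, 2, 2, 4)]),
   (0x865310427, [(0, 7, 7, 6), (6, 5, 5, 3), (1, 2, 2, 4)]),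
   (0x853610427, [(0, 7, 7, 5), (5, 6, 6, 3), (1, 2, 2, 4)]),
   (0x836521407, [(0, 7, 7, 3), (3, 1, 2, 4)]),
   (0x865321407, [(0, 7, 7, 6), (6, 5, 5, 3), (3, 1, 2, 4)]),
   (0x853621407, [(0, 7, 7, 5), (5, 6, 6, 3), (3, 1, 2, 4)]),
   (0x471605832, [(0, 2, 2, 8), (8, 4, 1, 3), (3, 5, 5, 6)]),
   (0x467105832, [(0, 2, 2, 8), (8, 4, 1, 3), (3, 5, 6, 7)]),
   (0x416705832, [(0, 2, 2, 8), (8, 4, 1, 3), (3, 5, 5, 7)]),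
   (0x472615830, [(1, 3, 3, 5), (5, 6, 6, 2), (2, 8, 8, 4)]),
   (0x467215830, [(1, 3, 3, 5), (5, 2, 2, 8), (8, 4, 6, 7)]),
   (0x426715830, [(1, 3, 3, 5), (5, 7, 7, 2), (2, 8, 8, 4)]),
   (0x470625831, [(0, 1, 1, 3), (3, 5, 5, 6), (2, 8, 8, 4)]),
   (0x467025831, [(0, 1, 1, 3), (3, 5, 2, 8), (8, 4, 6, 7)]),
   (0x406725831, [(0, 1, 1, 3), (3, 5, 5, 7), (2, 8, 8, 4)]),
   (0x352871064, [(0, 4, 4, 7), (7, 5, 5, 8), (8, 3, 3, 1), (1, 6, 6, 2)]),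
   (0x385271064, [(0, 4, 4, 7), (7, 8, 8, 3), (3, 1, 1, 6), (6, 5, 5, 2)]),
   (0x328571064, [(0, 4, 4, 7), (7, 2, 1, 6), (6, 8, 8, 3)]),
   (0x350872164, [(0, 4, 4, 7), (7, 5, 5, 8), (8, 3, 3, 2), (2, 1, 1, 6)]),
   (0x385072164, [(0, 4, 4, 7), (7, 8, 8, 3), (3, 2, 2, 1), (1, 6, 6, 5)]),
   (0x308572164, [(0, 4, 4, 7), (1, 6, 6, 8), (8, 3, 3, 2)]),
   (0x351870264, [(0, 4, 4, 7), (7, 5, 5, 8), (8, 3, 1, 6)]),
   (0x385170264, [(0, 4, 4, 7), (7, 8, 8, 3), (1, 6, 6, 5)]),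
   (0x318570264, [(0, 4, 4, 7), (7, 1, 1, 6), (6, 8, 8, 3)]),
   (0x327085146, [(0, 6, 6, 7), (7, 2, 2, 1), (1, 4, 4, 8), (8, 3, 3, 5)]),
   (0x302785146, [(0, 6, 6, 2), (2, 1, 1, 4), (4, 8, 8, 3), (3, 5, 5, 7)]),
   (0x370285146, [(0, 6, 1, 4), (4, 8, 8, 3), (3, 5, 5, 2)])]

/-- Representatives. -/
def onePairReps5 : List PC :=
  [(0x307185246, [(0, 6, 6, 7), (1, 4, 4, 8), (8, 3, 3, 5)]),
   (0x310785246, [(0, 6, 1, 4), (4, 8, 8, 3), (3, 5, 5, 7)]),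
   (0x371085246, [(0, 6, 6, 1), (1, 4, 4, 8), (8, 3, 3, 5)]),
   (0x317285046, [(0, 6, 6, 7), (7, 1, 1, 4), (4, 8, 8, 3), (3, 5, 5, 2)]),
   (0x321785046, [(0, 6, 6, 1), (1, 4, 4, 8), (8, 3, 3, 5), (5, 7, 7, 2)]),
   (0x372185046, [(0, 6, 6, 2), (1, 4, 4, 8), (8, 3, 3, 5)]),
   (0x045672318, [(0, 8, 2, 3), (4, 7, 5, 6)]),
   (0x056472318, [(0, 8, 2, 3), (4, 7, 7, 5)]),
   (0x064572318, [(0, 8, 2, 3), (4, 7, 7, 6)]),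
   (0x145670328, [(0, 8, 8, 1), (1, 2, 2, 3), (4, 7, 5, 6)]),
   (0x156470328, [(0, 8, 8, 1), (1, 2, 2, 3), (4, 7, 7, 5)]),
   (0x164570328, [(0, 8, 8, 1), (1, 2, 2, 3), (4, 7, 7, 6)]),
   (0x245671308, [(0, 8, 8, 2), (2, 3, 3, 1), (4, 7, 5, 6)]),
   (0x256471308, [(0, 8, 8, 2), (2, 3, 3, 1), (4, 7, 7, 5)]),
   (0x264571308, [(0, 8, 8, 2), (2, 3, 3, 1), (4, 7, 7, 6)]),
   (0x305768412, [(0, 2, 2, 4), (4, 6, 6, 5), (5, 7, 3, 8)]),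
   (0x357068412, [(0, 2, 2, 4), (4, 6, 6, 7), (7, 5, 3, 8)]),
   (0x370568412, [(0, 2, 2, 4), (4, 6, 3, 8)]),
   (0x315768420, [(1, 2, 2, 4), (4, 6, 6, 5), (5, 7, 3, 8)]),
   (0x357168420, [(1, 2, 2, 4), (4, 6, 6, 7), (7, 5, 3, 8)]),
   (0x371568420, [(1, 2, 2, 4), (4, 6, 3, 8)]),
   (0x325768401, [(0, 1, 2, 4), (4, 6, 6, 5), (5, 7, 3, 8)]),
   (0x357268401, [(0, 1, 2, 4), (4, 6, 6, 7), (7, 5, 3, 8)]),
   (0x372568401, [(0, 1, 2, 4), (4, 6, 3, 8)]),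
   (0x532461087, [(0, 7, 7, 3), (3, 1, 1, 8), (8, 5, 5, 4), (4, 6, 6, 2)]),
   (0x524361087, [(0, 7, 7, 2), (1, 8, 8, 5), (5, 3, 4, 6)]),
   (0x543261087, [(0, 7, 7, 4), (4, 6, 6, 3), (3, 1, 1, 8), (8, 5, 5, 2)]),
   (0x530462187, [(0, 7, 7, 3), (3, 2, 2, 1), (1, 8, 8, 5), (5, 4, 4, 6)]),
   (0x504362187, [(0, 7, 1, 8), (8, 5, 5, 3), (3, 2, 4, 6)]),
   (0x543062187, [(0, 7, 7, 4), (4, 6, 6, 3), (3, 2, 2, 1), (1, 8, 8, 5)]),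
   (0x531460287, [(0, 7, 7, 3), (1, 8, 8, 5), (5, 4, 4, 6)]),
   (0x514360287, [(0, 7, 7, 1), (1, 8, 8, 5), (5, 3, 4, 6)])]

/-- Representatives. -/
def onePairReps6 : List PC :=
  [(0x543160287, [(0, 7, 7, 4), (4, 6, 6, 3), (1, 8, 8, 5)]),
   (0x268754103, [(0, 3, 3, 4), (4, 5, 5, 7), (7, 6, 6, 8), (8, 2, 2, 1)]),
   (0x287654103, [(0, 3, 3, 4), (4, 5, 5, 6), (6, 7, 7, 8), (8, 2, 2, 1)]),
   (0x276854103, [(0, 3, 3, 4), (4, 5, 5, 8), (8, 2, 2, 1)]),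
   (0x068754213, [(0, 3, 3, 4), (4, 5, 5, 7), (7, 6, 6, 8)]),
   (0x087654213, [(0, 3, 3, 4), (4, 5, 5, 6), (6, 7, 7, 8)]),
   (0x076854213, [(0, 3, 3, 4), (4, 5, 5, 8)]),
   (0x168754023, [(0, 3, 3, 4), (4, 5, 5, 7), (7, 6, 6, 8), (8, 1, 1, 2)]),
   (0x187654023, [(0, 3, 3, 4), (4, 5, 5, 6), (6, 7, 7, 8), (8, 1, 1, 2)]),
   (0x176854023, [(0, 3, 3, 4), (4, 5, 5, 8), (8, 1, 1, 2)]),
   (0x107538642, [(0, 2, 2, 6), (6, 7, 1, 4), (4, 3, 3, 8)]),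
   (0x175038642, [(0, 2, 2, 6), (6, 5, 1, 4), (4, 3, 3, 8)]),
   (0x150738642, [(0, 2, 2, 6), (1, 4, 4, 3), (3, 8, 5, 7)]),
   (0x217538640, [(1, 4, 4, 3), (3, 8, 8, 2), (2, 6, 6, 7)]),
   (0x275138640, [(1, 4, 4, 3), (3, 8, 8, 2), (2, 6, 6, 5)]),
   (0x251738640, [(1, 4, 4, 3), (3, 8, 8, 2), (2, 6, 5, 7)]),
   (0x027538641, [(0, 1, 1, 4), (4, 3, 3, 8), (2, 6, 6, 7)]),
   (0x075238641, [(0, 1, 1, 4), (4, 3, 3, 8), (2, 6, 6, 5)]),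
   (0x052738641, [(0, 1, 1, 4), (4, 3, 3, 8), (2, 6, 5, 7)]),
   (0x673105824, [(0, 4, 1, 2), (2, 8, 8, 6), (6, 3, 3, 5)]),
   (0x631705824, [(0, 4, 1, 2), (2, 8, 8, 6), (3, 5, 5, 7)]),
   (0x617305824, [(0, 4, 1, 2), (2, 8, 8, 6), (6, 7, 3, 5)]),
   (0x673215804, [(0, 4, 4, 1), (2, 8, 8, 6), (6, 3, 3, 5)]),
   (0x632715804, [(0, 4, 4, 1), (2, 8, 8, 6), (3, 5, 5, 7)]),
   (0x627315804, [(0, 4, 4, 1), (2, 8, 8, 6), (6, 7, 3, 5)]),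
   (0x673025814, [(0, 4, 4, 2), (2, 8, 8, 6), (6, 3, 3, 5)]),
   (0x630725814, [(0, 4, 4, 2), (2, 8, 8, 6), (3, 5, 5, 7)]),
   (0x607325814, [(0, 4, 4, 2), (2, 8, 8, 6), (6, 7, 3, 5)]),
   (0x471320685, [(0, 5, 5, 3), (1, 8, 8, 4), (4, 2, 2, 6)]),
   (0x413720685, [(0, 5, 5, 7), (7, 1, 1, 8), (8, 4, 4, 2), (2, 6, 6, 3)]),
   (0x437120685, [(0, 5, 5, 1), (1, 8, 8, 4), (4, 2, 2, 6), (6, 7, 7, 3)]),
   (0x472301685, [(0, 5, 5, 3), (3, 1, 1, 8), (8, 4, 2, 6)])]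

/-- Representatives. -/
def onePairReps7 : List PC :=
  [(0x423701685, [(0, 5, 5, 7), (7, 2, 2, 6), (6, 3, 3, 1), (1, 8, 8, 4)]),
   (0x437201685, [(0, 5, 5, 2), (2, 6, 6, 7), (7, 3, 3, 1), (1, 8, 8, 4)]),
   (0x470312685, [(0, 5, 5, 3), (3, 2, 2, 6), (1, 8, 8, 4)]),
   (0x403712685, [(0, 5, 5, 7), (1, 8, 8, 4), (2, 6, 6, 3)]),
   (0x437012685, [(0, 5, 1, 8), (8, 4, 2, 6), (6, 7, 7, 3)]),
   (0x532064871, [(0, 1, 1, 7), (7, 3, 3, 4), (4, 6, 6, 2), (2, 8, 8, 5)]),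
   (0x520364871, [(0, 1, 1, 7), (7, 2, 2, 8), (8, 5, 5, 3), (3, 4, 4, 6)]),
   (0x503264871, [(0, 1, 1, 7), (2, 8, 8, 5), (3, 4, 4, 6)]),
   (0x530164872, [(0, 2, 2, 8), (8, 5, 5, 1), (1, 7, 7, 3), (3, 4, 4, 6)]),
   (0x501364872, [(0, 2, 2, 8), (8, 5, 5, 3), (3, 4, 4, 6), (6, 1, 1, 7)]),
   (0x513064872, [(0, 2, 2, 8), (8, 5, 1, 7), (3, 4, 4, 6)]),
   (0x531264870, [(1, 7, 7, 3), (3, 4, 4, 6), (2, 8, 8, 5)]),
   (0x512364870, [(1, 7, 2, 8), (8, 5, 5, 3), (3, 4, 4, 6)]),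
   (0x523164870, [(1, 7, 7, 2), (2, 8, 8, 5), (3, 4, 4, 6)]),
   (0x547186302, [(0, 2, 2, 3), (3, 6, 6, 7), (7, 4, 4, 8), (8, 5, 5, 1)]),
   (0x571486302, [(0, 2, 2, 3), (3, 6, 6, 1), (4, 8, 8, 5)]),
   (0x514786302, [(0, 2, 2, 3), (3, 6, 6, 4), (4, 8, 8, 5), (5, 7, 7, 1)]),
   (0x547286310, [(2, 3, 3, 6), (6, 7, 7, 4), (4, 8, 8, 5)]),
   (0x572486310, [(2, 3, 3, 6), (4, 8, 8, 5)]),
   (0x524786310, [(2, 3, 3, 6), (6, 4, 4, 8), (8, 5, 5, 7)]),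
   (0x547086321, [(0, 1, 1, 2), (2, 3, 3, 6), (6, 7, 7, 4), (4, 8, 8, 5)]),
   (0x570486321, [(0, 1, 1, 2), (2, 3, 3, 6), (4, 8, 8, 5)]),
   (0x504786321, [(0, 1, 1, 2), (2, 3, 3, 6), (6, 4, 4, 8), (8, 5, 5, 7)]),
   (0x372164805, [(0, 5, 5, 1), (2, 8, 8, 3), (3, 4, 4, 6)]),
   (0x321764805, [(0, 5, 5, 7), (7, 2, 2, 8), (8, 3, 3, 4), (4, 6, 6, 1)]),
   (0x317264805, [(0, 5, 5, 2), (2, 8, 8, 3), (3, 4, 4, 6), (6, 7, 7, 1)]),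
   (0x370264815, [(0, 5, 5, 2), (2, 8, 8, 3), (3, 4, 4, 6)]),
   (0x302764815, [(0, 5, 5, 7), (2, 8, 8, 3), (3, 4, 4, 6)]),
   (0x327064815, [(0, 5, 2, 8), (8, 3, 3, 4), (4, 6, 6, 7)]),
   (0x371064825, [(0, 5, 1, 2), (2, 8, 8, 3), (3, 4, 4, 6)]),
   (0x310764825, [(0, 5, 5, 7), (7, 1, 1, 2), (2, 8, 8, 3), (3, 4, 4, 6)]),
   (0x307164825, [(0, 5, 5, 1), (1, 2, 2, 8), (8, 3, 3, 4), (4, 6, 6, 7)])]

/-- Representatives. -/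
def onePairReps8 : List PC :=
  [(0x520463781, [(0, 1, 1, 8), (8, 5, 5, 4), (4, 6, 2, 7)]),
   (0x542063781, [(0, 1, 1, 8), (8, 5, 2, 7), (7, 4, 4, 6)]),
   (0x504263781, [(0, 1, 1, 8), (8, 5, 5, 2), (2, 7, 4, 6)]),
   (0x501463782, [(0, 2, 2, 7), (1, 8, 8, 5), (5, 4, 4, 6)]),
   (0x540163782, [(0, 2, 2, 7), (7, 4, 4, 6), (1, 8, 8, 5)]),
   (0x514063782, [(0, 2, 2, 7), (7, 1, 1, 8), (8, 5, 4, 6)]),
   (0x512463780, [(1, 8, 8, 5), (5, 4, 4, 6), (6, 2, 2, 7)]),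
   (0x541263780, [(1, 8, 8, 5), (5, 2, 2, 7), (7, 4, 4, 6)]),
   (0x524163780, [(1, 8, 8, 5), (2, 7, 4, 6)]),
   (0x081742635, [(0, 5, 5, 7), (7, 8, 1, 3), (3, 2, 2, 6)]),
   (0x078142635, [(0, 5, 5, 1), (1, 3, 3, 2), (2, 6, 6, 8)]),
   (0x017842635, [(0, 5, 5, 8), (1, 3, 3, 2), (2, 6, 6, 7)]),
   (0x182740635, [(0, 5, 5, 7), (7, 8, 8, 1), (1, 3, 2, 6)]),
   (0x178240635, [(0, 5, 5, 2), (2, 6, 6, 8), (8, 1, 1, 3)]),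
   (0x127840635, [(0, 5, 5, 8), (8, 1, 1, 3), (2, 6, 6, 7)]),
   (0x280741635, [(0, 5, 5, 7), (7, 8, 8, 2), (2, 6, 1, 3)]),
   (0x278041635, [(0, 5, 1, 3), (2, 6, 6, 8)]),
   (0x207841635, [(0, 5, 5, 8), (8, 2, 2, 6), (6, 7, 1, 3)]),
   (0x501483267, [(0, 7, 1, 6), (4, 8, 8, 5)]),
   (0x514083267, [(0, 7, 7, 1), (1, 6, 6, 4), (4, 8, 8, 5)]),
   (0x540183267, [(0, 7, 7, 4), (4, 8, 8, 5), (5, 1, 1, 6)]),
   (0x512483067, [(0, 7, 7, 1), (1, 6, 6, 2), (4, 8, 8, 5)]),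
   (0x524183067, [(0, 7, 7, 2), (1, 6, 6, 4), (4, 8, 8, 5)]),
   (0x541283067, [(0, 7, 7, 4), (4, 8, 8, 5), (5, 2, 1, 6)]),
   (0x520483167, [(0, 7, 7, 2), (2, 1, 1, 6), (4, 8, 8, 5)]),
   (0x504283167, [(0, 7, 1, 6), (6, 4, 4, 8), (8, 5, 5, 2)]),
   (0x542083167, [(0, 7, 7, 4), (4, 8, 8, 5), (1, 6, 6, 2)]),
   (0x658201437, [(0, 7, 7, 5), (5, 2, 2, 4), (1, 3, 6, 8)]),
   (0x682501437, [(0, 7, 7, 8), (8, 6, 6, 2), (2, 4, 1, 3)]),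
   (0x625801437, [(0, 7, 7, 2), (2, 4, 1, 3), (5, 8, 8, 6)]),
   (0x658012437, [(0, 7, 7, 5), (1, 3, 3, 2), (2, 4, 6, 8)]),
   (0x680512437, [(0, 7, 7, 8), (8, 6, 1, 3), (3, 2, 2, 4)])]

/-- Representatives. -/
def onePairReps9 : List PC :=
  [(0x605812437, [(0, 7, 1, 3), (3, 2, 2, 4), (5, 8, 8, 6)]),
   (0x658120437, [(0, 7, 7, 5), (5, 1, 1, 3), (2, 4, 6, 8)]),
   (0x681520437, [(0, 7, 7, 8), (8, 6, 6, 1), (1, 3, 2, 4)]),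
   (0x615820437, [(0, 7, 7, 1), (1, 3, 2, 4), (5, 8, 8, 6)]),
   (0x231708645, [(0, 5, 5, 7), (7, 3, 3, 8), (8, 2, 2, 6), (6, 1, 1, 4)]),
   (0x217308645, [(0, 5, 5, 3), (3, 8, 8, 2), (2, 6, 6, 7), (7, 1, 1, 4)]),
   (0x273108645, [(0, 5, 5, 1), (1, 4, 2, 6), (6, 3, 3, 8)]),
   (0x032718645, [(0, 5, 5, 7), (7, 3, 3, 8), (1, 4, 2, 6)]),
   (0x027318645, [(0, 5, 5, 3), (3, 8, 1, 4), (2, 6, 6, 7)]),
   (0x073218645, [(0, 5, 5, 2), (2, 6, 6, 3), (3, 8, 1, 4)]),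
   (0x130728645, [(0, 5, 5, 7), (7, 3, 3, 8), (8, 1, 1, 4), (4, 2, 2, 6)]),
   (0x107328645, [(0, 5, 5, 3), (3, 8, 8, 1), (1, 4, 4, 2), (2, 6, 6, 7)]),
   (0x173028645, [(0, 5, 1, 4), (4, 2, 2, 6), (6, 3, 3, 8)]),
   (0x402685371, [(0, 1, 1, 7), (2, 3, 3, 5), (5, 6, 4, 8)]),
   (0x426085371, [(0, 1, 1, 7), (7, 2, 2, 3), (3, 5, 4, 8)]),
   (0x460285371, [(0, 1, 1, 7), (7, 6, 2, 3), (3, 5, 4, 8)]),
   (0x410685372, [(0, 2, 2, 3), (3, 5, 5, 6), (1, 7, 4, 8)]),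
   (0x406185372, [(0, 2, 2, 3), (3, 5, 5, 1), (1, 7, 4, 8)]),
   (0x461085372, [(0, 2, 2, 3), (3, 5, 1, 7), (7, 6, 4, 8)]),
   (0x421685370, [(1, 7, 7, 2), (2, 3, 3, 5), (5, 6, 4, 8)]),
   (0x416285370, [(1, 7, 2, 3), (3, 5, 4, 8)]),
   (0x462185370, [(1, 7, 7, 6), (6, 2, 2, 3), (3, 5, 4, 8)]),
   (0x216458037, [(0, 7, 7, 1), (1, 3, 3, 8), (8, 2, 4, 5)]),
   (0x264158037, [(0, 7, 7, 6), (6, 4, 4, 5), (5, 1, 1, 3), (3, 8, 8, 2)]),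
   (0x241658037, [(0, 7, 7, 4), (4, 5, 5, 6), (6, 1, 1, 3), (3, 8, 8, 2)]),
   (0x026458137, [(0, 7, 7, 2), (2, 1, 1, 3), (3, 8, 4, 5)]),
   (0x064258137, [(0, 7, 7, 6), (6, 4, 4, 5), (5, 2, 2, 1), (1, 3, 3, 8)]),
   (0x042658137, [(0, 7, 7, 4), (4, 5, 5, 6), (6, 2, 2, 1), (1, 3, 3, 8)]),
   (0x106458237, [(0, 7, 1, 3), (3, 8, 4, 5)]),
   (0x164058237, [(0, 7, 7, 6), (6, 4, 4, 5), (1, 3, 3, 8)]),
   (0x140658237, [(0, 7, 7, 4), (4, 5, 5, 6), (1, 3, 3, 8)]),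
   (0x106735482, [(0, 2, 2, 4), (4, 3, 3, 5), (5, 7, 1, 8)])]

/-- Representatives. -/
def onePairReps10 : List PC :=
  [(0x167035482, [(0, 2, 2, 4), (4, 3, 3, 5), (1, 8, 6, 7)]),
   (0x170635482, [(0, 2, 2, 4), (4, 3, 3, 5), (5, 6, 1, 8)]),
   (0x216735480, [(1, 8, 8, 2), (2, 4, 4, 3), (3, 5, 5, 7)]),
   (0x267135480, [(1, 8, 8, 2), (2, 4, 4, 3), (3, 5, 6, 7)]),
   (0x271635480, [(1, 8, 8, 2), (2, 4, 4, 3), (3, 5, 5, 6)]),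
   (0x026735481, [(0, 1, 1, 8), (2, 4, 4, 3), (3, 5, 5, 7)]),
   (0x067235481, [(0, 1, 1, 8), (2, 4, 4, 3), (3, 5, 6, 7)]),
   (0x072635481, [(0, 1, 1, 8), (2, 4, 4, 3), (3, 5, 5, 6)]),
   (0x804537162, [(0, 2, 2, 1), (1, 6, 6, 4), (4, 3, 3, 7)]),
   (0x845037162, [(0, 2, 2, 1), (1, 6, 6, 5), (3, 7, 7, 4)]),
   (0x850437162, [(0, 2, 2, 1), (1, 6, 3, 7), (7, 5, 5, 4)]),
   (0x814537260, [(1, 6, 6, 4), (4, 3, 3, 7)]),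
   (0x845137260, [(1, 6, 6, 5), (3, 7, 7, 4)]),
   (0x851437260, [(1, 6, 3, 7), (7, 5, 5, 4)]),
   (0x824537061, [(0, 1, 1, 6), (6, 4, 4, 3), (3, 7, 7, 2)]),
   (0x845237061, [(0, 1, 1, 6), (6, 5, 5, 2), (3, 7, 7, 4)]),
   (0x852437061, [(0, 1, 1, 6), (6, 2, 3, 7), (7, 5, 5, 4)]),
   (0x370215648, [(0, 8, 8, 3), (3, 5, 5, 2), (2, 6, 1, 4)]),
   (0x302715648, [(0, 8, 8, 3), (3, 5, 5, 7), (1, 4, 2, 6)]),
   (0x327015648, [(0, 8, 8, 3), (3, 5, 1, 4), (2, 6, 6, 7)]),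
   (0x164325708, [(0, 8, 8, 1), (2, 7, 7, 6), (6, 4, 3, 5)]),
   (0x143625708, [(0, 8, 8, 1), (2, 7, 7, 4), (3, 5, 5, 6)]),
   (0x136425708, [(0, 8, 8, 1), (2, 7, 7, 3), (3, 5, 5, 4)]),
   (0x264305718, [(0, 8, 8, 2), (2, 7, 7, 6), (6, 4, 3, 5)]),
   (0x243605718, [(0, 8, 8, 2), (2, 7, 7, 4), (3, 5, 5, 6)]),
   (0x236405718, [(0, 8, 8, 2), (2, 7, 7, 3), (3, 5, 5, 4)]),
   (0x064315728, [(0, 8, 1, 2), (2, 7, 7, 6), (6, 4, 3, 5)]),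
   (0x043615728, [(0, 8, 1, 2), (2, 7, 7, 4), (3, 5, 5, 6)]),
   (0x036415728, [(0, 8, 1, 2), (2, 7, 7, 3), (3, 5, 5, 4)]),
   (0x307864215, [(0, 5, 5, 8), (8, 3, 3, 4), (4, 6, 6, 7)]),
   (0x378064215, [(0, 5, 3, 4), (4, 6, 6, 8)]),
   (0x380764215, [(0, 5, 5, 7), (7, 8, 8, 3), (3, 4, 4, 6)])]

/-- Representatives. -/
def onePairReps11 : List PC :=
  [(0x317864025, [(0, 5, 5, 8), (8, 3, 3, 4), (4, 6, 6, 7), (7, 1, 1, 2)]),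
   (0x378164025, [(0, 5, 5, 1), (1, 2, 3, 4), (4, 6, 6, 8)]),
   (0x381764025, [(0, 5, 5, 7), (7, 8, 8, 3), (3, 4, 4, 6), (6, 1, 1, 2)]),
   (0x327864105, [(0, 5, 5, 8), (8, 3, 3, 4), (4, 6, 6, 7), (7, 2, 2, 1)]),
   (0x378264105, [(0, 5, 5, 2), (2, 1, 3, 4), (4, 6, 6, 8)]),
   (0x382764105, [(0, 5, 5, 7), (7, 8, 8, 3), (3, 4, 4, 6), (6, 2, 2, 1)]),
   (0x638147520, [(1, 2, 2, 5), (3, 7, 6, 8)]),
   (0x681347520, [(1, 2, 2, 5), (5, 3, 3, 7), (7, 8, 8, 6)]),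
   (0x613847520, [(1, 2, 2, 5), (5, 8, 8, 6), (6, 3, 3, 7)]),
   (0x638247501, [(0, 1, 2, 5), (3, 7, 6, 8)]),
   (0x682347501, [(0, 1, 2, 5), (5, 3, 3, 7), (7, 8, 8, 6)]),
   (0x623847501, [(0, 1, 2, 5), (5, 8, 8, 6), (6, 3, 3, 7)]),
   (0x638047512, [(0, 2, 2, 5), (3, 7, 6, 8)]),
   (0x680347512, [(0, 2, 2, 5), (5, 3, 3, 7), (7, 8, 8, 6)]),
   (0x603847512, [(0, 2, 2, 5), (5, 8, 8, 6), (6, 3, 3, 7)]),
   (0x702864531, [(0, 1, 1, 3), (3, 4, 4, 6), (6, 2, 2, 5), (5, 8, 8, 7)]),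
   (0x728064531, [(0, 1, 1, 3), (3, 4, 4, 6), (6, 8, 8, 7), (7, 2, 2, 5)]),
   (0x780264531, [(0, 1, 1, 3), (3, 4, 4, 6), (2, 5, 7, 8)]),
   (0x710864532, [(0, 2, 2, 5), (5, 8, 8, 7), (7, 1, 1, 3), (3, 4, 4, 6)]),
   (0x708164532, [(0, 2, 2, 5), (5, 1, 1, 3), (3, 4, 4, 6), (6, 8, 8, 7)]),
   (0x781064532, [(0, 2, 2, 5), (1, 3, 3, 4), (4, 6, 7, 8)]),
   (0x721864530, [(1, 3, 3, 4), (4, 6, 2, 5), (5, 8, 8, 7)]),
   (0x718264530, [(1, 3, 3, 4), (4, 6, 6, 8), (8, 7, 2, 5)]),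
   (0x782164530, [(1, 3, 3, 4), (4, 6, 6, 2), (2, 5, 7, 8)]),
   (0x526374018, [(0, 8, 8, 5), (5, 3, 3, 4), (4, 7, 7, 2)]),
   (0x532674018, [(0, 8, 8, 5), (5, 6, 6, 2), (3, 4, 4, 7)]),
   (0x563274018, [(0, 8, 8, 5), (5, 2, 3, 4), (4, 7, 7, 6)]),
   (0x506374128, [(0, 8, 8, 5), (5, 3, 3, 4), (4, 7, 1, 2)]),
   (0x530674128, [(0, 8, 8, 5), (5, 6, 1, 2), (3, 4, 4, 7)]),
   (0x563074128, [(0, 8, 8, 5), (1, 2, 3, 4), (4, 7, 7, 6)]),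
   (0x516374208, [(0, 8, 8, 5), (5, 3, 3, 4), (4, 7, 7, 1)]),
   (0x531674208, [(0, 8, 8, 5), (5, 6, 6, 1), (3, 4, 4, 7)])]

/-- Representatives. -/
def onePairReps12 : List PC :=
  [(0x563174208, [(0, 8, 8, 5), (5, 1, 3, 4), (4, 7, 7, 6)]),
   (0x863015274, [(0, 4, 4, 1), (1, 7, 7, 6), (6, 3, 3, 5)]),
   (0x830615274, [(0, 4, 4, 1), (1, 7, 7, 3), (3, 5, 5, 6)]),
   (0x806315274, [(0, 4, 4, 1), (1, 7, 3, 5)]),
   (0x863125074, [(0, 4, 4, 2), (1, 7, 7, 6), (6, 3, 3, 5)]),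
   (0x831625074, [(0, 4, 4, 2), (1, 7, 7, 3), (3, 5, 5, 6)]),
   (0x816325074, [(0, 4, 4, 2), (1, 7, 3, 5)]),
   (0x863205174, [(0, 4, 1, 7), (7, 6, 6, 3), (3, 5, 5, 2)]),
   (0x832605174, [(0, 4, 1, 7), (7, 3, 3, 5), (5, 6, 6, 2)]),
   (0x826305174, [(0, 4, 1, 7), (7, 2, 3, 5)]),
   (0x847132056, [(0, 6, 6, 7), (7, 4, 4, 3), (3, 2, 1, 5)]),
   (0x871432056, [(0, 6, 6, 1), (1, 5, 5, 4), (4, 3, 3, 2)]),
   (0x814732056, [(0, 6, 6, 4), (4, 3, 3, 2), (1, 5, 5, 7)]),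
   (0x847230156, [(0, 6, 6, 7), (7, 4, 4, 3), (1, 5, 5, 2)]),
   (0x872430156, [(0, 6, 6, 2), (2, 1, 1, 5), (5, 4, 4, 3)]),
   (0x824730156, [(0, 6, 6, 4), (4, 3, 1, 5), (5, 7, 7, 2)]),
   (0x847031256, [(0, 6, 6, 7), (7, 4, 4, 3), (3, 1, 1, 5)]),
   (0x870431256, [(0, 6, 1, 5), (5, 4, 4, 3)]),
   (0x804731256, [(0, 6, 6, 4), (4, 3, 3, 1), (1, 5, 5, 7)]),
   (0x746032518, [(0, 8, 8, 7), (7, 4, 4, 3), (3, 2, 2, 5)]),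
   (0x760432518, [(0, 8, 8, 7), (7, 6, 2, 5), (5, 4, 4, 3)]),
   (0x704632518, [(0, 8, 8, 7), (2, 5, 5, 6), (6, 4, 4, 3)]),
   (0x746130528, [(0, 8, 8, 7), (7, 4, 4, 3), (1, 2, 2, 5)]),
   (0x761430528, [(0, 8, 8, 7), (7, 6, 6, 1), (1, 2, 2, 5), (5, 4, 4, 3)]),
   (0x714630528, [(0, 8, 8, 7), (7, 1, 1, 2), (2, 5, 5, 6), (6, 4, 4, 3)]),
   (0x746231508, [(0, 8, 8, 7), (7, 4, 4, 3), (3, 1, 2, 5)]),
   (0x762431508, [(0, 8, 8, 7), (7, 6, 6, 2), (2, 5, 5, 4), (4, 3, 3, 1)]),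
   (0x724631508, [(0, 8, 8, 7), (7, 2, 2, 5), (5, 6, 6, 4), (4, 3, 3, 1)]),
   (0x601745238, [(0, 8, 8, 6), (6, 1, 1, 3), (3, 5, 5, 7)]),
   (0x617045238, [(0, 8, 8, 6), (6, 7, 7, 1), (1, 3, 3, 5)]),
   (0x670145238, [(0, 8, 8, 6), (1, 3, 3, 5)]),
   (0x612745038, [(0, 8, 8, 6), (6, 2, 1, 3), (3, 5, 5, 7)])]

/-- Representatives. -/
def onePairReps13 : List PC :=
  [(0x627145038, [(0, 8, 8, 6), (6, 7, 7, 2), (1, 3, 3, 5)]),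
   (0x671245038, [(0, 8, 8, 6), (6, 1, 1, 3), (3, 5, 5, 2)]),
   (0x620745138, [(0, 8, 8, 6), (1, 3, 3, 5), (5, 7, 7, 2)]),
   (0x607245138, [(0, 8, 8, 6), (6, 7, 1, 3), (3, 5, 5, 2)]),
   (0x672045138, [(0, 8, 8, 6), (6, 2, 2, 1), (1, 3, 3, 5)]),
   (0x605124738, [(0, 8, 8, 6), (6, 5, 5, 1), (1, 3, 3, 4), (4, 2, 2, 7)]),
   (0x610524738, [(0, 8, 8, 6), (1, 3, 3, 4), (4, 2, 2, 7)]),
   (0x651024738, [(0, 8, 8, 6), (6, 1, 1, 3), (3, 4, 4, 2), (2, 7, 7, 5)]),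
   (0x236057148, [(0, 8, 8, 2), (2, 1, 1, 4), (4, 5, 3, 7)]),
   (0x203657148, [(0, 8, 8, 2), (2, 1, 1, 4), (4, 5, 5, 6), (6, 3, 3, 7)]),
   (0x260357148, [(0, 8, 8, 2), (2, 1, 1, 4), (4, 5, 5, 3), (3, 7, 7, 6)]),
   (0x036157248, [(0, 8, 1, 4), (4, 5, 3, 7)]),
   (0x013657248, [(0, 8, 1, 4), (4, 5, 5, 6), (6, 3, 3, 7)]),
   (0x061357248, [(0, 8, 1, 4), (4, 5, 5, 3), (3, 7, 7, 6)]),
   (0x136257048, [(0, 8, 8, 1), (1, 4, 4, 5), (5, 2, 3, 7)]),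
   (0x123657048, [(0, 8, 8, 1), (1, 4, 4, 5), (5, 6, 6, 3), (3, 7, 7, 2)]),
   (0x162357048, [(0, 8, 8, 1), (1, 4, 4, 5), (5, 3, 3, 7), (7, 6, 6, 2)]),
   (0x580763421, [(0, 1, 1, 2), (2, 4, 4, 6), (5, 7, 7, 8)]),
   (0x507863421, [(0, 1, 1, 2), (2, 4, 4, 6), (6, 7, 5, 8)]),
   (0x578063421, [(0, 1, 1, 2), (2, 4, 4, 6), (6, 8, 8, 5)]),
   (0x581763402, [(0, 2, 2, 4), (4, 6, 6, 1), (5, 7, 7, 8)]),
   (0x517863402, [(0, 2, 2, 4), (4, 6, 6, 7), (7, 1, 5, 8)]),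
   (0x578163402, [(0, 2, 2, 4), (4, 6, 6, 8), (8, 5, 5, 1)]),
   (0x582763410, [(2, 4, 4, 6), (5, 7, 7, 8)]),
   (0x527863410, [(2, 4, 4, 6), (6, 7, 5, 8)]),
   (0x578263410, [(2, 4, 4, 6), (6, 8, 8, 5)]),
   (0x803714256, [(0, 6, 6, 3), (3, 4, 4, 1), (1, 5, 5, 7)]),
   (0x837014256, [(0, 6, 6, 7), (7, 3, 3, 4), (4, 1, 1, 5)]),
   (0x870314256, [(0, 6, 1, 5), (5, 3, 3, 4)]),
   (0x813724056, [(0, 6, 6, 3), (3, 4, 4, 2), (1, 5, 5, 7)]),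
   (0x837124056, [(0, 6, 6, 7), (7, 3, 3, 4), (4, 2, 1, 5)]),
   (0x871324056, [(0, 6, 6, 1), (1, 5, 5, 3), (3, 4, 4, 2)])]

/-- Representatives. -/
def onePairReps14 : List PC :=
  [(0x823704156, [(0, 6, 6, 3), (3, 4, 1, 5), (5, 7, 7, 2)]),
   (0x837204156, [(0, 6, 6, 7), (7, 3, 3, 4), (1, 5, 5, 2)]),
   (0x872304156, [(0, 6, 6, 2), (2, 1, 1, 5), (5, 3, 3, 4)]),
   (0x864512370, [(1, 7, 7, 6), (6, 4, 2, 3)]),
   (0x856412370, [(1, 7, 7, 5), (5, 4, 2, 3)]),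
   (0x845612370, [(1, 7, 7, 4), (2, 3, 5, 6)]),
   (0x864520371, [(0, 1, 1, 7), (7, 6, 6, 4), (4, 2, 2, 3)]),
   (0x856420371, [(0, 1, 1, 7), (7, 5, 5, 4), (4, 2, 2, 3)]),
   (0x845620371, [(0, 1, 1, 7), (7, 4, 4, 2), (2, 3, 5, 6)]),
   (0x864501372, [(0, 2, 2, 3), (3, 1, 1, 7), (7, 6, 6, 4)]),
   (0x856401372, [(0, 2, 2, 3), (3, 1, 1, 7), (7, 5, 5, 4)]),
   (0x845601372, [(0, 2, 2, 3), (3, 1, 1, 7), (7, 4, 5, 6)]),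
   (0x024531678, [(0, 8, 1, 7), (7, 2, 2, 6), (6, 4, 4, 3)]),
   (0x045231678, [(0, 8, 1, 7), (7, 4, 4, 3), (2, 6, 6, 5)]),
   (0x052431678, [(0, 8, 1, 7), (7, 5, 5, 4), (4, 3, 2, 6)]),
   (0x104532678, [(0, 8, 8, 1), (1, 7, 2, 6), (6, 4, 4, 3)]),
   (0x145032678, [(0, 8, 8, 1), (1, 7, 7, 4), (4, 3, 3, 2), (2, 6, 6, 5)]),
   (0x150432678, [(0, 8, 8, 1), (1, 7, 7, 5), (5, 4, 4, 3), (3, 2, 2, 6)]),
   (0x214530678, [(0, 8, 8, 2), (2, 6, 6, 4), (4, 3, 1, 7)]),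
   (0x245130678, [(0, 8, 8, 2), (2, 6, 6, 5), (5, 1, 1, 7), (7, 4, 4, 3)]),
   (0x251430678, [(0, 8, 8, 2), (2, 6, 6, 1), (1, 7, 7, 5), (5, 4, 4, 3)]),
   (0x680572134, [(0, 4, 4, 7), (7, 8, 8, 6), (1, 3, 3, 2)]),
   (0x605872134, [(0, 4, 4, 7), (1, 3, 3, 2), (5, 8, 8, 6)]),
   (0x658072134, [(0, 4, 4, 7), (7, 5, 1, 3), (3, 2, 6, 8)]),
   (0x681570234, [(0, 4, 4, 7), (7, 8, 8, 6), (6, 1, 1, 3)]),
   (0x615870234, [(0, 4, 4, 7), (7, 1, 1, 3), (5, 8, 8, 6)]),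
   (0x658170234, [(0, 4, 4, 7), (7, 5, 5, 1), (1, 3, 6, 8)]),
   (0x682571034, [(0, 4, 4, 7), (7, 8, 8, 6), (6, 2, 1, 3)]),
   (0x625871034, [(0, 4, 4, 7), (7, 2, 1, 3), (5, 8, 8, 6)]),
   (0x658271034, [(0, 4, 4, 7), (7, 5, 5, 2), (1, 3, 6, 8)]),
   (0x026473518, [(0, 8, 2, 5), (5, 4, 4, 7)]),
   (0x064273518, [(0, 8, 2, 5), (4, 7, 7, 6)])]

/-- Representatives. -/
def onePairReps15 : List PC :=
  [(0x042673518, [(0, 8, 2, 5), (5, 6, 4, 7)]),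
   (0x106473528, [(0, 8, 8, 1), (1, 2, 2, 5), (5, 4, 4, 7)]),
   (0x164073528, [(0, 8, 8, 1), (1, 2, 2, 5), (4, 7, 7, 6)]),
   (0x140673528, [(0, 8, 8, 1), (1, 2, 2, 5), (5, 6, 4, 7)]),
   (0x216473508, [(0, 8, 8, 2), (2, 5, 5, 4), (4, 7, 7, 1)]),
   (0x264173508, [(0, 8, 8, 2), (2, 5, 5, 1), (4, 7, 7, 6)]),
   (0x241673508, [(0, 8, 8, 2), (2, 5, 5, 6), (6, 1, 4, 7)]),
   (0x346815027, [(0, 7, 7, 4), (4, 1, 1, 2), (3, 5, 5, 8)]),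
   (0x368415027, [(0, 7, 7, 6), (6, 8, 8, 3), (3, 5, 5, 4), (4, 1, 1, 2)]),
   (0x384615027, [(0, 7, 7, 8), (8, 3, 3, 5), (5, 6, 6, 4), (4, 1, 1, 2)]),
   (0x346825107, [(0, 7, 7, 4), (4, 2, 2, 1), (3, 5, 5, 8)]),
   (0x368425107, [(0, 7, 7, 6), (6, 8, 8, 3), (3, 5, 5, 4), (4, 2, 2, 1)]),
   (0x384625107, [(0, 7, 7, 8), (8, 3, 3, 5), (5, 6, 6, 4), (4, 2, 2, 1)]),
   (0x346805217, [(0, 7, 7, 4), (3, 5, 5, 8)]),
   (0x368405217, [(0, 7, 7, 6), (6, 8, 8, 3), (3, 5, 5, 4)]),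
   (0x384605217, [(0, 7, 7, 8), (8, 3, 3, 5), (5, 6, 6, 4)]),
   (0x812067534, [(0, 4, 4, 6), (6, 2, 2, 5), (1, 3, 3, 7)]),
   (0x820167534, [(0, 4, 4, 6), (1, 3, 3, 7), (7, 2, 2, 5)]),
   (0x801267534, [(0, 4, 4, 6), (6, 1, 1, 3), (3, 7, 2, 5)]),
   (0x860273451, [(0, 1, 1, 5), (5, 2, 2, 4), (4, 7, 7, 6)]),
   (0x802673451, [(0, 1, 1, 5), (5, 6, 6, 2), (2, 4, 4, 7)]),
   (0x826073451, [(0, 1, 1, 5), (2, 4, 4, 7)]),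
   (0x861073452, [(0, 2, 2, 4), (4, 7, 7, 6), (6, 1, 1, 5)]),
   (0x810673452, [(0, 2, 2, 4), (4, 7, 7, 1), (1, 5, 5, 6)]),
   (0x806173452, [(0, 2, 2, 4), (4, 7, 1, 5)]),
   (0x862173450, [(1, 5, 2, 4), (4, 7, 7, 6)]),
   (0x821673450, [(1, 5, 5, 6), (2, 4, 4, 7)]),
   (0x816273450, [(1, 5, 5, 2), (2, 4, 4, 7)]),
   (0x134570826, [(0, 6, 6, 4), (4, 7, 7, 3), (1, 2, 2, 8)]),
   (0x145370826, [(0, 6, 6, 5), (5, 3, 1, 2), (2, 8, 4, 7)]),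
   (0x153470826, [(0, 6, 6, 3), (1, 2, 2, 8), (4, 7, 7, 5)]),
   (0x234571806, [(0, 6, 6, 4), (4, 7, 7, 3), (3, 1, 2, 8)])]

/-- Representatives. -/
def onePairReps16 : List PC :=
  [(0x245371806, [(0, 6, 6, 5), (5, 3, 3, 1), (2, 8, 4, 7)]),
   (0x253471806, [(0, 6, 6, 3), (3, 1, 2, 8), (4, 7, 7, 5)]),
   (0x034572816, [(0, 6, 6, 4), (4, 7, 7, 3), (3, 2, 2, 8)]),
   (0x045372816, [(0, 6, 6, 5), (5, 3, 3, 2), (2, 8, 4, 7)]),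
   (0x053472816, [(0, 6, 6, 3), (3, 2, 2, 8), (4, 7, 7, 5)]),
   (0x580162743, [(0, 3, 3, 2), (2, 7, 7, 8), (8, 5, 5, 1), (1, 4, 4, 6)]),
   (0x501862743, [(0, 3, 3, 2), (2, 7, 1, 4), (4, 6, 5, 8)]),
   (0x518062743, [(0, 3, 3, 2), (2, 7, 7, 1), (1, 4, 4, 6), (6, 8, 8, 5)]),
   (0x581260743, [(0, 3, 1, 4), (4, 6, 2, 7), (7, 8, 8, 5)]),
   (0x512860743, [(0, 3, 1, 4), (4, 6, 6, 2), (2, 7, 5, 8)]),
   (0x528160743, [(0, 3, 1, 4), (4, 6, 6, 8), (8, 5, 2, 7)]),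
   (0x582061743, [(0, 3, 3, 1), (1, 4, 4, 6), (6, 2, 2, 7), (7, 8, 8, 5)]),
   (0x520861743, [(0, 3, 3, 1), (1, 4, 4, 6), (2, 7, 5, 8)]),
   (0x508261743, [(0, 3, 3, 1), (1, 4, 4, 6), (6, 8, 8, 5), (5, 2, 2, 7)]),
   (0x267504813, [(0, 3, 3, 4), (2, 8, 6, 7)]),
   (0x275604813, [(0, 3, 3, 4), (2, 8, 5, 6)]),
   (0x256704813, [(0, 3, 3, 4), (2, 8, 5, 7)]),
   (0x067514823, [(0, 3, 3, 4), (4, 1, 1, 2), (2, 8, 6, 7)]),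
   (0x075614823, [(0, 3, 3, 4), (4, 1, 1, 2), (2, 8, 5, 6)]),
   (0x056714823, [(0, 3, 3, 4), (4, 1, 1, 2), (2, 8, 5, 7)]),
   (0x167524803, [(0, 3, 3, 4), (4, 2, 2, 8), (8, 1, 6, 7)]),
   (0x175624803, [(0, 3, 3, 4), (4, 2, 2, 8), (8, 1, 5, 6)]),
   (0x156724803, [(0, 3, 3, 4), (4, 2, 2, 8), (8, 1, 5, 7)]),
   (0x487250613, [(0, 3, 2, 6), (6, 7, 7, 8), (8, 4, 4, 5)]),
   (0x472850613, [(0, 3, 2, 6), (4, 5, 5, 8)]),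
   (0x428750613, [(0, 3, 2, 6), (6, 8, 8, 4), (4, 5, 5, 7)]),
   (0x487051623, [(0, 3, 3, 1), (1, 2, 2, 6), (6, 7, 7, 8), (8, 4, 4, 5)]),
   (0x470851623, [(0, 3, 3, 1), (1, 2, 2, 6), (4, 5, 5, 8)]),
   (0x408751623, [(0, 3, 3, 1), (1, 2, 2, 6), (6, 8, 8, 4), (4, 5, 5, 7)]),
   (0x487152603, [(0, 3, 3, 2), (2, 6, 6, 7), (7, 8, 8, 4), (4, 5, 5, 1)]),
   (0x471852603, [(0, 3, 3, 2), (2, 6, 6, 1), (4, 5, 5, 8)]),
   (0x418752603, [(0, 3, 3, 2), (2, 6, 6, 8), (8, 4, 4, 5), (5, 7, 7, 1)])]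

/-- Representatives. -/
def onePairReps17 : List PC :=
  [(0x342758610, [(2, 6, 3, 8), (4, 5, 5, 7)]),
   (0x327458610, [(2, 6, 6, 7), (3, 8, 4, 5)]),
   (0x374258610, [(2, 6, 6, 4), (4, 5, 3, 8)]),
   (0x340758621, [(0, 1, 1, 2), (2, 6, 3, 8), (4, 5, 5, 7)]),
   (0x307458621, [(0, 1, 1, 2), (2, 6, 6, 7), (3, 8, 4, 5)]),
   (0x374058621, [(0, 1, 1, 2), (2, 6, 6, 4), (4, 5, 3, 8)]),
   (0x341758602, [(0, 2, 2, 6), (6, 1, 3, 8), (4, 5, 5, 7)]),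
   (0x317458602, [(0, 2, 2, 6), (6, 7, 7, 1), (3, 8, 4, 5)]),
   (0x374158602, [(0, 2, 2, 6), (6, 4, 4, 5), (5, 1, 3, 8)]),
   (0x267345018, [(0, 8, 8, 2), (3, 5, 6, 7)]),
   (0x273645018, [(0, 8, 8, 2), (3, 5, 5, 6)]),
   (0x236745018, [(0, 8, 8, 2), (3, 5, 5, 7)]),
   (0x067345128, [(0, 8, 1, 2), (3, 5, 6, 7)]),
   (0x073645128, [(0, 8, 1, 2), (3, 5, 5, 6)]),
   (0x036745128, [(0, 8, 1, 2), (3, 5, 5, 7)]),
   (0x167345208, [(0, 8, 8, 1), (3, 5, 6, 7)]),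
   (0x173645208, [(0, 8, 8, 1), (3, 5, 5, 6)]),
   (0x136745208, [(0, 8, 8, 1), (3, 5, 5, 7)]),
   (0x410526783, [(0, 3, 3, 6), (1, 8, 8, 4), (4, 2, 2, 7)]),
   (0x405126783, [(0, 3, 3, 6), (6, 5, 5, 1), (1, 8, 8, 4), (4, 2, 2, 7)]),
   (0x451026783, [(0, 3, 3, 6), (6, 1, 1, 8), (8, 4, 4, 2), (2, 7, 7, 5)]),
   (0x173284650, [(1, 5, 5, 2), (2, 6, 6, 3), (3, 4, 4, 8)]),
   (0x132784650, [(1, 5, 5, 7), (7, 3, 3, 4), (4, 8, 2, 6)]),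
   (0x127384650, [(1, 5, 5, 3), (3, 4, 4, 8), (2, 6, 6, 7)]),
   (0x273084651, [(0, 1, 1, 5), (2, 6, 6, 3), (3, 4, 4, 8)]),
   (0x230784651, [(0, 1, 1, 5), (5, 7, 7, 3), (3, 4, 4, 8), (8, 2, 2, 6)]),
   (0x207384651, [(0, 1, 1, 5), (5, 3, 3, 4), (4, 8, 8, 2), (2, 6, 6, 7)]),
   (0x073184652, [(0, 2, 2, 6), (6, 3, 3, 4), (4, 8, 1, 5)]),
   (0x031784652, [(0, 2, 2, 6), (6, 1, 1, 5), (5, 7, 7, 3), (3, 4, 4, 8)]),
   (0x017384652, [(0, 2, 2, 6), (6, 7, 7, 1), (1, 5, 5, 3), (3, 4, 4, 8)]),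
   (0x254186037, [(0, 7, 7, 5), (5, 1, 1, 3), (3, 6, 6, 4), (4, 8, 8, 2)]),
   (0x241586037, [(0, 7, 7, 4), (4, 8, 8, 2), (1, 3, 3, 6)])]

/-- Representatives. -/
def onePairReps18 : List PC :=
  [(0x215486037, [(0, 7, 7, 1), (1, 3, 3, 6), (6, 5, 5, 4), (4, 8, 8, 2)]),
   (0x054286137, [(0, 7, 7, 5), (5, 2, 2, 1), (1, 3, 3, 6), (6, 4, 4, 8)]),
   (0x042586137, [(0, 7, 7, 4), (4, 8, 1, 3), (3, 6, 6, 2)]),
   (0x025486137, [(0, 7, 7, 2), (2, 1, 1, 3), (3, 6, 6, 5), (5, 4, 4, 8)]),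
   (0x154086237, [(0, 7, 7, 5), (1, 3, 3, 6), (6, 4, 4, 8)]),
   (0x140586237, [(0, 7, 7, 4), (4, 8, 8, 1), (1, 3, 3, 6)]),
   (0x105486237, [(0, 7, 1, 3), (3, 6, 6, 5), (5, 4, 4, 8)]),
   (0x520836174, [(0, 4, 4, 3), (3, 6, 1, 7), (7, 2, 5, 8)]),
   (0x508236174, [(0, 4, 4, 3), (3, 6, 6, 8), (8, 5, 5, 2), (2, 1, 1, 7)]),
   (0x582036174, [(0, 4, 4, 3), (3, 6, 6, 2), (2, 1, 1, 7), (7, 8, 8, 5)]),
   (0x501836274, [(0, 4, 4, 3), (3, 6, 6, 1), (1, 7, 5, 8)]),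
   (0x518036274, [(0, 4, 4, 3), (3, 6, 6, 8), (8, 5, 1, 7)]),
   (0x580136274, [(0, 4, 4, 3), (3, 6, 1, 7), (7, 8, 8, 5)]),
   (0x512836074, [(0, 4, 4, 3), (3, 6, 6, 2), (1, 7, 5, 8)]),
   (0x528136074, [(0, 4, 4, 3), (3, 6, 6, 8), (8, 5, 5, 1), (1, 7, 7, 2)]),
   (0x581236074, [(0, 4, 4, 3), (3, 6, 6, 1), (1, 7, 7, 8), (8, 5, 5, 2)]),
   (0x026483571, [(0, 1, 1, 7), (7, 2, 2, 5), (5, 4, 4, 8)]),
   (0x064283571, [(0, 1, 1, 7), (7, 6, 6, 4), (4, 8, 2, 5)]),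
   (0x042683571, [(0, 1, 1, 7), (7, 4, 4, 8), (2, 5, 5, 6)]),
   (0x106483572, [(0, 2, 2, 5), (5, 4, 4, 8), (8, 1, 1, 7)]),
   (0x164083572, [(0, 2, 2, 5), (1, 7, 7, 6), (6, 4, 4, 8)]),
   (0x140683572, [(0, 2, 2, 5), (5, 6, 1, 7), (7, 4, 4, 8)]),
   (0x216483570, [(1, 7, 2, 5), (5, 4, 4, 8)]),
   (0x264183570, [(1, 7, 7, 6), (6, 4, 4, 8), (8, 2, 2, 5)]),
   (0x241683570, [(1, 7, 7, 4), (4, 8, 8, 2), (2, 5, 5, 6)]),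
   (0x748153062, [(0, 2, 1, 6), (6, 8, 8, 7), (7, 4, 4, 5)]),
   (0x714853062, [(0, 2, 1, 6), (6, 4, 4, 5), (5, 8, 8, 7)]),
   (0x781453062, [(0, 2, 1, 6), (4, 5, 7, 8)]),
   (0x748253160, [(1, 6, 6, 8), (8, 7, 7, 4), (4, 5, 5, 2)]),
   (0x724853160, [(1, 6, 6, 4), (4, 5, 5, 8), (8, 7, 7, 2)]),
   (0x782453160, [(1, 6, 6, 2), (4, 5, 7, 8)]),
   (0x748053261, [(0, 1, 1, 6), (6, 8, 8, 7), (7, 4, 4, 5)])]

/-- Representatives. -/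
def onePairReps19 : List PC :=
  [(0x704853261, [(0, 1, 1, 6), (6, 4, 4, 5), (5, 8, 8, 7)]),
   (0x780453261, [(0, 1, 1, 6), (4, 5, 7, 8)]),
   (0x725104386, [(0, 6, 6, 5), (5, 1, 1, 8), (8, 7, 7, 2), (2, 3, 3, 4)]),
   (0x751204386, [(0, 6, 6, 1), (1, 8, 8, 7), (7, 5, 5, 2), (2, 3, 3, 4)]),
   (0x712504386, [(0, 6, 6, 2), (2, 3, 3, 4), (1, 8, 8, 7)]),
   (0x680213457, [(0, 7, 7, 8), (8, 6, 1, 5), (5, 2, 2, 4)]),
   (0x602813457, [(0, 7, 1, 5), (5, 8, 8, 6), (6, 2, 2, 4)]),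
   (0x628013457, [(0, 7, 7, 2), (2, 4, 4, 1), (1, 5, 6, 8)]),
   (0x856473210, [(4, 7, 7, 5)]),
   (0x864573210, [(4, 7, 7, 6)]),
   (0x625408371, [(0, 1, 1, 7), (7, 2, 2, 3), (3, 8, 8, 6), (6, 5, 5, 4)]),
   (0x654208371, [(0, 1, 1, 7), (7, 5, 5, 2), (2, 3, 3, 8), (8, 6, 6, 4)]),
   (0x642508371, [(0, 1, 1, 7), (7, 4, 2, 3), (3, 8, 8, 6)]),
   (0x605418372, [(0, 2, 2, 3), (3, 8, 8, 6), (6, 5, 5, 4), (4, 1, 1, 7)]),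
   (0x654018372, [(0, 2, 2, 3), (3, 8, 8, 6), (6, 4, 4, 1), (1, 7, 7, 5)]),
   (0x640518372, [(0, 2, 2, 3), (3, 8, 8, 6), (1, 7, 7, 4)]),
   (0x615428370, [(1, 7, 2, 3), (3, 8, 8, 6), (6, 5, 5, 4)]),
   (0x654128370, [(1, 7, 7, 5), (2, 3, 3, 8), (8, 6, 6, 4)]),
   (0x641528370, [(1, 7, 7, 4), (4, 2, 2, 3), (3, 8, 8, 6)]),
   (0x718530246, [(0, 6, 6, 8), (8, 7, 7, 1), (1, 4, 4, 3)]),
   (0x785130246, [(0, 6, 6, 5), (5, 1, 1, 4), (4, 3, 7, 8)]),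
   (0x751830246, [(0, 6, 6, 1), (1, 4, 4, 3), (5, 8, 8, 7)]),
   (0x728531046, [(0, 6, 6, 8), (8, 7, 7, 2), (1, 4, 4, 3)]),
   (0x785231046, [(0, 6, 6, 5), (5, 2, 1, 4), (4, 3, 7, 8)]),
   (0x752831046, [(0, 6, 6, 2), (1, 4, 4, 3), (5, 8, 8, 7)]),
   (0x708532146, [(0, 6, 6, 8), (8, 7, 1, 4), (4, 3, 3, 2)]),
   (0x785032146, [(0, 6, 6, 5), (1, 4, 4, 3), (3, 2, 7, 8)]),
   (0x750832146, [(0, 6, 1, 4), (4, 3, 3, 2), (5, 8, 8, 7)]),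
   (0x801257643, [(0, 3, 3, 7), (1, 4, 4, 5), (5, 2, 2, 6)]),
   (0x812057643, [(0, 3, 3, 7), (7, 1, 1, 4), (4, 5, 2, 6)]),
   (0x820157643, [(0, 3, 3, 7), (7, 2, 2, 6), (1, 4, 4, 5)]),
   (0x305216478, [(0, 8, 8, 3), (3, 6, 6, 5), (5, 2, 2, 4), (4, 1, 1, 7)])]

/-- Representatives. -/
def onePairReps20 : List PC :=
  [(0x320516478, [(0, 8, 8, 3), (3, 6, 1, 7), (7, 2, 2, 4)]),
   (0x352016478, [(0, 8, 8, 3), (3, 6, 6, 2), (2, 4, 4, 1), (1, 7, 7, 5)]),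
   (0x057284361, [(0, 1, 1, 6), (6, 7, 7, 5), (5, 2, 2, 3), (3, 4, 4, 8)]),
   (0x072584361, [(0, 1, 1, 6), (6, 2, 2, 3), (3, 4, 4, 8)]),
   (0x025784361, [(0, 1, 1, 6), (6, 5, 5, 7), (7, 2, 2, 3), (3, 4, 4, 8)]),
   (0x157084362, [(0, 2, 2, 3), (3, 4, 4, 8), (8, 1, 1, 6), (6, 7, 7, 5)]),
   (0x170584362, [(0, 2, 2, 3), (3, 4, 4, 8), (8, 1, 1, 6)]),
   (0x105784362, [(0, 2, 2, 3), (3, 4, 4, 8), (8, 1, 1, 6), (6, 5, 5, 7)]),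
   (0x257184360, [(1, 6, 6, 7), (7, 5, 2, 3), (3, 4, 4, 8)]),
   (0x271584360, [(1, 6, 2, 3), (3, 4, 4, 8)]),
   (0x215784360, [(1, 6, 6, 5), (5, 7, 2, 3), (3, 4, 4, 8)]),
   (0x317465028, [(0, 8, 8, 3), (3, 5, 5, 4), (4, 6, 6, 7), (7, 1, 1, 2)]),
   (0x374165028, [(0, 8, 8, 3), (3, 5, 5, 1), (1, 2, 4, 6)]),
   (0x341765028, [(0, 8, 8, 3), (3, 5, 5, 7), (7, 4, 4, 6), (6, 1, 1, 2)]),
   (0x327465108, [(0, 8, 8, 3), (3, 5, 5, 4), (4, 6, 6, 7), (7, 2, 2, 1)]),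
   (0x374265108, [(0, 8, 8, 3), (3, 5, 5, 2), (2, 1, 4, 6)]),
   (0x342765108, [(0, 8, 8, 3), (3, 5, 5, 7), (7, 4, 4, 6), (6, 2, 2, 1)]),
   (0x307465218, [(0, 8, 8, 3), (3, 5, 5, 4), (4, 6, 6, 7)]),
   (0x374065218, [(0, 8, 8, 3), (3, 5, 4, 6)]),
   (0x340765218, [(0, 8, 8, 3), (3, 5, 5, 7), (7, 4, 4, 6)]),
   (0x810327546, [(0, 6, 1, 4), (4, 2, 2, 5), (5, 3, 3, 7)]),
   (0x803127546, [(0, 6, 6, 3), (3, 7, 1, 4), (4, 2, 2, 5)]),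
   (0x831027546, [(0, 6, 6, 1), (1, 4, 4, 2), (2, 5, 3, 7)]),
   (0x813240657, [(0, 7, 7, 1), (1, 5, 5, 2), (2, 6, 6, 3)]),
   (0x821340657, [(0, 7, 7, 2), (2, 6, 6, 1), (1, 5, 5, 3)]),
   (0x832140657, [(0, 7, 7, 3), (1, 5, 2, 6)]),
   (0x823041657, [(0, 7, 7, 2), (2, 6, 6, 3), (3, 1, 1, 5)]),
   (0x802341657, [(0, 7, 1, 5), (5, 3, 2, 6)]),
   (0x830241657, [(0, 7, 7, 3), (3, 1, 1, 5), (5, 2, 2, 6)]),
   (0x803142657, [(0, 7, 1, 5), (2, 6, 6, 3)]),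
   (0x810342657, [(0, 7, 7, 1), (1, 5, 5, 3), (3, 2, 2, 6)]),
   (0x831042657, [(0, 7, 7, 3), (3, 2, 2, 6), (6, 1, 1, 5)])]

/-- Representatives. -/
def onePairReps21 : List PC :=
  [(0x503126478, [(0, 8, 8, 5), (5, 1, 1, 7), (2, 4, 3, 6)]),
   (0x510326478, [(0, 8, 8, 5), (5, 3, 3, 6), (1, 7, 2, 4)]),
   (0x531026478, [(0, 8, 8, 5), (1, 7, 7, 3), (3, 6, 2, 4)]),
   (0x074162835, [(0, 5, 5, 1), (1, 3, 3, 2), (2, 8, 4, 6)]),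
   (0x041762835, [(0, 5, 5, 7), (7, 4, 4, 6), (6, 1, 1, 3), (3, 2, 2, 8)]),
   (0x017462835, [(0, 5, 5, 4), (4, 6, 6, 7), (7, 1, 1, 3), (3, 2, 2, 8)]),
   (0x174260835, [(0, 5, 5, 2), (2, 8, 8, 1), (1, 3, 4, 6)]),
   (0x142760835, [(0, 5, 5, 7), (7, 4, 4, 6), (6, 2, 2, 8), (8, 1, 1, 3)]),
   (0x127460835, [(0, 5, 5, 4), (4, 6, 6, 7), (7, 2, 2, 8), (8, 1, 1, 3)]),
   (0x274061835, [(0, 5, 1, 3), (2, 8, 4, 6)]),
   (0x240761835, [(0, 5, 5, 7), (7, 4, 4, 6), (1, 3, 2, 8)]),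
   (0x207461835, [(0, 5, 5, 4), (4, 6, 6, 7), (1, 3, 2, 8)]),
   (0x780562431, [(0, 1, 1, 3), (3, 2, 2, 4), (4, 6, 7, 8)]),
   (0x705862431, [(0, 1, 1, 3), (3, 2, 2, 4), (4, 6, 6, 5), (5, 8, 8, 7)]),
   (0x758062431, [(0, 1, 1, 3), (3, 2, 2, 4), (4, 6, 6, 8), (8, 7, 7, 5)]),
   (0x781560432, [(0, 2, 2, 4), (4, 6, 6, 1), (1, 3, 7, 8)]),
   (0x715860432, [(0, 2, 2, 4), (4, 6, 6, 5), (5, 8, 8, 7), (7, 1, 1, 3)]),
   (0x758160432, [(0, 2, 2, 4), (4, 6, 6, 8), (8, 7, 7, 5), (5, 1, 1, 3)]),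
   (0x782561430, [(1, 3, 2, 4), (4, 6, 7, 8)]),
   (0x725861430, [(1, 3, 2, 4), (4, 6, 6, 5), (5, 8, 8, 7)]),
   (0x758261430, [(1, 3, 2, 4), (4, 6, 6, 8), (8, 7, 7, 5)]),
   (0x628537410, [(2, 4, 4, 3), (3, 7, 6, 8)]),
   (0x685237410, [(2, 4, 4, 3), (3, 7, 7, 8), (8, 6, 6, 5)]),
   (0x652837410, [(2, 4, 4, 3), (3, 7, 7, 5), (5, 8, 8, 6)]),
   (0x608537421, [(0, 1, 1, 2), (2, 4, 4, 3), (3, 7, 6, 8)]),
   (0x685037421, [(0, 1, 1, 2), (2, 4, 4, 3), (3, 7, 7, 8), (8, 6, 6, 5)]),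
   (0x650837421, [(0, 1, 1, 2), (2, 4, 4, 3), (3, 7, 7, 5), (5, 8, 8, 6)]),
   (0x618537402, [(0, 2, 2, 4), (4, 3, 3, 7), (7, 1, 6, 8)]),
   (0x685137402, [(0, 2, 2, 4), (4, 3, 3, 7), (7, 8, 8, 6), (6, 5, 5, 1)]),
   (0x651837402, [(0, 2, 2, 4), (4, 3, 3, 7), (7, 5, 5, 8), (8, 6, 6, 1)]),
   (0x275840136, [(0, 6, 6, 5), (5, 8, 8, 2), (2, 1, 1, 3)]),
   (0x258740136, [(0, 6, 6, 8), (8, 2, 2, 1), (1, 3, 5, 7)])]

/-- Representatives. -/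
def onePairReps22 : List PC :=
  [(0x287540136, [(0, 6, 6, 7), (7, 8, 8, 2), (2, 1, 1, 3)]),
   (0x075841236, [(0, 6, 6, 5), (5, 8, 1, 3)]),
   (0x058741236, [(0, 6, 6, 8), (1, 3, 5, 7)]),
   (0x087541236, [(0, 6, 6, 7), (7, 8, 1, 3)]),
   (0x175842036, [(0, 6, 6, 5), (5, 8, 8, 1), (1, 3, 3, 2)]),
   (0x158742036, [(0, 6, 6, 8), (8, 1, 1, 3), (3, 2, 5, 7)]),
   (0x187542036, [(0, 6, 6, 7), (7, 8, 8, 1), (1, 3, 3, 2)]),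
   (0x614028375, [(0, 5, 1, 7), (2, 3, 3, 8), (8, 6, 6, 4)]),
   (0x640128375, [(0, 5, 5, 1), (1, 7, 7, 4), (4, 2, 2, 3), (3, 8, 8, 6)]),
   (0x601428375, [(0, 5, 5, 4), (4, 2, 2, 3), (3, 8, 8, 6), (6, 1, 1, 7)]),
   (0x740563821, [(0, 1, 1, 2), (2, 8, 8, 7), (7, 4, 4, 6)]),
   (0x754063821, [(0, 1, 1, 2), (2, 8, 8, 7), (7, 5, 4, 6)]),
   (0x705463821, [(0, 1, 1, 2), (2, 8, 8, 7), (4, 6, 6, 5)]),
   (0x741563802, [(0, 2, 2, 8), (8, 7, 7, 4), (4, 6, 6, 1)]),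
   (0x754163802, [(0, 2, 2, 8), (8, 7, 7, 5), (5, 1, 4, 6)]),
   (0x715463802, [(0, 2, 2, 8), (8, 7, 7, 1), (4, 6, 6, 5)]),
   (0x742563810, [(2, 8, 8, 7), (7, 4, 4, 6)]),
   (0x754263810, [(2, 8, 8, 7), (7, 5, 4, 6)]),
   (0x725463810, [(2, 8, 8, 7), (4, 6, 6, 5)]),
   (0x084613527, [(0, 7, 7, 8), (1, 2, 2, 5), (5, 6, 6, 4)]),
   (0x046813527, [(0, 7, 7, 4), (4, 1, 1, 2), (2, 5, 5, 8)]),
   (0x068413527, [(0, 7, 7, 6), (6, 8, 1, 2), (2, 5, 5, 4)]),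
   (0x184623507, [(0, 7, 7, 8), (8, 1, 2, 5), (5, 6, 6, 4)]),
   (0x146823507, [(0, 7, 7, 4), (4, 2, 2, 5), (5, 8, 8, 1)]),
   (0x168423507, [(0, 7, 7, 6), (6, 8, 8, 1), (2, 5, 5, 4)]),
   (0x284603517, [(0, 7, 7, 8), (8, 2, 2, 5), (5, 6, 6, 4)]),
   (0x246803517, [(0, 7, 7, 4), (2, 5, 5, 8)]),
   (0x268403517, [(0, 7, 7, 6), (6, 8, 8, 2), (2, 5, 5, 4)]),
   (0x634078512, [(0, 2, 2, 5), (3, 8, 8, 6), (6, 4, 4, 7)]),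
   (0x603478512, [(0, 2, 2, 5), (5, 4, 4, 7), (3, 8, 8, 6)]),
   (0x640378512, [(0, 2, 2, 5), (5, 3, 3, 8), (8, 6, 4, 7)]),
   (0x634178520, [(1, 2, 2, 5), (3, 8, 8, 6), (6, 4, 4, 7)])]

/-- Representatives. -/
def onePairReps23 : List PC :=
  [(0x613478520, [(1, 2, 2, 5), (5, 4, 4, 7), (3, 8, 8, 6)]),
   (0x641378520, [(1, 2, 2, 5), (5, 3, 3, 8), (8, 6, 4, 7)]),
   (0x634278501, [(0, 1, 2, 5), (3, 8, 8, 6), (6, 4, 4, 7)]),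
   (0x623478501, [(0, 1, 2, 5), (5, 4, 4, 7), (3, 8, 8, 6)]),
   (0x642378501, [(0, 1, 2, 5), (5, 3, 3, 8), (8, 6, 4, 7)]),
   (0x612308745, [(0, 5, 5, 3), (3, 8, 8, 6), (6, 2, 2, 7), (7, 1, 1, 4)]),
   (0x631208745, [(0, 5, 5, 2), (2, 7, 7, 3), (3, 8, 8, 6), (6, 1, 1, 4)]),
   (0x623108745, [(0, 5, 5, 1), (1, 4, 2, 7), (3, 8, 8, 6)]),
   (0x561072348, [(0, 8, 8, 5), (1, 4, 4, 7), (7, 6, 2, 3)]),
   (0x510672348, [(0, 8, 8, 5), (5, 6, 1, 4), (4, 7, 2, 3)]),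
   (0x506172348, [(0, 8, 8, 5), (5, 1, 1, 4), (4, 7, 2, 3)]),
   (0x562170348, [(0, 8, 8, 5), (5, 1, 1, 4), (4, 7, 7, 6), (6, 2, 2, 3)]),
   (0x521670348, [(0, 8, 8, 5), (5, 6, 6, 1), (1, 4, 4, 7), (7, 2, 2, 3)]),
   (0x516270348, [(0, 8, 8, 5), (5, 2, 2, 3), (1, 4, 4, 7)]),
   (0x560271348, [(0, 8, 8, 5), (5, 2, 2, 3), (3, 1, 1, 4), (4, 7, 7, 6)]),
   (0x502671348, [(0, 8, 8, 5), (5, 6, 6, 2), (2, 3, 3, 1), (1, 4, 4, 7)]),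
   (0x526071348, [(0, 8, 8, 5), (1, 4, 4, 7), (7, 2, 2, 3)]),
   (0x607215834, [(0, 4, 4, 1), (1, 3, 3, 5), (5, 2, 2, 8), (8, 6, 6, 7)]),
   (0x620715834, [(0, 4, 4, 1), (1, 3, 3, 5), (5, 7, 7, 2), (2, 8, 8, 6)]),
   (0x672015834, [(0, 4, 4, 1), (1, 3, 3, 5), (2, 8, 8, 6)]),
   (0x827643150, [(1, 5, 5, 6), (6, 7, 7, 2)]),
   (0x876243150, [(1, 5, 5, 2)]),
   (0x862743150, [(1, 5, 5, 7), (7, 6, 6, 2)]),
   (0x807643251, [(0, 1, 1, 5), (5, 6, 6, 7)]),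
   (0x876043251, [(0, 1, 1, 5)]),
   (0x860743251, [(0, 1, 1, 5), (5, 7, 7, 6)]),
   (0x817643052, [(0, 2, 1, 5), (5, 6, 6, 7)]),
   (0x876143052, [(0, 2, 1, 5)]),
   (0x861743052, [(0, 2, 1, 5), (5, 7, 7, 6)]),
   (0x521407683, [(0, 3, 3, 7), (7, 2, 2, 6), (6, 1, 1, 8), (8, 5, 5, 4)]),
   (0x542107683, [(0, 3, 3, 7), (7, 4, 1, 8), (8, 5, 2, 6)]),
   (0x514207683, [(0, 3, 3, 7), (7, 1, 1, 8), (8, 5, 5, 2), (2, 6, 6, 4)])]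

/-- Representatives. -/
def onePairReps24 : List PC :=
  [(0x071524683, [(0, 3, 3, 4), (4, 2, 2, 6), (6, 1, 1, 8)]),
   (0x076124583, [(0, 3, 3, 4), (4, 2, 2, 5), (5, 1, 1, 8)]),
   (0x074125683, [(0, 3, 3, 5), (5, 1, 1, 8), (2, 6, 6, 4)]),
   (0x172504683, [(0, 3, 3, 4), (1, 8, 2, 6)]),
   (0x176204583, [(0, 3, 3, 4), (1, 8, 2, 5)]),
   (0x174205683, [(0, 3, 3, 5), (5, 2, 2, 6), (6, 4, 1, 8)]),
   (0x270514683, [(0, 3, 3, 4), (4, 1, 1, 8), (8, 2, 2, 6)]),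
   (0x276014583, [(0, 3, 3, 4), (4, 1, 1, 8), (8, 2, 2, 5)]),
   (0x274015683, [(0, 3, 3, 5), (1, 8, 8, 2), (2, 6, 6, 4)]),
   (0x260384175, [(0, 5, 5, 3), (3, 4, 4, 8), (8, 2, 2, 1), (1, 7, 7, 6)]),
   (0x206134785, [(0, 5, 5, 1), (1, 8, 8, 2), (2, 7, 3, 4)]),
   (0x207634185, [(0, 5, 5, 6), (6, 7, 1, 8), (8, 2, 3, 4)]),
   (0x061384275, [(0, 5, 5, 3), (3, 4, 4, 8), (1, 7, 7, 6)]),
   (0x016234785, [(0, 5, 5, 2), (2, 7, 7, 1), (1, 8, 3, 4)]),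
   (0x017634285, [(0, 5, 5, 6), (6, 7, 7, 1), (1, 8, 3, 4)]),
   (0x162384075, [(0, 5, 5, 3), (3, 4, 4, 8), (8, 1, 1, 7), (7, 6, 6, 2)]),
   (0x126034785, [(0, 5, 1, 8), (2, 7, 3, 4)]),
   (0x127634085, [(0, 5, 5, 6), (6, 7, 7, 2), (1, 8, 3, 4)]),
   (0x827143560, [(1, 6, 6, 7), (7, 2, 2, 5)]),
   (0x841702356, [(0, 6, 6, 1), (1, 5, 5, 7), (7, 4, 2, 3)]),
   (0x807243561, [(0, 1, 1, 6), (6, 7, 2, 5)]),
   (0x842710356, [(0, 6, 6, 2), (2, 3, 1, 5), (5, 7, 7, 4)]),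
   (0x817043562, [(0, 2, 2, 5), (1, 6, 6, 7)]),
   (0x840721356, [(0, 6, 1, 5), (5, 7, 7, 4), (4, 2, 2, 3)]),
   (0x574012863, [(0, 3, 3, 2), (2, 8, 8, 5), (1, 6, 6, 4)]),
   (0x514032786, [(0, 6, 6, 4), (4, 3, 3, 2), (2, 7, 7, 1), (1, 8, 8, 5)]),
   (0x574120863, [(0, 3, 1, 6), (6, 4, 4, 2), (2, 8, 8, 5)]),
   (0x524130786, [(0, 6, 6, 4), (4, 3, 1, 8), (8, 5, 2, 7)]),
   (0x574201863, [(0, 3, 3, 1), (1, 6, 6, 4), (2, 8, 8, 5)]),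
   (0x504231786, [(0, 6, 6, 4), (4, 3, 3, 1), (1, 8, 8, 5), (5, 2, 2, 7)]),
   (0x450381672, [(0, 2, 2, 6), (1, 7, 7, 5), (5, 3, 4, 8)]),
   (0x250384167, [(0, 7, 7, 5), (5, 3, 3, 4), (4, 8, 8, 2), (2, 1, 1, 6)])]

/-- Representatives. -/
def onePairReps25 : List PC :=
  [(0x451382670, [(1, 7, 7, 5), (5, 3, 3, 2), (2, 6, 4, 8)]),
   (0x051384267, [(0, 7, 7, 5), (5, 3, 3, 4), (4, 8, 1, 6)]),
   (0x452380671, [(0, 1, 1, 7), (7, 5, 5, 3), (2, 6, 4, 8)]),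
   (0x152384067, [(0, 7, 7, 5), (5, 3, 3, 4), (4, 8, 8, 1), (1, 6, 6, 2)]),
   (0x720645183, [(0, 3, 3, 5), (5, 6, 1, 8), (8, 7, 7, 2)]),
   (0x726035184, [(0, 4, 4, 3), (3, 5, 1, 8), (8, 7, 7, 2)]),
   (0x762105834, [(0, 4, 1, 3), (3, 5, 2, 8), (8, 7, 7, 6)]),
   (0x765201834, [(0, 4, 1, 3), (2, 8, 8, 7), (7, 6, 6, 5)]),
   (0x701645283, [(0, 3, 3, 5), (5, 6, 6, 1), (1, 8, 8, 7)]),
   (0x706135284, [(0, 4, 4, 3), (3, 5, 5, 1), (1, 8, 8, 7)]),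
   (0x760215834, [(0, 4, 4, 1), (1, 3, 3, 5), (5, 2, 2, 8), (8, 7, 7, 6)]),
   (0x765012834, [(0, 4, 4, 1), (1, 3, 3, 2), (2, 8, 8, 7), (7, 6, 6, 5)]),
   (0x712645083, [(0, 3, 3, 5), (5, 6, 6, 2), (1, 8, 8, 7)]),
   (0x716235084, [(0, 4, 4, 3), (3, 5, 5, 2), (1, 8, 8, 7)]),
   (0x761025834, [(0, 4, 4, 2), (2, 8, 8, 7), (7, 6, 6, 1), (1, 3, 3, 5)]),
   (0x765120834, [(0, 4, 4, 2), (2, 8, 8, 7), (7, 6, 6, 5), (5, 1, 1, 3)]),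
   (0x621485073, [(0, 3, 3, 5), (5, 4, 4, 8), (8, 6, 6, 1), (1, 7, 7, 2)]),
   (0x624085173, [(0, 3, 3, 5), (1, 7, 7, 2), (4, 8, 8, 6)]),
   (0x624581073, [(0, 3, 3, 1), (1, 7, 7, 2), (4, 8, 8, 6)]),
   (0x648275103, [(0, 3, 3, 5), (5, 2, 2, 1), (4, 7, 6, 8)]),
   (0x602485173, [(0, 3, 3, 5), (5, 4, 4, 8), (8, 6, 6, 2), (2, 1, 1, 7)]),
   (0x604185273, [(0, 3, 3, 5), (5, 1, 1, 7), (4, 8, 8, 6)]),
   (0x604582173, [(0, 3, 3, 2), (2, 1, 1, 7), (4, 8, 8, 6)]),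
   (0x648075213, [(0, 3, 3, 5), (4, 7, 6, 8)]),
   (0x610485273, [(0, 3, 3, 5), (5, 4, 4, 8), (8, 6, 1, 7)]),
   (0x614285073, [(0, 3, 3, 5), (5, 2, 1, 7), (4, 8, 8, 6)]),
   (0x614580273, [(0, 3, 1, 7), (4, 8, 8, 6)]),
   (0x648175023, [(0, 3, 3, 5), (5, 1, 1, 2), (4, 7, 6, 8)]),
   (0x614853027, [(0, 7, 7, 1), (1, 2, 4, 5), (5, 8, 8, 6)]),
   (0x018453627, [(0, 7, 7, 1), (1, 2, 2, 6), (6, 8, 4, 5)]),
   (0x318456027, [(0, 7, 7, 1), (1, 2, 3, 6), (6, 8, 4, 5)]),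
   (0x624853107, [(0, 7, 7, 2), (2, 1, 4, 5), (5, 8, 8, 6)])]

/-- Representatives. -/
def onePairReps26 : List PC :=
  [(0x128453607, [(0, 7, 7, 2), (2, 6, 6, 8), (8, 1, 4, 5)]),
   (0x328456107, [(0, 7, 7, 2), (2, 1, 3, 6), (6, 8, 4, 5)]),
   (0x604853217, [(0, 7, 4, 5), (5, 8, 8, 6)]),
   (0x208453617, [(0, 7, 2, 6), (6, 8, 4, 5)]),
   (0x308456217, [(0, 7, 3, 6), (6, 8, 4, 5)]),
   (0x306215874, [(0, 4, 4, 1), (1, 7, 2, 8), (8, 3, 3, 5)]),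
   (0x312640587, [(0, 7, 7, 1), (1, 8, 8, 3), (2, 5, 5, 6)]),
   (0x352610874, [(0, 4, 4, 1), (1, 7, 7, 5), (5, 6, 6, 2), (2, 8, 8, 3)]),
   (0x316025874, [(0, 4, 4, 2), (2, 8, 8, 3), (3, 5, 1, 7)]),
   (0x320641587, [(0, 7, 7, 2), (2, 5, 5, 6), (1, 8, 8, 3)]),
   (0x350621874, [(0, 4, 4, 2), (2, 8, 8, 3), (3, 1, 1, 7), (7, 5, 5, 6)]),
   (0x326105874, [(0, 4, 1, 7), (7, 2, 2, 8), (8, 3, 3, 5)]),
   (0x301642587, [(0, 7, 1, 8), (8, 3, 3, 2), (2, 5, 5, 6)]),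
   (0x351602874, [(0, 4, 1, 7), (7, 5, 5, 6), (2, 8, 8, 3)]),
   (0x546721380, [(1, 8, 8, 5), (5, 7, 7, 4), (4, 2, 2, 3)]),
   (0x562481370, [(1, 7, 7, 6), (6, 2, 2, 3), (4, 8, 8, 5)]),
   (0x546702381, [(0, 1, 1, 8), (8, 5, 5, 7), (7, 4, 2, 3)]),
   (0x560482371, [(0, 1, 1, 7), (7, 6, 2, 3), (4, 8, 8, 5)]),
   (0x546710382, [(0, 2, 2, 3), (1, 8, 8, 5), (5, 7, 7, 4)]),
   (0x561480372, [(0, 2, 2, 3), (1, 7, 7, 6), (4, 8, 8, 5)]),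
   (0x523076814, [(0, 4, 4, 7), (7, 2, 2, 8), (8, 5, 3, 6)]),
   (0x503176824, [(0, 4, 4, 7), (1, 2, 2, 8), (8, 5, 3, 6)]),
   (0x513276804, [(0, 4, 4, 7), (7, 1, 2, 8), (8, 5, 3, 6)]),
   (0x540672381, [(0, 1, 1, 8), (8, 5, 5, 6), (2, 3, 4, 7)]),
   (0x541670382, [(0, 2, 2, 3), (1, 8, 8, 5), (5, 6, 4, 7)]),
   (0x542671380, [(1, 8, 8, 5), (5, 6, 6, 2), (2, 3, 4, 7)]),
   (0x012576843, [(0, 3, 3, 6), (6, 2, 2, 8), (1, 4, 4, 7)]),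
   (0x072541683, [(0, 3, 3, 1), (1, 8, 2, 6)]),
   (0x120576843, [(0, 3, 3, 6), (1, 4, 4, 7), (7, 2, 2, 8)]),
   (0x170542683, [(0, 3, 3, 2), (2, 6, 1, 8)]),
   (0x201576843, [(0, 3, 3, 6), (6, 1, 1, 4), (4, 7, 2, 8)]),
   (0x271540683, [(0, 3, 1, 8), (8, 2, 2, 6)])]

/-- Representatives. -/
def onePairReps27 : List PC :=
  [(0x145278603, [(0, 3, 3, 8), (8, 1, 2, 6), (6, 5, 4, 7)]),
   (0x245078613, [(0, 3, 3, 8), (8, 2, 2, 6), (6, 5, 4, 7)]),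
   (0x045178623, [(0, 3, 3, 8), (1, 2, 2, 6), (6, 5, 4, 7)]),
   (0x468720513, [(0, 3, 2, 5), (5, 7, 7, 6), (6, 8, 8, 4)]),
   (0x168720534, [(0, 4, 4, 2), (2, 5, 5, 7), (7, 6, 6, 8), (8, 1, 1, 3)]),
   (0x068725134, [(0, 4, 4, 2), (2, 1, 1, 3), (3, 5, 5, 7), (7, 6, 6, 8)]),
   (0x468701523, [(0, 3, 3, 1), (1, 2, 2, 5), (5, 7, 7, 6), (6, 8, 8, 4)]),
   (0x268701534, [(0, 4, 1, 3), (2, 5, 5, 7), (7, 6, 6, 8)]),
   (0x168705234, [(0, 4, 1, 3), (3, 5, 5, 7), (7, 6, 6, 8)]),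
   (0x468712503, [(0, 3, 3, 2), (2, 5, 5, 7), (7, 6, 6, 8), (8, 4, 4, 1)]),
   (0x068712534, [(0, 4, 4, 1), (1, 3, 3, 2), (2, 5, 5, 7), (7, 6, 6, 8)]),
   (0x268715034, [(0, 4, 4, 1), (1, 3, 3, 5), (5, 7, 7, 6), (6, 8, 8, 2)]),
   (0x627453108, [(0, 8, 8, 6), (6, 7, 7, 2), (2, 1, 4, 5)]),
   (0x607453218, [(0, 8, 8, 6), (6, 7, 4, 5)]),
   (0x617453028, [(0, 8, 8, 6), (6, 7, 7, 1), (1, 2, 4, 5)]),
   (0x872654103, [(0, 3, 3, 4), (4, 5, 5, 6), (6, 2, 2, 1)]),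
   (0x472651038, [(0, 8, 8, 4), (4, 5, 5, 6), (6, 2, 1, 3)]),
   (0x870654213, [(0, 3, 3, 4), (4, 5, 5, 6)]),
   (0x470652138, [(0, 8, 8, 4), (4, 5, 5, 6), (1, 3, 3, 2)]),
   (0x871654023, [(0, 3, 3, 4), (4, 5, 5, 6), (6, 1, 1, 2)]),
   (0x471650238, [(0, 8, 8, 4), (4, 5, 5, 6), (6, 1, 1, 3)]),
   (0x506832741, [(0, 1, 1, 4), (4, 3, 3, 2), (2, 7, 5, 8)]),
   (0x516830742, [(0, 2, 2, 7), (7, 1, 1, 4), (4, 3, 5, 8)]),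
   (0x526831740, [(1, 4, 4, 3), (2, 7, 5, 8)]),
   (0x240856137, [(0, 7, 7, 4), (4, 5, 5, 8), (8, 2, 2, 1), (1, 3, 3, 6)]),
   (0x284530617, [(0, 7, 7, 8), (8, 2, 2, 6), (6, 4, 4, 3)]),
   (0x248650137, [(0, 7, 7, 4), (4, 5, 5, 6), (6, 8, 8, 2), (2, 1, 1, 3)]),
   (0x041856237, [(0, 7, 7, 4), (4, 5, 5, 8), (1, 3, 3, 6)]),
   (0x084531627, [(0, 7, 7, 8), (1, 2, 2, 6), (6, 4, 4, 3)]),
   (0x048651237, [(0, 7, 7, 4), (4, 5, 5, 6), (6, 8, 1, 3)]),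
   (0x142856037, [(0, 7, 7, 4), (4, 5, 5, 8), (8, 1, 1, 3), (3, 6, 6, 2)]),
   (0x184532607, [(0, 7, 7, 8), (8, 1, 2, 6), (6, 4, 4, 3)])]

/-- Representatives. -/
def onePairReps28 : List PC :=
  [(0x148652037, [(0, 7, 7, 4), (4, 5, 5, 6), (6, 8, 8, 1), (1, 3, 3, 2)]),
   (0x718465023, [(0, 3, 3, 5), (5, 4, 4, 6), (6, 8, 8, 7), (7, 1, 1, 2)]),
   (0x714835026, [(0, 6, 6, 4), (4, 3, 3, 5), (5, 8, 8, 7), (7, 1, 1, 2)]),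
   (0x780145236, [(0, 6, 1, 3), (3, 5, 7, 8)]),
   (0x781245036, [(0, 6, 6, 1), (1, 3, 3, 5), (5, 2, 7, 8)]),
   (0x728465103, [(0, 3, 3, 5), (5, 4, 4, 6), (6, 8, 8, 7), (7, 2, 2, 1)]),
   (0x724835106, [(0, 6, 6, 4), (4, 3, 3, 5), (5, 8, 8, 7), (7, 2, 2, 1)]),
   (0x782045136, [(0, 6, 6, 2), (2, 1, 1, 3), (3, 5, 7, 8)]),
   (0x708465213, [(0, 3, 3, 5), (5, 4, 4, 6), (6, 8, 8, 7)]),
   (0x704835216, [(0, 6, 6, 4), (4, 3, 3, 5), (5, 8, 8, 7)]),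
   (0x241368705, [(0, 5, 5, 3), (3, 8, 8, 2), (2, 7, 7, 4), (4, 6, 6, 1)]),
   (0x843162705, [(0, 5, 5, 1), (2, 7, 7, 4), (4, 6, 6, 3)]),
   (0x042368715, [(0, 5, 5, 3), (3, 8, 2, 7), (7, 4, 4, 6)]),
   (0x843260715, [(0, 5, 5, 2), (2, 7, 7, 4), (4, 6, 6, 3)]),
   (0x140368725, [(0, 5, 5, 3), (3, 8, 8, 1), (1, 2, 2, 7), (7, 4, 4, 6)]),
   (0x843061725, [(0, 5, 1, 2), (2, 7, 7, 4), (4, 6, 6, 3)]),
   (0x028371456, [(0, 6, 6, 8), (1, 5, 5, 3), (2, 4, 4, 7)]),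
   (0x028473156, [(0, 6, 6, 8), (1, 5, 5, 4), (4, 7, 7, 2)]),
   (0x082763145, [(0, 5, 5, 7), (7, 8, 1, 4), (4, 6, 6, 2)]),
   (0x108372456, [(0, 6, 6, 8), (8, 1, 1, 5), (5, 3, 3, 2), (2, 4, 4, 7)]),
   (0x108473256, [(0, 6, 6, 8), (8, 1, 1, 5), (5, 4, 4, 7)]),
   (0x180763245, [(0, 5, 5, 7), (7, 8, 8, 1), (1, 4, 4, 6)]),
   (0x218370456, [(0, 6, 6, 8), (8, 2, 2, 4), (4, 7, 7, 1), (1, 5, 5, 3)]),
   (0x218473056, [(0, 6, 6, 8), (8, 2, 1, 5), (5, 4, 4, 7)]),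
   (0x281763045, [(0, 5, 5, 7), (7, 8, 8, 2), (1, 4, 4, 6)]),
   (0x206458317, [(0, 7, 2, 3), (3, 8, 4, 5)]),
   (0x304658172, [(0, 2, 2, 1), (1, 7, 3, 8), (4, 5, 5, 6)]),
   (0x016458327, [(0, 7, 7, 1), (1, 2, 2, 3), (3, 8, 4, 5)]),
   (0x314658270, [(1, 7, 3, 8), (4, 5, 5, 6)]),
   (0x126458307, [(0, 7, 7, 2), (2, 3, 3, 8), (8, 1, 4, 5)]),
   (0x324658071, [(0, 1, 1, 7), (7, 2, 3, 8), (4, 5, 5, 6)]),
   (0x415068732, [(0, 2, 2, 7), (7, 1, 1, 3), (3, 8, 8, 4), (4, 6, 6, 5)])]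

/-- Representatives. -/
def onePairReps29 : List PC :=
  [(0x401758326, [(0, 6, 6, 1), (1, 2, 2, 3), (3, 8, 8, 4), (4, 5, 5, 7)]),
   (0x403158726, [(0, 6, 6, 3), (3, 8, 8, 4), (4, 5, 5, 1), (1, 2, 2, 7)]),
   (0x408157326, [(0, 6, 6, 8), (8, 4, 4, 5), (5, 1, 1, 2), (2, 3, 3, 7)]),
   (0x425168730, [(1, 3, 3, 8), (8, 4, 4, 6), (6, 5, 2, 7)]),
   (0x412758306, [(0, 6, 6, 2), (2, 3, 3, 8), (8, 4, 4, 5), (5, 7, 7, 1)]),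
   (0x413258706, [(0, 6, 6, 3), (3, 8, 8, 4), (4, 5, 5, 2), (2, 7, 7, 1)]),
   (0x418257306, [(0, 6, 6, 8), (8, 4, 4, 5), (5, 2, 2, 3), (3, 7, 7, 1)]),
   (0x405268731, [(0, 1, 1, 3), (3, 8, 8, 4), (4, 6, 6, 5), (5, 2, 2, 7)]),
   (0x420758316, [(0, 6, 2, 3), (3, 8, 8, 4), (4, 5, 5, 7)]),
   (0x423058716, [(0, 6, 6, 3), (3, 8, 8, 4), (4, 5, 2, 7)]),
   (0x428057316, [(0, 6, 6, 8), (8, 4, 4, 5), (2, 3, 3, 7)]),
   (0x278461350, [(1, 5, 5, 4), (4, 6, 6, 8), (8, 2, 2, 3)]),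
   (0x268451370, [(1, 7, 7, 6), (6, 8, 8, 2), (2, 3, 4, 5)]),
   (0x078462351, [(0, 1, 1, 5), (5, 4, 4, 6), (6, 8, 2, 3)]),
   (0x068452371, [(0, 1, 1, 7), (7, 6, 6, 8), (2, 3, 4, 5)]),
   (0x178460352, [(0, 2, 2, 3), (1, 5, 5, 4), (4, 6, 6, 8)]),
   (0x168450372, [(0, 2, 2, 3), (1, 7, 7, 6), (6, 8, 4, 5)]),
   (0x214835067, [(0, 7, 7, 1), (1, 6, 6, 4), (4, 3, 3, 5), (5, 8, 8, 2)]),
   (0x204815673, [(0, 3, 3, 5), (5, 8, 8, 2), (2, 6, 6, 4), (4, 1, 1, 7)]),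
   (0x024835167, [(0, 7, 7, 2), (2, 1, 1, 6), (6, 4, 4, 3), (3, 5, 5, 8)]),
   (0x014825673, [(0, 3, 3, 5), (5, 8, 1, 7), (2, 6, 6, 4)]),
   (0x104835267, [(0, 7, 1, 6), (6, 4, 4, 3), (3, 5, 5, 8)]),
   (0x124805673, [(0, 3, 3, 5), (5, 8, 8, 1), (1, 7, 7, 2), (2, 6, 6, 4)]),
   (0x268745130, [(1, 3, 3, 5), (5, 7, 7, 6), (6, 8, 8, 2)]),
   (0x068745231, [(0, 1, 1, 3), (3, 5, 5, 7), (7, 6, 6, 8)]),
   (0x168745032, [(0, 2, 1, 3), (3, 5, 5, 7), (7, 6, 6, 8)]),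
   (0x016854723, [(0, 3, 3, 4), (4, 5, 5, 8), (1, 2, 2, 7)]),
   (0x058631472, [(0, 2, 2, 4), (4, 3, 3, 1), (1, 7, 7, 5), (5, 6, 6, 8)]),
   (0x126854703, [(0, 3, 3, 4), (4, 5, 5, 8), (8, 1, 2, 7)]),
   (0x158632470, [(1, 7, 7, 5), (5, 6, 6, 8), (2, 4, 4, 3)]),
   (0x206854713, [(0, 3, 3, 4), (4, 5, 5, 8), (8, 2, 2, 7)]),
   (0x258630471, [(0, 1, 1, 7), (7, 5, 5, 6), (6, 8, 8, 2), (2, 4, 4, 3)])]

/-- Representatives. -/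
def onePairReps30 : List PC :=
  [(0x453621708, [(0, 8, 8, 4), (4, 2, 2, 7), (7, 5, 5, 6), (6, 3, 3, 1)]),
   (0x756321084, [(0, 4, 4, 2), (1, 8, 8, 7), (7, 5, 5, 3)]),
   (0x053621784, [(0, 4, 4, 2), (2, 7, 7, 5), (5, 6, 6, 3), (3, 1, 1, 8)]),
   (0x453602718, [(0, 8, 8, 4), (2, 7, 7, 5), (5, 6, 6, 3)]),
   (0x756302184, [(0, 4, 1, 8), (8, 7, 7, 5), (5, 3, 3, 2)]),
   (0x153602784, [(0, 4, 1, 8), (2, 7, 7, 5), (5, 6, 6, 3)]),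
   (0x453610728, [(0, 8, 8, 4), (4, 1, 1, 2), (2, 7, 7, 5), (5, 6, 6, 3)]),
   (0x756310284, [(0, 4, 4, 1), (1, 8, 8, 7), (7, 5, 5, 3)]),
   (0x253610784, [(0, 4, 4, 1), (1, 8, 8, 2), (2, 7, 7, 5), (5, 6, 6, 3)]),
   (0x617804325, [(0, 5, 5, 8), (8, 6, 6, 7), (7, 1, 1, 2), (2, 3, 3, 4)]),
   (0x627814305, [(0, 5, 5, 8), (8, 6, 6, 7), (7, 2, 2, 3), (3, 4, 4, 1)]),
   (0x607824315, [(0, 5, 5, 8), (8, 6, 6, 7), (2, 3, 3, 4)]),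
   (0x205814763, [(0, 3, 3, 4), (4, 1, 1, 6), (6, 5, 5, 8), (8, 2, 2, 7)]),
   (0x015824763, [(0, 3, 3, 4), (4, 2, 2, 7), (7, 1, 1, 6), (6, 5, 5, 8)]),
   (0x125804763, [(0, 3, 3, 4), (1, 6, 6, 5), (5, 8, 2, 7)]),
   (0x752801436, [(0, 6, 6, 2), (2, 4, 1, 3), (5, 8, 8, 7)]),
   (0x751804236, [(0, 6, 6, 1), (1, 3, 3, 4), (5, 8, 8, 7)]),
   (0x750812436, [(0, 6, 1, 3), (3, 2, 2, 4), (5, 8, 8, 7)]),
   (0x752814036, [(0, 6, 6, 2), (1, 3, 3, 4), (5, 8, 8, 7)]),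
   (0x751820436, [(0, 6, 6, 1), (1, 3, 2, 4), (5, 8, 8, 7)]),
   (0x750824136, [(0, 6, 1, 3), (3, 4, 4, 2), (5, 8, 8, 7)]),
   (0x163758024, [(0, 4, 4, 5), (5, 7, 7, 6), (6, 3, 3, 8), (8, 1, 1, 2)]),
   (0x136278045, [(0, 5, 5, 2), (1, 4, 4, 7), (7, 3, 3, 8)]),
   (0x136870245, [(0, 5, 5, 8), (8, 1, 1, 4), (4, 7, 7, 3)]),
   (0x263758104, [(0, 4, 4, 5), (5, 7, 7, 6), (6, 3, 3, 8), (8, 2, 2, 1)]),
   (0x236078145, [(0, 5, 1, 4), (4, 7, 7, 3), (3, 8, 8, 2)]),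
   (0x236871045, [(0, 5, 5, 8), (8, 2, 1, 4), (4, 7, 7, 3)]),
   (0x063758214, [(0, 4, 4, 5), (5, 7, 7, 6), (6, 3, 3, 8)]),
   (0x036178245, [(0, 5, 5, 1), (1, 4, 4, 7), (7, 3, 3, 8)]),
   (0x036872145, [(0, 5, 5, 8), (1, 4, 4, 7), (7, 3, 3, 2)]),
   (0x402716853, [(0, 3, 3, 6), (6, 2, 2, 8), (8, 4, 4, 1), (1, 5, 5, 7)]),
   (0x470156823, [(0, 3, 3, 6), (1, 2, 2, 8), (8, 4, 4, 5)])]

/-- Representatives. -/
def onePairReps31 : List PC :=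
  [(0x407816253, [(0, 3, 3, 6), (6, 7, 1, 5), (5, 8, 8, 4)]),
   (0x410726853, [(0, 3, 3, 6), (1, 5, 5, 7), (2, 8, 8, 4)]),
   (0x471256803, [(0, 3, 3, 6), (6, 1, 2, 8), (8, 4, 4, 5)]),
   (0x417826053, [(0, 3, 3, 6), (6, 7, 7, 1), (1, 5, 5, 8), (8, 4, 4, 2)]),
   (0x421706853, [(0, 3, 3, 6), (6, 1, 1, 5), (5, 7, 7, 2), (2, 8, 8, 4)]),
   (0x472056813, [(0, 3, 3, 6), (6, 2, 2, 8), (8, 4, 4, 5)]),
   (0x427806153, [(0, 3, 3, 6), (6, 7, 7, 2), (2, 1, 1, 5), (5, 8, 8, 4)]),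
   (0x673182405, [(0, 5, 5, 1), (2, 4, 4, 8), (8, 6, 6, 3)]),
   (0x673280415, [(0, 5, 5, 2), (2, 4, 4, 8), (8, 6, 6, 3)]),
   (0x673081425, [(0, 5, 1, 2), (2, 4, 4, 8), (8, 6, 6, 3)]),
   (0x837152604, [(0, 4, 4, 5), (5, 1, 2, 6), (6, 7, 7, 3)]),
   (0x816372054, [(0, 4, 4, 7), (7, 1, 1, 5), (5, 3, 3, 2)]),
   (0x837250614, [(0, 4, 4, 5), (5, 2, 2, 6), (6, 7, 7, 3)]),
   (0x826370154, [(0, 4, 4, 7), (7, 2, 2, 1), (1, 5, 5, 3)]),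
   (0x837051624, [(0, 4, 4, 5), (1, 2, 2, 6), (6, 7, 7, 3)]),
   (0x806371254, [(0, 4, 4, 7), (1, 5, 5, 3)]),
   (0x872056143, [(0, 3, 3, 6), (6, 2, 2, 1), (1, 4, 4, 5)]),
   (0x805736124, [(0, 4, 4, 3), (3, 6, 6, 5), (5, 7, 1, 2)]),
   (0x870156243, [(0, 3, 3, 6), (1, 4, 4, 5)]),
   (0x815736204, [(0, 4, 4, 3), (3, 6, 6, 5), (5, 7, 7, 1)]),
   (0x871256043, [(0, 3, 3, 6), (6, 1, 1, 4), (4, 5, 5, 2)]),
   (0x825736014, [(0, 4, 4, 3), (3, 6, 6, 5), (5, 7, 7, 2)]),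
   (0x724061385, [(0, 5, 1, 8), (8, 7, 7, 2), (2, 3, 4, 6)]),
   (0x704162385, [(0, 5, 5, 1), (1, 8, 8, 7), (2, 3, 4, 6)]),
   (0x714260385, [(0, 5, 5, 2), (2, 3, 1, 8), (8, 7, 4, 6)]),
   (0x610834572, [(0, 2, 2, 5), (5, 8, 8, 6), (1, 7, 3, 4)]),
   (0x687104523, [(0, 3, 3, 4), (1, 2, 2, 5), (6, 7, 7, 8)]),
   (0x621834570, [(1, 7, 7, 2), (2, 5, 5, 8), (8, 6, 3, 4)]),
   (0x687214503, [(0, 3, 3, 4), (4, 1, 2, 5), (6, 7, 7, 8)]),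
   (0x602834571, [(0, 1, 1, 7), (2, 5, 5, 8), (8, 6, 3, 4)]),
   (0x687024513, [(0, 3, 3, 4), (4, 2, 2, 5), (6, 7, 7, 8)]),
   (0x263158407, [(0, 7, 7, 6), (6, 3, 3, 8), (8, 2, 2, 4), (4, 5, 5, 1)])]

/-- Representatives. -/
def onePairReps32 : List PC :=
  [(0x253106847, [(0, 7, 7, 5), (5, 1, 1, 4), (2, 8, 3, 6)]),
   (0x063258417, [(0, 7, 7, 6), (6, 3, 3, 8), (2, 4, 4, 5)]),
   (0x053216847, [(0, 7, 7, 5), (5, 2, 2, 8), (1, 4, 3, 6)]),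
   (0x163058427, [(0, 7, 7, 6), (6, 3, 3, 8), (8, 1, 1, 2), (2, 4, 4, 5)]),
   (0x153026847, [(0, 7, 7, 5), (1, 4, 4, 2), (2, 8, 3, 6)]),
   (0x047523618, [(0, 8, 2, 6), (6, 7, 7, 4)]),
   (0x027514368, [(0, 8, 1, 6), (6, 7, 7, 2), (2, 3, 3, 4)]),
   (0x147503628, [(0, 8, 8, 1), (1, 2, 2, 6), (6, 7, 7, 4)]),
   (0x107524368, [(0, 8, 8, 1), (1, 6, 6, 7), (2, 3, 3, 4)]),
   (0x247513608, [(0, 8, 8, 2), (2, 6, 6, 7), (7, 4, 4, 1)]),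
   (0x217504368, [(0, 8, 8, 2), (2, 3, 3, 4), (1, 6, 6, 7)]),
   (0x615748203, [(0, 3, 3, 8), (8, 6, 6, 5), (5, 7, 7, 1)]),
   (0x618742503, [(0, 3, 3, 2), (2, 5, 5, 7), (7, 1, 6, 8)]),
   (0x625748013, [(0, 3, 3, 8), (8, 6, 6, 5), (5, 7, 7, 2)]),
   (0x628740513, [(0, 3, 2, 5), (5, 7, 6, 8)]),
   (0x605748123, [(0, 3, 3, 8), (8, 6, 6, 5), (5, 7, 1, 2)]),
   (0x608741523, [(0, 3, 3, 1), (1, 2, 2, 5), (5, 7, 6, 8)]),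
   (0x275038461, [(0, 1, 1, 6), (6, 5, 2, 4), (4, 3, 3, 8)]),
   (0x258704631, [(0, 1, 1, 3), (3, 4, 2, 6), (6, 8, 5, 7)]),
   (0x075138462, [(0, 2, 2, 4), (4, 3, 3, 8), (1, 6, 6, 5)]),
   (0x058714632, [(0, 2, 2, 6), (6, 8, 1, 3), (3, 4, 5, 7)]),
   (0x175238460, [(1, 6, 6, 5), (5, 2, 2, 4), (4, 3, 3, 8)]),
   (0x158724630, [(1, 3, 3, 4), (4, 2, 2, 6), (6, 8, 5, 7)]),
   (0x365182470, [(1, 7, 7, 6), (6, 5, 2, 4), (4, 8, 8, 3)]),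
   (0x365280471, [(0, 1, 1, 7), (7, 6, 6, 5), (5, 2, 2, 4), (4, 8, 8, 3)]),
   (0x365081472, [(0, 2, 2, 4), (4, 8, 8, 3), (3, 1, 1, 7), (7, 6, 6, 5)]),
   (0x570186234, [(0, 4, 4, 8), (8, 5, 5, 1), (1, 3, 3, 6)]),
   (0x520187634, [(0, 4, 4, 8), (8, 5, 5, 1), (1, 3, 3, 7), (7, 2, 2, 6)]),
   (0x571286034, [(0, 4, 4, 8), (8, 5, 5, 2), (1, 3, 3, 6)]),
   (0x501287634, [(0, 4, 4, 8), (8, 5, 5, 2), (2, 6, 6, 1), (1, 3, 3, 7)]),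
   (0x572086134, [(0, 4, 4, 8), (8, 5, 1, 3), (3, 6, 6, 2)]),
   (0x512087634, [(0, 4, 4, 8), (8, 5, 1, 3), (3, 7, 2, 6)])]

/-- Representatives. -/
def onePairReps33 : List PC :=
  [(0x743528016, [(0, 6, 6, 3), (3, 8, 8, 7), (7, 4, 4, 2)]),
   (0x725368041, [(0, 1, 1, 4), (4, 6, 6, 5), (5, 3, 3, 8), (8, 7, 7, 2)]),
   (0x723518046, [(0, 6, 6, 3), (3, 8, 8, 7), (7, 2, 1, 4)]),
   (0x705328416, [(0, 6, 6, 5), (5, 3, 3, 8), (8, 7, 2, 4)]),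
   (0x743508126, [(0, 6, 6, 3), (3, 8, 8, 7), (7, 4, 1, 2)]),
   (0x705368142, [(0, 2, 2, 1), (1, 4, 4, 6), (6, 5, 5, 3), (3, 8, 8, 7)]),
   (0x715308426, [(0, 6, 6, 5), (5, 3, 3, 8), (8, 7, 7, 1), (1, 2, 2, 4)]),
   (0x743518206, [(0, 6, 6, 3), (3, 8, 8, 7), (7, 4, 4, 1)]),
   (0x715368240, [(1, 4, 4, 6), (6, 5, 5, 3), (3, 8, 8, 7)]),
   (0x147526308, [(0, 8, 8, 1), (2, 3, 3, 6), (6, 7, 7, 4)]),
   (0x247506318, [(0, 8, 8, 2), (2, 3, 3, 6), (6, 7, 7, 4)]),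
   (0x047516328, [(0, 8, 1, 2), (2, 3, 3, 6), (6, 7, 7, 4)]),
   (0x107483265, [(0, 5, 5, 4), (4, 8, 8, 1), (1, 6, 6, 7)]),
   (0x107382465, [(0, 5, 5, 3), (3, 2, 2, 4), (4, 8, 8, 1), (1, 6, 6, 7)]),
   (0x178063245, [(0, 5, 1, 4), (4, 6, 6, 8)]),
   (0x217483065, [(0, 5, 5, 4), (4, 8, 8, 2), (1, 6, 6, 7)]),
   (0x217380465, [(0, 5, 5, 3), (1, 6, 6, 7), (2, 4, 4, 8)]),
   (0x278163045, [(0, 5, 5, 1), (1, 4, 4, 6), (6, 8, 8, 2)]),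
   (0x027483165, [(0, 5, 5, 4), (4, 8, 1, 6), (6, 7, 7, 2)]),
   (0x027381465, [(0, 5, 5, 3), (3, 1, 1, 6), (6, 7, 7, 2), (2, 4, 4, 8)]),
   (0x078263145, [(0, 5, 5, 2), (2, 1, 1, 4), (4, 6, 6, 8)]),
   (0x036754218, [(0, 8, 3, 4), (4, 5, 5, 7)]),
   (0x075384261, [(0, 1, 1, 6), (6, 5, 5, 3), (3, 4, 4, 8)]),
   (0x073514268, [(0, 8, 1, 6), (6, 3, 3, 4)]),
   (0x136754028, [(0, 8, 8, 1), (1, 2, 3, 4), (4, 5, 5, 7)]),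
   (0x175384062, [(0, 2, 1, 6), (6, 5, 5, 3), (3, 4, 4, 8)]),
   (0x173524068, [(0, 8, 8, 1), (1, 6, 6, 3), (3, 4, 4, 2)]),
   (0x236754108, [(0, 8, 8, 2), (2, 1, 3, 4), (4, 5, 5, 7)]),
   (0x275384160, [(1, 6, 6, 5), (5, 3, 3, 4), (4, 8, 8, 2)]),
   (0x273504168, [(0, 8, 8, 2), (2, 1, 1, 6), (6, 3, 3, 4)]),
   (0x410263587, [(0, 7, 7, 1), (1, 8, 8, 4), (4, 6, 2, 5)]),
   (0x512063874, [(0, 4, 4, 6), (6, 2, 2, 8), (8, 5, 1, 7)])]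

/-- Representatives. -/
def onePairReps34 : List PC :=
  [(0x421063587, [(0, 7, 7, 2), (2, 5, 1, 8), (8, 4, 4, 6)]),
   (0x520163874, [(0, 4, 4, 6), (1, 7, 7, 2), (2, 8, 8, 5)]),
   (0x402163587, [(0, 7, 1, 8), (8, 4, 4, 6), (6, 2, 2, 5)]),
   (0x501263874, [(0, 4, 4, 6), (6, 1, 1, 7), (2, 8, 8, 5)]),
   (0x012586734, [(0, 4, 4, 8), (1, 3, 3, 6), (6, 2, 2, 7)]),
   (0x016587234, [(0, 4, 4, 8), (1, 3, 3, 7)]),
   (0x051836724, [(0, 4, 4, 3), (3, 6, 6, 1), (1, 2, 2, 7), (7, 5, 5, 8)]),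
   (0x015786234, [(0, 4, 4, 8), (1, 3, 3, 6), (6, 5, 5, 7)]),
   (0x120586734, [(0, 4, 4, 8), (8, 1, 1, 3), (3, 6, 2, 7)]),
   (0x126587034, [(0, 4, 4, 8), (8, 1, 1, 3), (3, 7, 7, 2)]),
   (0x152836704, [(0, 4, 4, 3), (3, 6, 6, 2), (2, 7, 7, 5), (5, 8, 8, 1)]),
   (0x125786034, [(0, 4, 4, 8), (8, 1, 1, 3), (3, 6, 6, 5), (5, 7, 7, 2)]),
   (0x201586734, [(0, 4, 4, 8), (8, 2, 2, 7), (1, 3, 3, 6)]),
   (0x206587134, [(0, 4, 4, 8), (8, 2, 2, 1), (1, 3, 3, 7)]),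
   (0x250836714, [(0, 4, 4, 3), (3, 6, 2, 7), (7, 5, 5, 8)]),
   (0x205786134, [(0, 4, 4, 8), (8, 2, 2, 1), (1, 3, 3, 6), (6, 5, 5, 7)]),
   (0x217348506, [(0, 6, 6, 7), (7, 1, 2, 5), (5, 3, 3, 8)]),
   (0x027348516, [(0, 6, 6, 7), (7, 2, 2, 5), (5, 3, 3, 8)]),
   (0x107348526, [(0, 6, 6, 7), (1, 2, 2, 5), (5, 3, 3, 8)]),
   (0x720458613, [(0, 3, 3, 8), (8, 7, 7, 2), (2, 6, 4, 5)]),
   (0x702534861, [(0, 1, 1, 6), (6, 2, 2, 8), (8, 7, 3, 4)]),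
   (0x701458623, [(0, 3, 3, 8), (8, 7, 1, 2), (2, 6, 4, 5)]),
   (0x710534862, [(0, 2, 2, 8), (8, 7, 7, 1), (1, 6, 3, 4)]),
   (0x712458603, [(0, 3, 3, 8), (8, 7, 7, 1), (2, 6, 4, 5)]),
   (0x721534860, [(1, 6, 2, 8), (8, 7, 3, 4)]),
   (0x318257046, [(0, 6, 6, 8), (8, 3, 3, 7), (7, 1, 1, 4), (4, 5, 5, 2)]),
   (0x012857463, [(0, 3, 3, 7), (7, 1, 1, 6), (6, 2, 2, 4), (4, 5, 5, 8)]),
   (0x328057146, [(0, 6, 6, 8), (8, 3, 3, 7), (7, 2, 2, 1), (1, 4, 4, 5)]),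
   (0x120857463, [(0, 3, 3, 7), (7, 2, 2, 4), (4, 5, 5, 8), (8, 1, 1, 6)]),
   (0x308157246, [(0, 6, 6, 8), (8, 3, 3, 7), (1, 4, 4, 5)]),
   (0x201857463, [(0, 3, 3, 7), (1, 6, 2, 4), (4, 5, 5, 8)]),
   (0x142503876, [(0, 6, 6, 2), (2, 8, 8, 1), (1, 7, 7, 4)])]

/-- Representatives. -/
def onePairReps35 : List PC :=
  [(0x240513876, [(0, 6, 1, 7), (7, 4, 2, 8)]),
   (0x041523876, [(0, 6, 6, 1), (1, 7, 7, 4), (4, 2, 2, 8)]),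
   (0x853026741, [(0, 1, 1, 4), (4, 2, 2, 7), (7, 5, 3, 6)]),
   (0x853106742, [(0, 2, 2, 7), (7, 5, 5, 1), (1, 4, 3, 6)]),
   (0x853216740, [(1, 4, 2, 7), (7, 5, 3, 6)]),
   (0x504718632, [(0, 2, 2, 6), (6, 4, 4, 1), (1, 3, 3, 8), (8, 5, 5, 7)]),
   (0x507428631, [(0, 1, 1, 3), (3, 8, 8, 5), (5, 4, 4, 2), (2, 6, 6, 7)]),
   (0x514728630, [(1, 3, 3, 8), (8, 5, 5, 7), (2, 6, 6, 4)]),
   (0x340178256, [(0, 6, 1, 5), (3, 8, 4, 7)]),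
   (0x348172056, [(0, 6, 6, 8), (8, 3, 3, 2), (1, 5, 4, 7)]),
   (0x341278056, [(0, 6, 6, 1), (1, 5, 5, 2), (3, 8, 4, 7)]),
   (0x348270156, [(0, 6, 6, 8), (8, 3, 1, 5), (5, 2, 4, 7)]),
   (0x342078156, [(0, 6, 6, 2), (2, 1, 1, 5), (3, 8, 4, 7)]),
   (0x348071256, [(0, 6, 6, 8), (8, 3, 3, 1), (1, 5, 4, 7)]),
   (0x371250864, [(0, 4, 4, 5), (5, 2, 2, 8), (8, 3, 1, 6)]),
   (0x372051864, [(0, 4, 4, 5), (1, 6, 6, 2), (2, 8, 8, 3)]),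
   (0x370152864, [(0, 4, 4, 5), (5, 1, 1, 6), (2, 8, 8, 3)]),
   (0x482157063, [(0, 3, 3, 7), (7, 8, 8, 4), (4, 5, 5, 1), (1, 6, 6, 2)]),
   (0x480152763, [(0, 3, 3, 2), (2, 7, 7, 8), (8, 4, 4, 5), (5, 1, 1, 6)]),
   (0x418562703, [(0, 3, 3, 2), (2, 7, 7, 1), (4, 6, 6, 8)]),
   (0x480257163, [(0, 3, 3, 7), (7, 8, 8, 4), (4, 5, 5, 2), (2, 1, 1, 6)]),
   (0x428560713, [(0, 3, 2, 7), (4, 6, 6, 8)]),
   (0x408561723, [(0, 3, 3, 1), (1, 2, 2, 7), (4, 6, 6, 8)]),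
   (0x467231850, [(1, 5, 5, 2), (2, 8, 8, 4), (4, 3, 6, 7)]),
   (0x167238450, [(1, 5, 5, 2), (2, 4, 4, 3), (3, 8, 6, 7)]),
   (0x467032851, [(0, 1, 1, 5), (2, 8, 8, 4), (4, 3, 6, 7)]),
   (0x267038451, [(0, 1, 1, 5), (2, 4, 4, 3), (3, 8, 6, 7)]),
   (0x467130852, [(0, 2, 2, 8), (8, 4, 4, 3), (1, 5, 6, 7)]),
   (0x067138452, [(0, 2, 2, 4), (4, 3, 3, 8), (1, 5, 6, 7)]),
   (0x678413520, [(1, 2, 2, 5), (5, 4, 6, 8)]),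
   (0x374815260, [(1, 6, 6, 4), (3, 5, 5, 8)]),
   (0x678423501, [(0, 1, 2, 5), (5, 4, 6, 8)])]

/-- Representatives. -/
def onePairReps36 : List PC :=
  [(0x374825061, [(0, 1, 1, 6), (6, 4, 4, 2), (3, 5, 5, 8)]),
   (0x678403512, [(0, 2, 2, 5), (5, 4, 6, 8)]),
   (0x374805162, [(0, 2, 2, 1), (1, 6, 6, 4), (3, 5, 5, 8)]),
   (0x745026813, [(0, 3, 3, 6), (6, 5, 2, 8), (8, 7, 7, 4)]),
   (0x745106823, [(0, 3, 3, 6), (6, 5, 5, 1), (1, 2, 2, 8), (8, 7, 7, 4)]),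
   (0x745216803, [(0, 3, 3, 6), (6, 5, 5, 2), (2, 8, 8, 7), (7, 4, 4, 1)]),
   (0x076218543, [(0, 3, 3, 8), (1, 4, 2, 5)]),
   (0x176028543, [(0, 3, 3, 8), (8, 1, 1, 4), (4, 2, 2, 5)]),
   (0x276108543, [(0, 3, 3, 8), (8, 2, 2, 5), (5, 1, 1, 4)]),
   (0x537801246, [(0, 6, 6, 7), (7, 3, 3, 1), (1, 4, 5, 8)]),
   (0x537812046, [(0, 6, 6, 7), (7, 3, 3, 2), (1, 4, 5, 8)]),
   (0x537820146, [(0, 6, 6, 7), (7, 3, 1, 4), (4, 2, 5, 8)]),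
   (0x423765810, [(2, 8, 8, 4), (4, 6, 6, 3), (3, 5, 5, 7)]),
   (0x403765821, [(0, 1, 1, 2), (2, 8, 8, 4), (4, 6, 6, 3), (3, 5, 5, 7)]),
   (0x413765802, [(0, 2, 2, 8), (8, 4, 4, 6), (6, 3, 3, 5), (5, 7, 7, 1)]),
   (0x578126340, [(1, 4, 4, 2), (2, 3, 3, 6), (6, 8, 8, 5)]),
   (0x578206341, [(0, 1, 1, 4), (2, 3, 3, 6), (6, 8, 8, 5)]),
   (0x578016342, [(0, 2, 2, 3), (3, 6, 6, 8), (8, 5, 1, 4)]),
   (0x863427105, [(0, 5, 5, 4), (4, 2, 2, 1), (3, 7, 7, 6)]),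
   (0x836147025, [(0, 5, 5, 1), (1, 2, 3, 7)]),
   (0x830647125, [(0, 5, 5, 6), (1, 2, 3, 7)]),
   (0x837641025, [(0, 5, 5, 6), (6, 7, 7, 3), (3, 1, 1, 2)]),
   (0x470812365, [(0, 5, 5, 8), (8, 4, 4, 1), (1, 6, 2, 3)]),
   (0x471820365, [(0, 5, 5, 8), (8, 4, 4, 2), (2, 3, 1, 6)]),
   (0x472801365, [(0, 5, 5, 8), (8, 4, 1, 6), (6, 2, 2, 3)]),
   (0x614572308, [(0, 8, 8, 6), (6, 4, 4, 7), (7, 1, 2, 3)]),
   (0x635412078, [(0, 8, 8, 6), (6, 5, 5, 4), (4, 1, 1, 7), (7, 3, 3, 2)]),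
   (0x624570318, [(0, 8, 8, 6), (6, 4, 4, 7), (7, 2, 2, 3)]),
   (0x635420178, [(0, 8, 8, 6), (6, 5, 5, 4), (4, 2, 2, 1), (1, 7, 7, 3)]),
   (0x604571328, [(0, 8, 8, 6), (6, 4, 4, 7), (1, 2, 2, 3)]),
   (0x635401278, [(0, 8, 8, 6), (6, 5, 5, 4), (1, 7, 7, 3)]),
   (0x124708365, [(0, 5, 5, 7), (7, 2, 2, 3), (3, 8, 8, 1), (1, 6, 6, 4)])]

/-- Representatives. -/
def onePairReps37 : List PC :=
  [(0x142378605, [(0, 5, 5, 3), (3, 8, 8, 1), (2, 6, 4, 7)]),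
   (0x204718365, [(0, 5, 5, 7), (1, 6, 6, 4), (2, 3, 3, 8)]),
   (0x240378615, [(0, 5, 5, 3), (3, 8, 8, 2), (2, 6, 4, 7)]),
   (0x014728365, [(0, 5, 5, 7), (7, 1, 1, 6), (6, 4, 4, 2), (2, 3, 3, 8)]),
   (0x041378625, [(0, 5, 5, 3), (3, 8, 1, 2), (2, 6, 4, 7)]),
   (0x106384527, [(0, 7, 1, 2), (2, 5, 5, 3), (3, 4, 4, 8)]),
   (0x216384507, [(0, 7, 7, 1), (2, 5, 5, 3), (3, 4, 4, 8)]),
   (0x026384517, [(0, 7, 7, 2), (2, 5, 5, 3), (3, 4, 4, 8)]),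
   (0x063824157, [(0, 7, 7, 6), (6, 3, 3, 4), (4, 2, 2, 1), (1, 5, 5, 8)]),
   (0x043821657, [(0, 7, 7, 4), (4, 2, 2, 6), (6, 3, 3, 1), (1, 5, 5, 8)]),
   (0x163804257, [(0, 7, 7, 6), (6, 3, 3, 4), (1, 5, 5, 8)]),
   (0x143802657, [(0, 7, 7, 4), (1, 5, 5, 8), (2, 6, 6, 3)]),
   (0x263814057, [(0, 7, 7, 6), (6, 3, 3, 4), (4, 1, 1, 5), (5, 8, 8, 2)]),
   (0x243810657, [(0, 7, 7, 4), (4, 1, 1, 5), (5, 8, 8, 2), (2, 6, 6, 3)]),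
   (0x403526817, [(0, 7, 2, 8), (8, 4, 3, 6)]),
   (0x483520617, [(0, 7, 7, 8), (8, 4, 4, 2), (2, 6, 6, 3)]),
   (0x423510687, [(0, 7, 7, 2), (2, 6, 6, 3), (1, 8, 8, 4)]),
   (0x425370681, [(0, 1, 1, 8), (8, 4, 4, 7), (7, 2, 2, 6), (6, 5, 5, 3)]),
   (0x465320817, [(0, 7, 7, 6), (6, 5, 5, 3), (2, 8, 8, 4)]),
   (0x413506827, [(0, 7, 7, 1), (1, 2, 2, 8), (8, 4, 3, 6)]),
   (0x483501627, [(0, 7, 7, 8), (8, 4, 1, 2), (2, 6, 6, 3)]),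
   (0x405371682, [(0, 2, 2, 6), (6, 5, 5, 3), (3, 1, 1, 8), (8, 4, 4, 7)]),
   (0x465301827, [(0, 7, 7, 6), (6, 5, 5, 3), (3, 1, 1, 2), (2, 8, 8, 4)]),
   (0x483512607, [(0, 7, 7, 8), (8, 4, 4, 1), (2, 6, 6, 3)]),
   (0x415372680, [(1, 8, 8, 4), (4, 7, 2, 6), (6, 5, 5, 3)]),
   (0x465312807, [(0, 7, 7, 6), (6, 5, 5, 3), (3, 2, 2, 8), (8, 4, 4, 1)]),
   (0x371520684, [(0, 4, 4, 2), (2, 6, 6, 1), (1, 8, 8, 3)]),
   (0x325147068, [(0, 8, 8, 3), (3, 7, 7, 2), (1, 6, 6, 5)]),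
   (0x372501684, [(0, 4, 1, 8), (8, 3, 2, 6)]),
   (0x305247168, [(0, 8, 8, 3), (3, 7, 1, 6), (6, 5, 5, 2)]),
   (0x370512684, [(0, 4, 4, 1), (1, 8, 8, 3), (3, 2, 2, 6)]),
   (0x315047268, [(0, 8, 8, 3), (3, 7, 7, 1), (1, 6, 6, 5)])]

/-- Representatives. -/
def onePairReps38 : List PC :=
  [(0x654231807, [(0, 7, 7, 5), (5, 2, 2, 8), (8, 6, 6, 4), (4, 3, 3, 1)]),
   (0x612435807, [(0, 7, 7, 1), (2, 8, 8, 6), (3, 5, 5, 4)]),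
   (0x632401587, [(0, 7, 7, 3), (3, 1, 1, 8), (8, 6, 6, 2), (2, 5, 5, 4)]),
   (0x654032817, [(0, 7, 7, 5), (2, 8, 8, 6), (6, 4, 4, 3)]),
   (0x620435817, [(0, 7, 7, 2), (2, 8, 8, 6), (3, 5, 5, 4)]),
   (0x630412587, [(0, 7, 7, 3), (3, 2, 2, 5), (5, 4, 4, 1), (1, 8, 8, 6)]),
   (0x654130827, [(0, 7, 7, 5), (5, 1, 1, 2), (2, 8, 8, 6), (6, 4, 4, 3)]),
   (0x601435827, [(0, 7, 1, 2), (2, 8, 8, 6), (3, 5, 5, 4)]),
   (0x631420587, [(0, 7, 7, 3), (1, 8, 8, 6), (2, 5, 5, 4)]),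
   (0x371504826, [(0, 6, 6, 1), (1, 2, 2, 8), (8, 3, 3, 4)]),
   (0x372514806, [(0, 6, 6, 2), (2, 8, 8, 3), (3, 4, 4, 1)]),
   (0x370524816, [(0, 6, 2, 8), (8, 3, 3, 4)]),
   (0x528431076, [(0, 6, 6, 8), (8, 5, 5, 4), (4, 3, 3, 1), (1, 7, 7, 2)]),
   (0x128430765, [(0, 5, 5, 4), (4, 3, 1, 6), (6, 8, 2, 7)]),
   (0x508432176, [(0, 6, 6, 8), (8, 5, 5, 4), (4, 3, 3, 2), (2, 1, 1, 7)]),
   (0x208431765, [(0, 5, 5, 4), (4, 3, 3, 1), (1, 6, 6, 8), (8, 2, 2, 7)]),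
   (0x518430276, [(0, 6, 6, 8), (8, 5, 5, 4), (4, 3, 1, 7)]),
   (0x018432765, [(0, 5, 5, 4), (4, 3, 3, 2), (2, 7, 7, 1), (1, 6, 6, 8)]),
   (0x815324760, [(1, 6, 6, 5), (5, 3, 3, 4), (4, 2, 2, 7)]),
   (0x825304761, [(0, 1, 1, 6), (6, 5, 5, 3), (3, 4, 2, 7)]),
   (0x805314762, [(0, 2, 2, 7), (1, 6, 6, 5), (5, 3, 3, 4)]),
   (0x032518467, [(0, 7, 7, 3), (3, 8, 1, 6), (6, 2, 2, 4)]),
   (0x034218567, [(0, 7, 7, 3), (3, 8, 1, 6), (6, 4, 2, 5)]),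
   (0x130528467, [(0, 7, 7, 3), (3, 8, 8, 1), (1, 6, 2, 4)]),
   (0x134028567, [(0, 7, 7, 3), (3, 8, 8, 1), (1, 6, 6, 4), (4, 2, 2, 5)]),
   (0x231508467, [(0, 7, 7, 3), (3, 8, 8, 2), (2, 4, 1, 6)]),
   (0x234108567, [(0, 7, 7, 3), (3, 8, 8, 2), (2, 5, 5, 1), (1, 6, 6, 4)]),
   (0x263185704, [(0, 4, 4, 8), (8, 2, 2, 7), (7, 6, 6, 3), (3, 5, 5, 1)]),
   (0x063285714, [(0, 4, 4, 8), (2, 7, 7, 6), (6, 3, 3, 5)]),
   (0x163085724, [(0, 4, 4, 8), (8, 1, 1, 2), (2, 7, 7, 6), (6, 3, 3, 5)]),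
   (0x820453617, [(0, 7, 7, 2), (2, 6, 4, 5)]),
   (0x806243175, [(0, 5, 5, 2), (2, 1, 1, 7)])]

/-- Representatives. -/
def onePairReps39 : List PC :=
  [(0x802143675, [(0, 5, 5, 1), (1, 7, 2, 6)]),
   (0x801453627, [(0, 7, 1, 2), (2, 6, 4, 5)]),
   (0x816043275, [(0, 5, 1, 7)]),
   (0x810243675, [(0, 5, 5, 2), (2, 6, 1, 7)]),
   (0x812453607, [(0, 7, 7, 1), (2, 6, 4, 5)]),
   (0x826143075, [(0, 5, 5, 1), (1, 7, 7, 2)]),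
   (0x821043675, [(0, 5, 1, 7), (7, 2, 2, 6)]),
   (0x857341026, [(0, 6, 6, 7), (7, 5, 5, 3), (3, 1, 1, 2)]),
   (0x072418635, [(0, 5, 5, 4), (4, 1, 1, 3), (3, 8, 2, 6)]),
   (0x082416735, [(0, 5, 5, 4), (4, 1, 1, 3), (3, 6, 6, 2), (2, 7, 7, 8)]),
   (0x064218735, [(0, 5, 5, 2), (2, 7, 7, 6), (6, 4, 4, 1), (1, 3, 3, 8)]),
   (0x170428635, [(0, 5, 5, 4), (4, 2, 2, 6), (1, 3, 3, 8)]),
   (0x180426735, [(0, 5, 5, 4), (4, 2, 2, 7), (7, 8, 8, 1), (1, 3, 3, 6)]),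
   (0x164028735, [(0, 5, 1, 3), (3, 8, 2, 7), (7, 6, 6, 4)]),
   (0x271408635, [(0, 5, 5, 4), (1, 3, 3, 8), (8, 2, 2, 6)]),
   (0x281406735, [(0, 5, 5, 4), (1, 3, 3, 6), (2, 7, 7, 8)]),
   (0x264108735, [(0, 5, 5, 1), (1, 3, 3, 8), (8, 2, 2, 7), (7, 6, 6, 4)]),
   (0x614827053, [(0, 3, 3, 7), (7, 1, 1, 5), (5, 8, 8, 6), (6, 4, 4, 2)]),
   (0x604817532, [(0, 2, 2, 5), (5, 8, 8, 6), (6, 4, 4, 1), (1, 3, 3, 7)]),
   (0x624807153, [(0, 3, 3, 7), (7, 2, 2, 1), (1, 5, 5, 8), (8, 6, 6, 4)]),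
   (0x436021785, [(0, 5, 1, 8), (8, 4, 4, 2), (2, 7, 7, 3)]),
   (0x436102785, [(0, 5, 5, 1), (1, 8, 8, 4), (2, 7, 7, 3)]),
   (0x436210785, [(0, 5, 5, 2), (2, 7, 7, 3), (1, 8, 8, 4)]),
   (0x804725163, [(0, 3, 3, 5), (5, 7, 1, 6), (6, 4, 4, 2)]),
   (0x841075632, [(0, 2, 2, 6), (6, 1, 1, 3), (3, 5, 4, 7)]),
   (0x842175630, [(1, 3, 3, 5), (2, 6, 4, 7)]),
   (0x128560347, [(0, 7, 7, 2), (2, 3, 1, 4), (4, 6, 6, 8)]),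
   (0x325860147, [(0, 7, 7, 2), (2, 1, 1, 4), (4, 6, 6, 5), (5, 8, 8, 3)]),
   (0x208561347, [(0, 7, 1, 4), (4, 6, 6, 8), (8, 2, 2, 3)]),
   (0x305861247, [(0, 7, 1, 4), (4, 6, 6, 5), (5, 8, 8, 3)]),
   (0x018562347, [(0, 7, 7, 1), (1, 4, 4, 6), (6, 8, 2, 3)]),
   (0x315862047, [(0, 7, 7, 1), (1, 4, 4, 6), (6, 5, 5, 8), (8, 3, 3, 2)])]

/-- Representatives. -/
def onePairReps40 : List PC :=
  [(0x015874236, [(0, 6, 6, 5), (5, 8, 1, 3), (3, 4, 4, 7)]),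
   (0x084152367, [(0, 7, 7, 8), (1, 6, 6, 4), (4, 5, 2, 3)]),
   (0x125874036, [(0, 6, 6, 5), (5, 8, 8, 1), (1, 3, 3, 4), (4, 7, 7, 2)]),
   (0x184250367, [(0, 7, 7, 8), (8, 1, 1, 6), (6, 4, 4, 5), (5, 2, 2, 3)]),
   (0x205874136, [(0, 6, 6, 5), (5, 8, 8, 2), (2, 1, 1, 3), (3, 4, 4, 7)]),
   (0x284051367, [(0, 7, 7, 8), (8, 2, 2, 3), (3, 1, 1, 6), (6, 4, 4, 5)]),
   (0x812750346, [(0, 6, 6, 2), (2, 3, 1, 4), (4, 5, 5, 7)]),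
   (0x820751346, [(0, 6, 1, 4), (4, 5, 5, 7), (7, 2, 2, 3)]),
   (0x801752346, [(0, 6, 6, 1), (1, 4, 4, 5), (5, 7, 2, 3)]),
   (0x260457183, [(0, 3, 3, 7), (7, 6, 1, 8), (8, 2, 4, 5)]),
   (0x201647835, [(0, 5, 5, 6), (6, 1, 1, 3), (3, 7, 2, 8)]),
   (0x061457283, [(0, 3, 3, 7), (7, 6, 6, 1), (1, 8, 4, 5)]),
   (0x012647835, [(0, 5, 5, 6), (6, 2, 2, 8), (1, 3, 3, 7)]),
   (0x162457083, [(0, 3, 3, 7), (7, 6, 6, 2), (1, 8, 4, 5)]),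
   (0x120647835, [(0, 5, 5, 6), (1, 3, 3, 7), (7, 2, 2, 8)]),
   (0x865371420, [(1, 2, 2, 4), (4, 7, 7, 6), (6, 5, 5, 3)]),
   (0x015476238, [(0, 8, 1, 3), (3, 6, 6, 5), (5, 4, 4, 7)]),
   (0x125476038, [(0, 8, 8, 1), (1, 3, 3, 6), (6, 5, 5, 4), (4, 7, 7, 2)]),
   (0x205476138, [(0, 8, 8, 2), (2, 1, 1, 3), (3, 6, 6, 5), (5, 4, 4, 7)]),
   (0x340167825, [(0, 5, 5, 1), (1, 2, 2, 8), (8, 3, 3, 7), (7, 4, 4, 6)]),
   (0x314627805, [(0, 5, 5, 6), (6, 4, 4, 2), (2, 8, 8, 3), (3, 7, 7, 1)]),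
   (0x324607815, [(0, 5, 5, 6), (6, 4, 2, 8), (8, 3, 3, 7)]),
   (0x630542718, [(0, 8, 8, 6), (2, 7, 7, 3)]),
   (0x631540728, [(0, 8, 8, 6), (6, 1, 1, 2), (2, 7, 7, 3)]),
   (0x632541708, [(0, 8, 8, 6), (6, 2, 2, 7), (7, 3, 3, 1)]),
   (0x341725860, [(1, 6, 2, 8), (8, 3, 3, 5), (5, 7, 7, 4)]),
   (0x342705861, [(0, 1, 1, 6), (6, 2, 2, 8), (8, 3, 3, 5), (5, 7, 7, 4)]),
   (0x340715862, [(0, 2, 2, 8), (8, 3, 3, 5), (5, 7, 7, 4), (4, 1, 1, 6)]),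
   (0x152430876, [(0, 6, 6, 2), (2, 8, 8, 1), (1, 7, 7, 5), (5, 4, 4, 3)]),
   (0x250431876, [(0, 6, 1, 7), (7, 5, 5, 4), (4, 3, 2, 8)]),
   (0x051432876, [(0, 6, 6, 1), (1, 7, 7, 5), (5, 4, 4, 3), (3, 2, 2, 8)]),
   (0x836075214, [(0, 4, 4, 7), (7, 3, 3, 5)])]

/-- Representatives. -/
def onePairReps41 : List PC :=
  [(0x836175024, [(0, 4, 4, 7), (7, 3, 3, 5), (5, 1, 1, 2)]),
   (0x836275104, [(0, 4, 4, 7), (7, 3, 3, 5), (5, 2, 2, 1)]),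
   (0x310472685, [(0, 5, 5, 4), (4, 7, 7, 1), (1, 8, 8, 3), (3, 2, 2, 6)]),
   (0x321470685, [(0, 5, 5, 4), (4, 7, 7, 2), (2, 6, 6, 1), (1, 8, 8, 3)]),
   (0x302471685, [(0, 5, 5, 4), (4, 7, 1, 8), (8, 3, 2, 6)]),
   (0x014536278, [(0, 8, 1, 7), (3, 6, 6, 4)]),
   (0x036584217, [(0, 7, 7, 3), (3, 4, 4, 8)]),
   (0x124536078, [(0, 8, 8, 1), (1, 7, 7, 2), (3, 6, 6, 4)]),
   (0x136584027, [(0, 7, 7, 3), (3, 4, 4, 8), (8, 1, 1, 2)]),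
   (0x204536178, [(0, 8, 8, 2), (2, 1, 1, 7), (3, 6, 6, 4)]),
   (0x236584107, [(0, 7, 7, 3), (3, 4, 4, 8), (8, 2, 2, 1)]),
   (0x376458102, [(0, 2, 2, 1), (3, 8, 4, 5)]),
   (0x308126475, [(0, 5, 5, 1), (1, 7, 2, 4), (3, 6, 6, 8)]),
   (0x356128470, [(1, 7, 7, 5), (2, 4, 3, 8)]),
   (0x318206475, [(0, 5, 5, 2), (2, 4, 1, 7), (3, 6, 6, 8)]),
   (0x356208471, [(0, 1, 1, 7), (7, 5, 5, 2), (2, 4, 3, 8)]),
   (0x328016475, [(0, 5, 1, 7), (7, 2, 2, 4), (3, 6, 6, 8)]),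
   (0x356018472, [(0, 2, 2, 4), (4, 1, 1, 7), (7, 5, 3, 8)]),
   (0x173046582, [(0, 2, 2, 5), (1, 8, 3, 6)]),
   (0x273146580, [(1, 8, 8, 2), (2, 5, 3, 6)]),
   (0x073246581, [(0, 1, 1, 8), (2, 5, 3, 6)]),
   (0x801564372, [(0, 2, 2, 3), (3, 4, 4, 6), (6, 1, 1, 7)]),
   (0x812564370, [(1, 7, 2, 3), (3, 4, 4, 6)]),
   (0x820564371, [(0, 1, 1, 7), (7, 2, 2, 3), (3, 4, 4, 6)]),
   (0x034127685, [(0, 5, 5, 1), (1, 8, 2, 6), (6, 4, 3, 7)]),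
   (0x134207685, [(0, 5, 5, 2), (2, 6, 6, 4), (1, 8, 3, 7)]),
   (0x234017685, [(0, 5, 1, 8), (8, 2, 2, 6), (6, 4, 3, 7)]),
   (0x314502867, [(0, 7, 7, 1), (1, 6, 6, 4), (2, 8, 8, 3)]),
   (0x364572810, [(2, 8, 8, 3), (4, 7, 7, 6)]),
   (0x324510867, [(0, 7, 7, 2), (2, 8, 8, 3), (1, 6, 6, 4)]),
   (0x304521867, [(0, 7, 1, 6), (6, 4, 4, 2), (2, 8, 8, 3)])]

/-- An orbit sum. -/
def onePairOrb0 : Orb2 where
  si := 5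
  els := [(0x832107654, [(0, 4, 1, 5), (2, 6, 3, 7)]),
    (0x821307654, [(0, 4, 1, 5), (5, 3, 3, 7), (7, 2, 2, 6)]),
    (0x813207654, [(0, 4, 1, 5), (5, 2, 2, 6), (6, 3, 3, 7)])]
  moves := [[(0, 3), (1, 4), (2, 16)],
    [(0, 4), (1, 16), (2, 3)],
    [(0, 1), (1, 1), (2, 1)],
    [(0, 2), (1, 2), (2, 2)],
    [(1, 19), (2, 44), (0, 17)]]

/-- An orbit sum. -/
def onePairOrb1 : Orb2 where
  si := 4
  els := [(0x832107654, [(0, 4, 1, 5), (2, 6, 3, 7)]),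
    (0x821307654, [(0, 4, 1, 5), (5, 3, 3, 7), (7, 2, 2, 6)]),
    (0x813207654, [(0, 4, 1, 5), (5, 2, 2, 6), (6, 3, 3, 7)])]
  moves := [[(0, 3), (1, 4), (2, 16)],
    [(0, 4), (1, 16), (2, 3)],
    [(0, 1), (1, 1), (2, 1)],
    [(0, 2), (1, 2), (2, 2)],
    [(1, 4), (2, 16), (0, 3)],
    [(0, 5), (1, 5), (2, 5)]]

/-- An orbit sum. -/
def onePairOrb2 : Orb2 where
  si := 4
  els := [(0x876543210, []),
    (0x865743210, [(5, 7, 7, 6)]),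
    (0x857643210, [(5, 6, 6, 7)])]
  moves := [[(0, 1), (1, 1), (2, 1)],
    [(0, 2), (1, 2), (2, 2)],
    [(0, 3), (1, 4), (2, 16)],
    [(0, 4), (1, 16), (2, 3)],
    [(0, 5), (1, 5), (2, 5)],
    [(1, 4), (2, 16), (0, 3)]]

/-- An orbit sum. -/
def onePairOrb3 : Orb2 where
  si := 6
  els := [(0x876543210, []),
    (0x857643210, [(5, 6, 6, 7)]),
    (0x865743210, [(5, 7, 7, 6)])]
  moves := [[(0, 1), (1, 1), (2, 1)],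
    [(0, 2), (1, 2), (2, 2)],
    [(0, 3), (1, 16), (2, 4)],
    [(0, 4), (1, 3), (2, 16)],
    [(1, 17), (2, 44), (0, 19)]]

/-- An orbit sum. -/
def onePairOrb4 : Orb2 where
  si := 5
  els := [(0x876543210, []),
    (0x865743210, [(5, 7, 7, 6)]),
    (0x857643210, [(5, 6, 6, 7)])]
  moves := [[(0, 1), (1, 1), (2, 1)],
    [(0, 2), (1, 2), (2, 2)],
    [(0, 3), (1, 4), (2, 16)],
    [(0, 4), (1, 16), (2, 3)],
    [(1, 19), (2, 44), (0, 17)]]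

/-- An orbit sum. -/
def onePairOrb5 : Orb2 where
  si := 6
  els := [(0x832107654, [(0, 4, 1, 5), (2, 6, 3, 7)]),
    (0x821307654, [(0, 4, 1, 5), (5, 3, 3, 7), (7, 2, 2, 6)]),
    (0x813207654, [(0, 4, 1, 5), (5, 2, 2, 6), (6, 3, 3, 7)])]
  moves := [[(0, 3), (1, 4), (2, 16)],
    [(0, 4), (1, 16), (2, 3)],
    [(0, 1), (1, 1), (2, 1)],
    [(0, 2), (1, 2), (2, 2)],
    [(1, 51), (2, 77), (0, 47)]]

/-- An orbit sum. -/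
def onePairOrb6 : Orb2 where
  si := 1
  els := [(0x283706541, [(0, 1, 1, 4), (2, 5, 5, 7), (7, 8, 3, 6)]),
    (0x287316540, [(1, 4, 2, 5), (5, 3, 3, 6), (6, 7, 7, 8)]),
    (0x278536410, [(2, 4, 4, 3), (3, 6, 6, 8)]),
    (0x274836510, [(2, 5, 5, 8), (3, 6, 6, 4)]),
    (0x276835410, [(2, 4, 4, 3), (3, 5, 5, 8)])]
  moves := [[(1, 42), (0, 42), (2, 1), (4, 1), (3, 1)],
    [(0, 22), (2, 3), (3, 6), (1, 20), (4, 14)]]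

/-- An orbit sum. -/
def onePairOrb7 : Orb2 where
  si := 1
  els := [(0x753826410, [(2, 4, 3, 6), (5, 8, 8, 7)]),
    (0x748326510, [(2, 5, 5, 3), (3, 6, 6, 8), (8, 7, 7, 4)]),
    (0x768325410, [(2, 4, 3, 5), (6, 8, 8, 7)]),
    (0x728316540, [(1, 4, 2, 5), (5, 3, 3, 6), (6, 8, 8, 7)]),
    (0x723806541, [(0, 1, 1, 4), (2, 5, 5, 8), (8, 7, 3, 6)])]
  moves := [[(0, 1), (2, 1), (1, 1), (4, 42), (3, 42)],
    [(1, 6), (3, 45), (2, 14), (0, 16), (4, 22)]]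

/-- An orbit sum. -/
def onePairOrb8 : Orb2 where
  si := 0
  els := [(0x753826410, [(2, 4, 3, 6), (5, 8, 8, 7)]),
    (0x748326510, [(2, 5, 5, 3), (3, 6, 6, 8), (8, 7, 7, 4)]),
    (0x768325410, [(2, 4, 3, 5), (6, 8, 8, 7)]),
    (0x723806541, [(0, 1, 1, 4), (2, 5, 5, 8), (8, 7, 3, 6)]),
    (0x728316540, [(1, 4, 2, 5), (5, 3, 3, 6), (6, 8, 8, 7)])]
  moves := [[(0, 1), (2, 1), (1, 1), (4, 42), (3, 42)],
    [(1, 23), (3, 77), (2, 54), (0, 79), (4, 22)]]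

/-- An orbit sum. -/
def onePairOrb9 : Orb2 where
  si := 1
  els := [(0x638725410, [(2, 4, 3, 5), (5, 7, 6, 8)]),
    (0x438726510, [(2, 5, 5, 7), (7, 3, 3, 6), (6, 8, 8, 4)]),
    (0x137826540, [(1, 4, 4, 2), (2, 5, 5, 8), (3, 6, 6, 7)]),
    (0x038726541, [(0, 1, 1, 4), (4, 2, 2, 5), (5, 7, 7, 3), (3, 6, 6, 8)]),
    (0x537826410, [(2, 4, 3, 6), (6, 7, 5, 8)])]
  moves := [[(1, 1), (0, 1), (3, 42), (2, 42), (4, 1)],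
    [(0, 14), (2, 6), (4, 0), (3, 22), (1, 6)]]

/-- An orbit sum. -/
def onePairOrb10 : Orb2 where
  si := 0
  els := [(0x785326410, [(2, 4, 3, 6), (6, 5, 7, 8)]),
    (0x783426510, [(2, 5, 5, 4), (3, 6, 7, 8)]),
    (0x783625410, [(2, 4, 3, 5), (5, 6, 7, 8)]),
    (0x738206541, [(0, 1, 1, 4), (2, 5, 3, 6), (6, 8, 8, 7)]),
    (0x732816540, [(1, 4, 2, 5), (5, 8, 8, 7), (7, 3, 3, 6)])]
  moves := [[(0, 1), (2, 1), (1, 1), (4, 42), (3, 42)],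
    [(1, 23), (3, 47), (2, 54), (0, 49), (4, 22)]]

/-- An orbit sum. -/
def onePairOrb11 : Orb2 where
  si := 1
  els := [(0x073826541, [(0, 1, 1, 4), (4, 2, 2, 5), (5, 8, 3, 6)]),
    (0x178326540, [(1, 4, 4, 2), (2, 5, 5, 3), (3, 6, 6, 8)]),
    (0x578326410, [(2, 4, 3, 6), (6, 8, 8, 5)]),
    (0x473826510, [(2, 5, 5, 8), (8, 4, 3, 6)]),
    (0x673825410, [(2, 4, 3, 5), (5, 8, 8, 6)])]
  moves := [[(1, 42), (0, 42), (2, 1), (4, 1), (3, 1)],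
    [(0, 22), (2, 0), (3, 6), (1, 6), (4, 14)]]

/-- An orbit sum. -/
def onePairOrb12 : Orb2 where
  si := 1
  els := [(0x268735410, [(2, 4, 4, 3), (3, 5, 5, 7), (7, 6, 6, 8)]),
    (0x248736510, [(2, 5, 5, 7), (7, 4, 4, 3), (3, 6, 6, 8)]),
    (0x238716540, [(1, 4, 2, 5), (5, 7, 7, 3), (3, 6, 6, 8)]),
    (0x237806541, [(0, 1, 1, 4), (2, 5, 5, 8), (3, 6, 6, 7)]),
    (0x257836410, [(2, 4, 4, 3), (3, 6, 6, 7), (7, 5, 5, 8)])]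
  moves := [[(1, 1), (0, 1), (3, 42), (2, 42), (4, 1)],
    [(0, 14), (2, 45), (4, 16), (3, 22), (1, 6)]]

/-- An orbit sum. -/
def onePairOrb13 : Orb2 where
  si := 1
  els := [(0x287635410, [(2, 4, 4, 3), (3, 5, 5, 6), (6, 7, 7, 8)]),
    (0x287436510, [(2, 5, 5, 4), (4, 3, 3, 6), (6, 7, 7, 8)]),
    (0x273816540, [(1, 4, 2, 5), (5, 8, 3, 6)]),
    (0x278306541, [(0, 1, 1, 4), (2, 5, 5, 3), (3, 6, 6, 8)]),
    (0x285736410, [(2, 4, 4, 3), (3, 6, 6, 5), (5, 7, 7, 8)])]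
  moves := [[(1, 1), (0, 1), (3, 42), (2, 42), (4, 1)],
    [(0, 14), (2, 18), (4, 4), (3, 22), (1, 6)]]

/-- An orbit sum. -/
def onePairOrb14 : Orb2 where
  si := 1
  els := [(0x843726510, [(2, 5, 5, 7), (7, 4, 3, 6)]),
    (0x863725410, [(2, 4, 3, 5), (5, 7, 7, 6)]),
    (0x823716540, [(1, 4, 2, 5), (5, 7, 3, 6)]),
    (0x827306541, [(0, 1, 1, 4), (2, 5, 5, 3), (3, 6, 6, 7)]),
    (0x857326410, [(2, 4, 3, 6), (6, 7, 7, 5)])]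
  moves := [[(1, 1), (0, 1), (3, 42), (2, 42), (4, 1)],
    [(2, 45), (1, 14), (4, 16), (3, 22), (0, 6)]]

/-- An orbit sum. -/
def onePairOrb15 : Orb2 where
  si := 0
  els := [(0x843726510, [(2, 5, 5, 7), (7, 4, 3, 6)]),
    (0x863725410, [(2, 4, 3, 5), (5, 7, 7, 6)]),
    (0x827306541, [(0, 1, 1, 4), (2, 5, 5, 3), (3, 6, 6, 7)]),
    (0x823716540, [(1, 4, 2, 5), (5, 7, 3, 6)]),
    (0x857326410, [(2, 4, 3, 6), (6, 7, 7, 5)])]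
  moves := [[(1, 1), (0, 1), (3, 42), (2, 42), (4, 1)],
    [(2, 77), (1, 54), (4, 79), (3, 22), (0, 23)]]

/-- An orbit sum. -/
def onePairOrb16 : Orb2 where
  si := 1
  els := [(0x874326510, [(2, 5, 5, 3), (3, 6, 6, 4)]),
    (0x876325410, [(2, 4, 3, 5)]),
    (0x837216540, [(1, 4, 2, 5), (3, 6, 6, 7)]),
    (0x832706541, [(0, 1, 1, 4), (2, 5, 5, 7), (7, 3, 3, 6)]),
    (0x873526410, [(2, 4, 3, 6)])]
  moves := [[(1, 1), (0, 1), (3, 42), (2, 42), (4, 1)],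
    [(2, 20), (1, 14), (4, 3), (3, 22), (0, 6)]]

/-- An orbit sum. -/
def onePairOrb17 : Orb2 where
  si := 1
  els := [(0x087326541, [(0, 1, 1, 4), (4, 2, 2, 5), (5, 3, 3, 6), (6, 7, 7, 8)]),
    (0x183726540, [(1, 4, 4, 2), (2, 5, 5, 7), (7, 8, 3, 6)]),
    (0x583726410, [(2, 4, 3, 6), (5, 7, 7, 8)]),
    (0x487326510, [(2, 5, 5, 3), (3, 6, 6, 7), (7, 8, 8, 4)]),
    (0x687325410, [(2, 4, 3, 5), (6, 7, 7, 8)])]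
  moves := [[(1, 42), (0, 42), (2, 1), (4, 1), (3, 1)],
    [(0, 22), (2, 0), (3, 6), (1, 6), (4, 14)]]

/-- An orbit sum. -/
def onePairOrb18 : Orb2 where
  si := 0
  els := [(0x087326541, [(0, 1, 1, 4), (4, 2, 2, 5), (5, 3, 3, 6), (6, 7, 7, 8)]),
    (0x183726540, [(1, 4, 4, 2), (2, 5, 5, 7), (7, 8, 3, 6)]),
    (0x583726410, [(2, 4, 3, 6), (5, 7, 7, 8)]),
    (0x487326510, [(2, 5, 5, 3), (3, 6, 6, 7), (7, 8, 8, 4)]),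
    (0x687325410, [(2, 4, 3, 5), (6, 7, 7, 8)])]
  moves := [[(1, 42), (0, 42), (2, 1), (4, 1), (3, 1)],
    [(2, 24), (1, 22), (3, 23), (0, 22), (4, 54)]]

/-- An orbit sum. -/
def onePairOrb19 : Orb2 where
  si := 0
  els := [(0x874326510, [(2, 5, 5, 3), (3, 6, 6, 4)]),
    (0x876325410, [(2, 4, 3, 5)]),
    (0x832706541, [(0, 1, 1, 4), (2, 5, 5, 7), (7, 3, 3, 6)]),
    (0x837216540, [(1, 4, 2, 5), (3, 6, 6, 7)]),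
    (0x873526410, [(2, 4, 3, 6)])]
  moves := [[(1, 1), (0, 1), (3, 42), (2, 42), (4, 1)],
    [(2, 51), (1, 54), (4, 53), (3, 22), (0, 23)]]

/-- An orbit sum. -/
def onePairOrb20 : Orb2 where
  si := 0
  els := [(0x387206541, [(0, 1, 1, 4), (2, 5, 3, 6), (6, 7, 7, 8)]),
    (0x382716540, [(1, 4, 2, 5), (5, 7, 7, 8), (8, 3, 3, 6)]),
    (0x375826410, [(2, 4, 3, 6), (6, 5, 5, 8)]),
    (0x378426510, [(2, 5, 5, 4), (3, 6, 6, 8)]),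
    (0x378625410, [(2, 4, 3, 5), (5, 6, 6, 8)])]
  moves := [[(1, 42), (0, 42), (2, 1), (4, 1), (3, 1)],
    [(2, 49), (1, 22), (3, 23), (0, 47), (4, 54)]]

/-- An orbit sum. -/
def onePairOrb21 : Orb2 where
  si := 0
  els := [(0x073826541, [(0, 1, 1, 4), (4, 2, 2, 5), (5, 8, 3, 6)]),
    (0x178326540, [(1, 4, 4, 2), (2, 5, 5, 3), (3, 6, 6, 8)]),
    (0x578326410, [(2, 4, 3, 6), (6, 8, 8, 5)]),
    (0x473826510, [(2, 5, 5, 8), (8, 4, 3, 6)]),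
    (0x673825410, [(2, 4, 3, 5), (5, 8, 8, 6)])]
  moves := [[(1, 42), (0, 42), (2, 1), (4, 1), (3, 1)],
    [(2, 24), (1, 22), (3, 23), (0, 22), (4, 54)]]

/-- An orbit sum. -/
def onePairOrb22 : Orb2 where
  si := 0
  els := [(0x287635410, [(2, 4, 4, 3), (3, 5, 5, 6), (6, 7, 7, 8)]),
    (0x287436510, [(2, 5, 5, 4), (4, 3, 3, 6), (6, 7, 7, 8)]),
    (0x278306541, [(0, 1, 1, 4), (2, 5, 5, 3), (3, 6, 6, 8)]),
    (0x273816540, [(1, 4, 2, 5), (5, 8, 3, 6)]),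
    (0x285736410, [(2, 4, 4, 3), (3, 6, 6, 5), (5, 7, 7, 8)])]
  moves := [[(1, 1), (0, 1), (3, 42), (2, 42), (4, 1)],
    [(0, 54), (2, 47), (4, 49), (3, 22), (1, 23)]]

/-- An orbit sum. -/
def onePairOrb23 : Orb2 where
  si := 0
  els := [(0x372806541, [(0, 1, 1, 4), (2, 5, 5, 8), (8, 3, 3, 6)]),
    (0x378216540, [(1, 4, 2, 5), (3, 6, 6, 8)]),
    (0x387526410, [(2, 4, 3, 6), (6, 7, 7, 8)]),
    (0x384726510, [(2, 5, 5, 7), (7, 8, 8, 3), (3, 6, 6, 4)]),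
    (0x386725410, [(2, 4, 3, 5), (5, 7, 7, 8)])]
  moves := [[(1, 42), (0, 42), (2, 1), (4, 1), (3, 1)],
    [(2, 53), (1, 22), (3, 23), (0, 51), (4, 54)]]

/-- An orbit sum. -/
def onePairOrb24 : Orb2 where
  si := 0
  els := [(0x367825410, [(2, 4, 3, 5), (5, 8, 6, 7)]),
    (0x347826510, [(2, 5, 5, 8), (8, 3, 3, 6), (6, 7, 7, 4)]),
    (0x328706541, [(0, 1, 1, 4), (2, 5, 5, 7), (3, 6, 6, 8)]),
    (0x327816540, [(1, 4, 2, 5), (5, 8, 8, 3), (3, 6, 6, 7)]),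
    (0x358726410, [(2, 4, 3, 6), (6, 8, 5, 7)])]
  moves := [[(1, 1), (0, 1), (3, 42), (2, 42), (4, 1)],
    [(0, 54), (2, 77), (4, 79), (3, 22), (1, 23)]]

/-- An orbit sum. -/
def onePairOrb25 : Orb2 where
  si := 1
  els := [(0x367825410, [(2, 4, 3, 5), (5, 8, 6, 7)]),
    (0x347826510, [(2, 5, 5, 8), (8, 3, 3, 6), (6, 7, 7, 4)]),
    (0x327816540, [(1, 4, 2, 5), (5, 8, 8, 3), (3, 6, 6, 7)]),
    (0x328706541, [(0, 1, 1, 4), (2, 5, 5, 7), (3, 6, 6, 8)]),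
    (0x358726410, [(2, 4, 3, 6), (6, 8, 5, 7)])]
  moves := [[(1, 1), (0, 1), (3, 42), (2, 42), (4, 1)],
    [(0, 14), (2, 45), (4, 16), (3, 22), (1, 6)]]

/-- An orbit sum. -/
def onePairOrb26 : Orb2 where
  si := 0
  els := [(0x837426510, [(2, 5, 5, 4), (3, 6, 6, 7)]),
    (0x837625410, [(2, 4, 3, 5), (5, 6, 6, 7)]),
    (0x873206541, [(0, 1, 1, 4), (2, 5, 3, 6)]),
    (0x872316540, [(1, 4, 2, 5), (5, 3, 3, 6)]),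
    (0x835726410, [(2, 4, 3, 6), (6, 5, 5, 7)])]
  moves := [[(1, 1), (0, 1), (3, 42), (2, 42), (4, 1)],
    [(2, 47), (1, 54), (4, 49), (3, 22), (0, 23)]]

/-- An orbit sum. -/
def onePairOrb27 : Orb2 where
  si := 1
  els := [(0x837426510, [(2, 5, 5, 4), (3, 6, 6, 7)]),
    (0x837625410, [(2, 4, 3, 5), (5, 6, 6, 7)]),
    (0x872316540, [(1, 4, 2, 5), (5, 3, 3, 6)]),
    (0x873206541, [(0, 1, 1, 4), (2, 5, 3, 6)]),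
    (0x835726410, [(2, 4, 3, 6), (6, 5, 5, 7)])]
  moves := [[(1, 1), (0, 1), (3, 42), (2, 42), (4, 1)],
    [(2, 18), (1, 14), (4, 4), (3, 22), (0, 6)]]

/-- An orbit sum. -/
def onePairOrb28 : Orb2 where
  si := 0
  els := [(0x283706541, [(0, 1, 1, 4), (2, 5, 5, 7), (7, 8, 3, 6)]),
    (0x287316540, [(1, 4, 2, 5), (5, 3, 3, 6), (6, 7, 7, 8)]),
    (0x278536410, [(2, 4, 4, 3), (3, 6, 6, 8)]),
    (0x274836510, [(2, 5, 5, 8), (3, 6, 6, 4)]),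
    (0x276835410, [(2, 4, 4, 3), (3, 5, 5, 8)])]
  moves := [[(1, 42), (0, 42), (2, 1), (4, 1), (3, 1)],
    [(2, 53), (1, 22), (3, 23), (0, 51), (4, 54)]]

/-- An orbit sum. -/
def onePairOrb29 : Orb2 where
  si := 1
  els := [(0x387206541, [(0, 1, 1, 4), (2, 5, 3, 6), (6, 7, 7, 8)]),
    (0x382716540, [(1, 4, 2, 5), (5, 7, 7, 8), (8, 3, 3, 6)]),
    (0x375826410, [(2, 4, 3, 6), (6, 5, 5, 8)]),
    (0x378426510, [(2, 5, 5, 4), (3, 6, 6, 8)]),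
    (0x378625410, [(2, 4, 3, 5), (5, 6, 6, 8)])]
  moves := [[(1, 42), (0, 42), (2, 1), (4, 1), (3, 1)],
    [(0, 22), (2, 4), (3, 6), (1, 18), (4, 14)]]

/-- An orbit sum. -/
def onePairOrb30 : Orb2 where
  si := 0
  els := [(0x736825410, [(2, 4, 3, 5), (5, 8, 8, 7)]),
    (0x734826510, [(2, 5, 5, 8), (8, 7, 7, 3), (3, 6, 6, 4)]),
    (0x782306541, [(0, 1, 1, 4), (2, 5, 5, 3), (3, 6, 7, 8)]),
    (0x783216540, [(1, 4, 2, 5), (3, 6, 7, 8)]),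
    (0x738526410, [(2, 4, 3, 6), (6, 8, 8, 7)])]
  moves := [[(1, 1), (0, 1), (3, 42), (2, 42), (4, 1)],
    [(0, 54), (2, 51), (4, 53), (3, 22), (1, 23)]]

/-- An orbit sum. -/
def onePairOrb31 : Orb2 where
  si := 1
  els := [(0x736825410, [(2, 4, 3, 5), (5, 8, 8, 7)]),
    (0x734826510, [(2, 5, 5, 8), (8, 7, 7, 3), (3, 6, 6, 4)]),
    (0x783216540, [(1, 4, 2, 5), (3, 6, 7, 8)]),
    (0x782306541, [(0, 1, 1, 4), (2, 5, 5, 3), (3, 6, 7, 8)]),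
    (0x738526410, [(2, 4, 3, 6), (6, 8, 8, 7)])]
  moves := [[(1, 1), (0, 1), (3, 42), (2, 42), (4, 1)],
    [(0, 14), (2, 20), (4, 3), (3, 22), (1, 6)]]

/-- An orbit sum. -/
def onePairOrb32 : Orb2 where
  si := 1
  els := [(0x372806541, [(0, 1, 1, 4), (2, 5, 5, 8), (8, 3, 3, 6)]),
    (0x378216540, [(1, 4, 2, 5), (3, 6, 6, 8)]),
    (0x387526410, [(2, 4, 3, 6), (6, 7, 7, 8)]),
    (0x384726510, [(2, 5, 5, 7), (7, 8, 8, 3), (3, 6, 6, 4)]),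
    (0x386725410, [(2, 4, 3, 5), (5, 7, 7, 8)])]
  moves := [[(1, 42), (0, 42), (2, 1), (4, 1), (3, 1)],
    [(0, 22), (2, 3), (3, 6), (1, 20), (4, 14)]]

/-- An orbit sum. -/
def onePairOrb33 : Orb2 where
  si := 0
  els := [(0x268735410, [(2, 4, 4, 3), (3, 5, 5, 7), (7, 6, 6, 8)]),
    (0x248736510, [(2, 5, 5, 7), (7, 4, 4, 3), (3, 6, 6, 8)]),
    (0x237806541, [(0, 1, 1, 4), (2, 5, 5, 8), (3, 6, 6, 7)]),
    (0x238716540, [(1, 4, 2, 5), (5, 7, 7, 3), (3, 6, 6, 8)]),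
    (0x257836410, [(2, 4, 4, 3), (3, 6, 6, 7), (7, 5, 5, 8)])]
  moves := [[(1, 1), (0, 1), (3, 42), (2, 42), (4, 1)],
    [(0, 54), (2, 77), (4, 79), (3, 22), (1, 23)]]

/-- An orbit sum. -/
def onePairOrb34 : Orb2 where
  si := 0
  els := [(0x638725410, [(2, 4, 3, 5), (5, 7, 6, 8)]),
    (0x438726510, [(2, 5, 5, 7), (7, 3, 3, 6), (6, 8, 8, 4)]),
    (0x038726541, [(0, 1, 1, 4), (4, 2, 2, 5), (5, 7, 7, 3), (3, 6, 6, 8)]),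
    (0x137826540, [(1, 4, 4, 2), (2, 5, 5, 8), (3, 6, 6, 7)]),
    (0x537826410, [(2, 4, 3, 6), (6, 7, 5, 8)])]
  moves := [[(1, 1), (0, 1), (3, 42), (2, 42), (4, 1)],
    [(0, 54), (2, 22), (4, 24), (3, 22), (1, 23)]]

/-- An orbit sum. -/
def onePairOrb35 : Orb2 where
  si := 1
  els := [(0x785326410, [(2, 4, 3, 6), (6, 5, 7, 8)]),
    (0x783426510, [(2, 5, 5, 4), (3, 6, 7, 8)]),
    (0x783625410, [(2, 4, 3, 5), (5, 6, 7, 8)]),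
    (0x732816540, [(1, 4, 2, 5), (5, 8, 8, 7), (7, 3, 3, 6)]),
    (0x738206541, [(0, 1, 1, 4), (2, 5, 3, 6), (6, 8, 8, 7)])]
  moves := [[(0, 1), (2, 1), (1, 1), (4, 42), (3, 42)],
    [(1, 6), (3, 18), (2, 14), (0, 4), (4, 22)]]

/-- An orbit sum. -/
def onePairOrb36 : Orb2 where
  si := 6
  els := [(0x835407621, [(0, 1, 1, 2), (2, 6, 6, 5), (5, 4, 3, 7)]),
    (0x825417630, [(1, 3, 3, 7), (7, 2, 2, 6), (6, 5, 5, 4)]),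
    (0x837605421, [(0, 1, 1, 2), (2, 4, 3, 5), (5, 6, 6, 7)]),
    (0x836417520, [(1, 2, 2, 5), (5, 4, 3, 7)]),
    (0x827615430, [(1, 3, 3, 5), (5, 6, 6, 7), (7, 2, 2, 4)]),
    (0x826407531, [(0, 1, 1, 3), (3, 7, 7, 2), (2, 5, 5, 4)]),
    (0x837516420, [(1, 2, 2, 4), (3, 6, 6, 7)]),
    (0x836527410, [(2, 4, 3, 7)]),
    (0x827506431, [(0, 1, 1, 3), (3, 6, 6, 7), (7, 2, 2, 4)]),
    (0x816507432, [(0, 2, 2, 4), (1, 3, 3, 7)]),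
    (0x837426510, [(2, 5, 5, 4), (3, 6, 6, 7)]),
    (0x817406532, [(0, 2, 2, 5), (5, 4, 1, 3), (3, 6, 6, 7)])]
  moves := [[(1, 0), (0, 0), (4, 0), (5, 0), (2, 0), (3, 0), (8, 0), (7, 79), (6, 0), (9, 79), (10, 79), (11, 79)],
    [(1, 79), (0, 79), (4, 79), (3, 79), (2, 79), (5, 79), (6, 79), (9, 0), (8, 79), (7, 0), (11, 0), (10, 0)],
    [(0, 35), (1, 35), (2, 35), (6, 0), (4, 35), (8, 0), (3, 0), (10, 0), (5, 0), (11, 0), (7, 0), (9, 0)],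
    [(2, 0), (4, 0), (0, 0), (3, 35), (1, 0), (5, 35), (6, 35), (10, 35), (8, 35), (11, 35), (7, 35), (9, 35)],
    [(3, 24), (5, 16), (6, 1), (7, 24), (8, 89), (9, 16), (10, 1), (0, 0), (11, 89), (1, 0), (2, 0), (4, 0)]]

/-- An orbit sum. -/
def onePairOrb37 : Orb2 where
  si := 6
  els := [(0x835427610, [(2, 6, 6, 5), (5, 4, 3, 7)]),
    (0x815407632, [(0, 2, 2, 6), (6, 5, 5, 4), (1, 3, 3, 7)]),
    (0x837625410, [(2, 4, 3, 5), (5, 6, 6, 7)]),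
    (0x834607521, [(0, 1, 1, 2), (2, 5, 5, 6), (6, 4, 3, 7)]),
    (0x817605432, [(0, 2, 2, 4), (1, 3, 3, 5), (5, 6, 6, 7)]),
    (0x824617530, [(1, 3, 3, 7), (7, 2, 2, 5), (5, 6, 6, 4)]),
    (0x835706421, [(0, 1, 1, 2), (2, 4, 3, 6), (6, 5, 5, 7)]),
    (0x835617420, [(1, 2, 2, 4), (3, 7, 5, 6)]),
    (0x825716430, [(1, 3, 3, 6), (6, 5, 5, 7), (7, 2, 2, 4)]),
    (0x825607431, [(0, 1, 1, 3), (3, 7, 7, 2), (2, 4, 5, 6)]),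
    (0x834716520, [(1, 2, 2, 5), (5, 7, 7, 3), (3, 6, 6, 4)]),
    (0x824706531, [(0, 1, 1, 3), (3, 6, 6, 4), (2, 5, 5, 7)])]
  moves := [[(0, 79), (1, 79), (2, 79), (5, 0), (4, 79), (3, 0), (8, 0), (9, 0), (6, 0), (7, 0), (11, 0), (10, 0)],
    [(1, 0), (0, 0), (4, 0), (5, 79), (2, 0), (3, 79), (8, 79), (7, 79), (6, 79), (9, 79), (10, 79), (11, 79)],
    [(0, 35), (1, 35), (2, 35), (6, 0), (4, 35), (8, 0), (3, 0), (10, 0), (5, 0), (11, 0), (7, 0), (9, 0)],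
    [(2, 0), (4, 0), (0, 0), (3, 35), (1, 0), (5, 35), (6, 35), (10, 35), (8, 35), (11, 35), (7, 35), (9, 35)],
    [(3, 0), (5, 0), (6, 35), (7, 24), (8, 35), (9, 16), (10, 1), (0, 24), (11, 89), (1, 16), (2, 24), (4, 16)]]

/-- An orbit sum. -/
def onePairOrb38 : Orb2 where
  si := 6
  els := [(0x834517620, [(1, 2, 2, 6), (6, 4, 3, 7)]),
    (0x824507631, [(0, 1, 1, 3), (3, 7, 7, 2), (2, 6, 6, 4)]),
    (0x836715420, [(1, 2, 2, 4), (3, 5, 5, 7)]),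
    (0x834627510, [(2, 5, 5, 6), (6, 4, 3, 7)]),
    (0x826705431, [(0, 1, 1, 3), (3, 5, 5, 7), (7, 2, 2, 4)]),
    (0x814607532, [(0, 2, 2, 5), (5, 6, 6, 4), (1, 3, 3, 7)]),
    (0x835726410, [(2, 4, 3, 6), (6, 5, 5, 7)]),
    (0x836507421, [(0, 1, 1, 2), (2, 4, 3, 7)]),
    (0x815706432, [(0, 2, 2, 4), (1, 3, 3, 6), (6, 5, 5, 7)]),
    (0x826517430, [(1, 3, 3, 7), (7, 2, 2, 4)]),
    (0x837406521, [(0, 1, 1, 2), (2, 5, 5, 4), (3, 6, 6, 7)]),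
    (0x827416530, [(1, 3, 3, 6), (6, 7, 7, 2), (2, 5, 5, 4)])]
  moves := [[(1, 0), (0, 0), (4, 0), (3, 79), (2, 0), (5, 79), (6, 79), (9, 0), (8, 79), (7, 0), (11, 0), (10, 0)],
    [(0, 79), (1, 79), (2, 79), (5, 0), (4, 79), (3, 0), (8, 0), (9, 79), (6, 0), (7, 79), (11, 79), (10, 79)],
    [(0, 35), (1, 35), (2, 35), (6, 0), (4, 35), (8, 0), (3, 0), (10, 0), (5, 0), (11, 0), (7, 0), (9, 0)],
    [(2, 0), (4, 0), (0, 0), (3, 35), (1, 0), (5, 35), (6, 35), (10, 35), (8, 35), (11, 35), (7, 35), (9, 35)],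
    [(3, 24), (5, 16), (6, 1), (7, 0), (8, 89), (9, 0), (10, 35), (0, 24), (11, 35), (1, 16), (2, 24), (4, 16)]]

/-- An orbit sum. -/
def onePairOrb39 : Orb2 where
  si := 3
  els := [(0x271806543, [(0, 3, 3, 6), (6, 1, 1, 4), (2, 5, 5, 8)]),
    (0x723806541, [(0, 1, 1, 4), (2, 5, 5, 8), (8, 7, 3, 6)]),
    (0x852107643, [(0, 3, 3, 7), (7, 5, 5, 1), (1, 4, 2, 6)]),
    (0x035817642, [(0, 2, 2, 6), (6, 5, 5, 8), (1, 4, 3, 7)]),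
    (0x857306421, [(0, 1, 1, 2), (2, 4, 3, 6), (6, 7, 7, 5)]),
    (0x185726430, [(1, 3, 3, 6), (6, 5, 5, 7), (7, 8, 2, 4)]),
    (0x572318640, [(1, 4, 2, 6), (3, 8, 8, 5)]),
    (0x135708642, [(0, 2, 2, 6), (6, 5, 5, 7), (7, 3, 3, 8), (8, 1, 1, 4)]),
    (0x358726410, [(2, 4, 3, 6), (6, 8, 5, 7)]),
    (0x315208764, [(0, 4, 1, 6), (6, 5, 5, 2), (2, 7, 3, 8)]),
    (0x275308641, [(0, 1, 1, 4), (2, 6, 6, 5), (5, 3, 3, 8)]),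
    (0x317806542, [(0, 2, 2, 5), (5, 8, 8, 3), (3, 6, 6, 7), (7, 1, 1, 4)]),
    (0x725108643, [(0, 3, 3, 8), (8, 7, 7, 2), (2, 6, 6, 5), (5, 1, 1, 4)]),
    (0x138207654, [(0, 4, 1, 5), (5, 2, 2, 6), (6, 8, 3, 7)]),
    (0x075826431, [(0, 1, 1, 3), (3, 6, 6, 5), (5, 8, 2, 4)]),
    (0x285317640, [(1, 4, 2, 6), (6, 5, 5, 3), (3, 7, 7, 8)]),
    (0x581706432, [(0, 2, 2, 4), (1, 3, 3, 6), (5, 7, 7, 8)]),
    (0x758316420, [(1, 2, 2, 4), (3, 6, 6, 8), (8, 7, 7, 5)]),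
    (0x823716540, [(1, 4, 2, 5), (5, 7, 3, 6)]),
    (0x582307641, [(0, 1, 1, 4), (2, 6, 3, 7), (7, 8, 8, 5)]),
    (0x037218654, [(0, 4, 4, 1), (1, 5, 5, 2), (2, 6, 6, 7), (7, 3, 3, 8)])]
  moves := [[(1, 0), (0, 0), (4, 33), (3, 86), (2, 14), (8, 3), (6, 3), (9, 22), (5, 3), (7, 5), (12, 0), (13, 55), (10, 0), (11, 34), (14, 79), (17, 62), (19, 55), (15, 37), (18, 4), (16, 34), (20, 16)],
    [(2, 89), (3, 64), (5, 63), (6, 58), (7, 39), (0, 47), (1, 60), (10, 58), (11, 47), (8, 36), (4, 88), (9, 50), (14, 63), (15, 73), (16, 16), (18, 60), (12, 81), (20, 40), (13, 8), (17, 88), (19, 73)]]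

/-- An orbit sum. -/
def onePairOrb40 : Orb2 where
  si := 2
  els := [(0x287106543, [(0, 3, 3, 6), (6, 7, 7, 8), (8, 2, 2, 5), (5, 1, 1, 4)]),
    (0x728316540, [(1, 4, 2, 5), (5, 3, 3, 6), (6, 8, 8, 7)]),
    (0x821507643, [(0, 3, 3, 7), (7, 2, 2, 6), (6, 1, 1, 4)]),
    (0x138507642, [(0, 2, 2, 6), (6, 8, 8, 1), (1, 4, 3, 7)]),
    (0x853716420, [(1, 2, 2, 4), (3, 6, 5, 7)]),
    (0x087526431, [(0, 1, 1, 3), (3, 6, 6, 7), (7, 8, 2, 4)]),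
    (0x573208641, [(0, 1, 1, 4), (2, 6, 6, 3), (3, 8, 8, 5)]),
    (0x037518642, [(0, 2, 2, 6), (6, 7, 7, 3), (3, 8, 1, 4)]),
    (0x358726410, [(2, 4, 3, 6), (6, 8, 5, 7)]),
    (0x315208764, [(0, 4, 1, 6), (6, 5, 5, 2), (2, 7, 3, 8)]),
    (0x273518640, [(1, 4, 2, 6), (6, 3, 3, 8)]),
    (0x317806542, [(0, 2, 2, 5), (5, 8, 8, 3), (3, 6, 6, 7), (7, 1, 1, 4)]),
    (0x751208643, [(0, 3, 3, 8), (8, 7, 7, 5), (5, 2, 2, 6), (6, 1, 1, 4)]),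
    (0x032817654, [(0, 4, 4, 1), (1, 5, 5, 8), (2, 6, 3, 7)]),
    (0x178526430, [(1, 3, 3, 6), (6, 8, 2, 4)]),
    (0x283507641, [(0, 1, 1, 4), (2, 6, 6, 3), (3, 7, 7, 8)]),
    (0x578106432, [(0, 2, 2, 4), (1, 3, 3, 6), (6, 8, 8, 5)]),
    (0x753806421, [(0, 1, 1, 2), (2, 4, 3, 6), (5, 8, 8, 7)]),
    (0x827306541, [(0, 1, 1, 4), (2, 5, 5, 3), (3, 6, 6, 7)]),
    (0x583217640, [(1, 4, 2, 6), (6, 3, 3, 7), (7, 8, 8, 5)]),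
    (0x132708654, [(0, 4, 1, 5), (5, 7, 7, 3), (3, 8, 2, 6)])]
  moves := [[(1, 3), (0, 3), (4, 65), (3, 86), (2, 39), (8, 53), (6, 4), (9, 77), (5, 49), (7, 44), (12, 4), (13, 94), (10, 4), (11, 88), (14, 79), (17, 65), (19, 81), (15, 39), (18, 3), (16, 66), (20, 16)],
    [(2, 89), (3, 67), (5, 34), (6, 59), (7, 37), (0, 77), (1, 60), (10, 59), (11, 20), (8, 43), (4, 88), (9, 46), (14, 34), (15, 70), (16, 4), (18, 60), (12, 84), (20, 38), (13, 9), (17, 88), (19, 70)]]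

/-- Terms. -/
def onePairTerms0 : List Term2 :=
  [⟨(0x274386501, [(0, 1, 2, 5), (5, 3, 3, 6), (6, 4, 4, 8)]), 0, [[(1, 0), (2, 0), (3, 0)],
     [(4, 0), (5, 0), (6, 0)],
     [(7, 0), (8, 0), (9, 0)]]⟩,
   ⟨(0x153478206, [(0, 6, 6, 3), (3, 8, 8, 1), (4, 7, 7, 5)]), 1, [[(10, 0), (11, 0), (12, 0)],
     [(13, 0), (14, 0), (15, 0)],
     [(16, 0), (17, 0), (18, 0)]]⟩,
   ⟨(0x632057418, [(0, 8, 8, 6), (6, 2, 2, 4), (4, 5, 3, 7)]), 2, [[(19, 0), (20, 0), (21, 0)],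
     [(22, 0), (23, 0), (24, 0)],
     [(25, 0), (26, 0), (27, 0)]]⟩,
   ⟨(0x210874536, [(0, 6, 1, 3), (3, 4, 4, 7), (2, 5, 5, 8)]), 2, [[(28, 0), (29, 0), (30, 0)],
     [(31, 0), (32, 0), (33, 0)],
     [(34, 0), (35, 0), (36, 0)]]⟩,
   ⟨(0x528160437, [(0, 7, 7, 2), (2, 4, 4, 6), (6, 8, 8, 5), (5, 1, 1, 3)]), 0, [[(37, 0), (38, 0), (39, 0)],
     [(40, 0), (41, 0), (42, 0)],
     [(43, 0), (44, 0), (45, 0)]]⟩,
   ⟨(0x320684751, [(0, 1, 1, 5), (5, 6, 2, 7), (3, 4, 4, 8)]), 2, [[(46, 0), (47, 0), (48, 0)],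
     [(49, 0), (50, 0), (51, 0)],
     [(52, 0), (53, 0), (54, 0)]]⟩,
   ⟨(0x657120483, [(0, 3, 1, 8), (8, 6, 6, 7), (7, 5, 2, 4)]), 3, [[(55, 0), (56, 0), (57, 0)],
     [(58, 0), (59, 0), (60, 0)],
     [(61, 0), (62, 0), (63, 0)]]⟩,
   ⟨(0x275018364, [(0, 4, 4, 1), (1, 6, 6, 5), (2, 3, 3, 8)]), 1, [[(64, 0), (65, 0), (66, 0)],
     [(67, 0), (68, 0), (69, 0)],
     [(70, 0), (71, 0), (72, 0)]]⟩]

/-- Terms. -/
def onePairTerms1 : List Term2 :=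
  [⟨(0x076453821, [(0, 1, 1, 2), (2, 8, 4, 5)]), 1, [[(73, 0), (74, 0), (75, 0)],
     [(76, 0), (77, 0), (78, 0)],
     [(79, 0), (80, 0), (81, 0)]]⟩,
   ⟨(0x857402361, [(0, 1, 1, 6), (6, 7, 7, 5), (5, 4, 2, 3)]), 4, [[(82, 0), (83, 0), (84, 0)],
     [(85, 0), (86, 0), (87, 0)],
     [(88, 0), (89, 0), (90, 0)]]⟩,
   ⟨(0x870216354, [(0, 4, 4, 1), (1, 5, 5, 2), (2, 3, 3, 6)]), 1, [[(91, 0), (92, 0), (93, 0)],
     [(91, 5), (92, 5), (93, 5)],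
     [(91, 22), (92, 22), (93, 22)]]⟩,
   ⟨(0x657032184, [(0, 4, 4, 3), (3, 2, 2, 1), (1, 8, 8, 6), (6, 7, 7, 5)]), 2, [[(94, 0), (95, 0), (96, 0)],
     [(97, 0), (98, 0), (99, 0)],
     [(100, 0), (101, 0), (102, 0)]]⟩,
   ⟨(0x026853471, [(0, 1, 1, 7), (7, 2, 2, 4), (4, 5, 5, 8)]), 2, [[(103, 0), (104, 0), (105, 0)],
     [(106, 0), (107, 0), (108, 0)],
     [(109, 0), (110, 0), (111, 0)]]⟩,
   ⟨(0x213857460, [(1, 6, 6, 3), (3, 7, 2, 4), (4, 5, 5, 8)]), 2, [[(112, 0), (113, 0), (114, 0)],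
     [(115, 0), (116, 0), (117, 0)],
     [(118, 0), (119, 0), (120, 0)]]⟩,
   ⟨(0x251760348, [(0, 8, 8, 2), (2, 3, 1, 4), (4, 6, 5, 7)]), 4, [[(121, 0), (122, 0), (123, 0)],
     [(124, 0), (125, 0), (126, 0)],
     [(127, 0), (128, 0), (129, 0)]]⟩,
   ⟨(0x824173650, [(1, 5, 2, 6), (6, 4, 4, 7)]), 0, [[(130, 0), (131, 0), (132, 0)],
     [(133, 0), (134, 0), (135, 0)],
     [(136, 0), (137, 0), (138, 0)]]⟩]

/-- Terms. -/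
def onePairTerms2 : List Term2 :=
  [⟨(0x471605832, [(0, 2, 2, 8), (8, 4, 1, 3), (3, 5, 5, 6)]), 3, [[(139, 0), (140, 0), (141, 0)],
     [(142, 0), (143, 0), (144, 0)],
     [(145, 0), (146, 0), (147, 0)]]⟩,
   ⟨(0x352871064, [(0, 4, 4, 7), (7, 5, 5, 8), (8, 3, 3, 1), (1, 6, 6, 2)]), 3, [[(148, 0), (149, 0), (150, 0)],
     [(151, 0), (152, 0), (153, 0)],
     [(154, 0), (155, 0), (156, 0)]]⟩,
   ⟨(0x327085146, [(0, 6, 6, 7), (7, 2, 2, 1), (1, 4, 4, 8), (8, 3, 3, 5)]), 3, [[(157, 0), (158, 0), (159, 0)],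
     [(160, 0), (161, 0), (162, 0)],
     [(163, 0), (164, 0), (165, 0)]]⟩,
   ⟨(0x023184567, [(0, 7, 7, 2), (2, 5, 5, 1), (1, 6, 6, 3), (3, 4, 4, 8)]), 1, [[(166, 0), (167, 0), (168, 0)],
     [(169, 0), (170, 0), (171, 0)],
     [(172, 0), (173, 0), (174, 0)]]⟩,
   ⟨(0x384120576, [(0, 6, 6, 4), (4, 2, 2, 5), (5, 1, 1, 7), (7, 8, 8, 3)]), 1, [[(175, 0), (176, 0), (177, 0)],
     [(178, 0), (179, 0), (180, 0)],
     [(181, 0), (182, 0), (183, 0)]]⟩,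
   ⟨(0x510873246, [(0, 6, 1, 4), (4, 7, 5, 8)]), 1, [[(184, 0), (185, 0), (186, 0)],
     [(187, 0), (188, 0), (189, 0)],
     [(190, 0), (191, 0), (192, 0)]]⟩,
   ⟨(0x241036875, [(0, 5, 1, 7), (7, 4, 4, 3), (3, 6, 2, 8)]), 5, [[(193, 0), (194, 0), (195, 0)],
     [(196, 0), (197, 0), (198, 0)],
     [(199, 0), (200, 0), (201, 0)]]⟩,
   ⟨(0x186420753, [(0, 3, 1, 5), (5, 4, 4, 2), (2, 7, 7, 8)]), 1, [[(202, 0), (203, 0), (204, 0)],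
     [(205, 0), (206, 0), (207, 0)],
     [(208, 0), (209, 0), (210, 0)]]⟩]

/-- Terms. -/
def onePairTerms3 : List Term2 :=
  [⟨(0x658247310, [(2, 3, 3, 7), (7, 5, 6, 8)]), 0, [[(211, 0), (212, 0), (213, 0)],
     [(214, 0), (215, 0), (216, 0)],
     [(217, 0), (218, 0), (219, 0)]]⟩,
   ⟨(0x471320685, [(0, 5, 5, 3), (1, 8, 8, 4), (4, 2, 2, 6)]), 2, [[(220, 0), (221, 0), (222, 0)],
     [(223, 0), (224, 0), (225, 0)],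
     [(226, 0), (227, 0), (228, 0)]]⟩,
   ⟨(0x548713206, [(0, 6, 6, 8), (8, 5, 5, 7), (7, 4, 4, 1)]), 5, [[(229, 0), (230, 0), (231, 0)],
     [(232, 0), (233, 0), (234, 0)],
     [(235, 0), (236, 0), (237, 0)]]⟩,
   ⟨(0x563024718, [(0, 8, 8, 5), (2, 7, 7, 6), (6, 3, 3, 4)]), 0, [[(238, 0), (239, 0), (240, 0)],
     [(241, 0), (242, 0), (243, 0)],
     [(244, 0), (245, 0), (246, 0)]]⟩,
   ⟨(0x348057216, [(0, 6, 6, 8), (8, 3, 3, 7), (7, 4, 4, 5)]), 0, [[(247, 0), (248, 0), (249, 0)],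
     [(250, 0), (251, 0), (252, 0)],
     [(253, 0), (254, 0), (255, 0)]]⟩,
   ⟨(0x520463781, [(0, 1, 1, 8), (8, 5, 5, 4), (4, 6, 2, 7)]), 3, [[(256, 0), (257, 0), (258, 0)],
     [(259, 0), (260, 0), (261, 0)],
     [(262, 0), (263, 0), (264, 0)]]⟩,
   ⟨(0x081742635, [(0, 5, 5, 7), (7, 8, 1, 3), (3, 2, 2, 6)]), 3, [[(265, 0), (266, 0), (267, 0)],
     [(268, 0), (269, 0), (270, 0)],
     [(271, 0), (272, 0), (273, 0)]]⟩,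
   ⟨(0x532670148, [(0, 8, 8, 5), (5, 6, 6, 2), (2, 1, 1, 4), (4, 7, 7, 3)]), 5, [[(274, 0), (275, 0), (276, 0)],
     [(277, 0), (278, 0), (279, 0)],
     [(280, 0), (281, 0), (282, 0)]]⟩]

/-- Terms. -/
def onePairTerms4 : List Term2 :=
  [⟨(0x658201437, [(0, 7, 7, 5), (5, 2, 2, 4), (1, 3, 6, 8)]), 2, [[(283, 0), (284, 0), (285, 0)],
     [(286, 0), (287, 0), (288, 0)],
     [(289, 0), (290, 0), (291, 0)]]⟩,
   ⟨(0x286453170, [(1, 7, 7, 8), (8, 2, 4, 5)]), 1, [[(292, 0), (293, 0), (294, 0)],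
     [(295, 0), (296, 0), (297, 0)],
     [(298, 0), (299, 0), (300, 0)]]⟩,
   ⟨(0x402685371, [(0, 1, 1, 7), (2, 3, 3, 5), (5, 6, 4, 8)]), 2, [[(301, 0), (302, 0), (303, 0)],
     [(304, 0), (305, 0), (306, 0)],
     [(307, 0), (308, 0), (309, 0)]]⟩,
   ⟨(0x280371645, [(0, 5, 5, 3), (3, 1, 1, 4), (4, 7, 7, 8), (8, 2, 2, 6)]), 1, [[(310, 0), (311, 0), (312, 0)],
     [(313, 0), (314, 0), (315, 0)],
     [(316, 0), (317, 0), (318, 0)]]⟩,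
   ⟨(0x154820673, [(0, 3, 1, 7), (7, 5, 5, 8), (2, 6, 6, 4)]), 5, [[(319, 0), (320, 0), (321, 0)],
     [(322, 0), (323, 0), (324, 0)],
     [(325, 0), (326, 0), (327, 0)]]⟩,
   ⟨(0x871620453, [(0, 3, 1, 5), (5, 6, 2, 4)]), 5, [[(328, 0), (329, 0), (330, 0)],
     [(331, 0), (332, 0), (333, 0)],
     [(334, 0), (335, 0), (336, 0)]]⟩,
   ⟨(0x370215648, [(0, 8, 8, 3), (3, 5, 5, 2), (2, 6, 1, 4)]), 2, [[(337, 0), (338, 0), (339, 0)],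
     [(338, 4), (339, 16), (337, 3)],
     [(339, 3), (337, 4), (338, 16)]]⟩,
   ⟨(0x164325708, [(0, 8, 8, 1), (2, 7, 7, 6), (6, 4, 3, 5)]), 4, [[(340, 0), (341, 0), (342, 0)],
     [(343, 0), (344, 0), (345, 0)],
     [(346, 0), (347, 0), (348, 0)]]⟩]

/-- Terms. -/
def onePairTerms5 : List Term2 :=
  [⟨(0x307864215, [(0, 5, 5, 8), (8, 3, 3, 4), (4, 6, 6, 7)]), 4, [[(349, 0), (350, 0), (351, 0)],
     [(352, 0), (353, 0), (354, 0)],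
     [(355, 0), (356, 0), (357, 0)]]⟩,
   ⟨(0x675203814, [(0, 4, 2, 8), (8, 6, 6, 5)]), 1, [[(358, 0), (359, 0), (360, 0)],
     [(361, 0), (362, 0), (363, 0)],
     [(364, 0), (365, 0), (366, 0)]]⟩,
   ⟨(0x745310286, [(0, 6, 6, 5), (5, 3, 1, 8), (8, 7, 7, 4)]), 5, [[(367, 0), (368, 0), (369, 0)],
     [(370, 0), (371, 0), (372, 0)],
     [(373, 0), (374, 0), (375, 0)]]⟩,
   ⟨(0x526374018, [(0, 8, 8, 5), (5, 3, 3, 4), (4, 7, 7, 2)]), 3, [[(376, 0), (377, 0), (378, 0)],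
     [(379, 0), (380, 0), (381, 0)],
     [(382, 0), (383, 0), (384, 0)]]⟩,
   ⟨(0x852746301, [(0, 1, 2, 3), (3, 6, 5, 7)]), 1, [[(385, 0), (386, 0), (387, 0)],
     [(388, 0), (389, 0), (390, 0)],
     [(391, 0), (392, 0), (393, 0)]]⟩,
   ⟨(0x847132056, [(0, 6, 6, 7), (7, 4, 4, 3), (3, 2, 1, 5)]), 2, [[(394, 0), (395, 0), (396, 0)],
     [(397, 0), (398, 0), (399, 0)],
     [(400, 0), (401, 0), (402, 0)]]⟩,
   ⟨(0x746032518, [(0, 8, 8, 7), (7, 4, 4, 3), (3, 2, 2, 5)]), 4, [[(403, 0), (404, 0), (405, 0)],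
     [(406, 0), (407, 0), (408, 0)],
     [(409, 0), (410, 0), (411, 0)]]⟩,
   ⟨(0x652380174, [(0, 4, 4, 8), (8, 6, 6, 2), (2, 1, 1, 7), (7, 5, 5, 3)]), 1, [[(412, 0), (413, 0), (414, 0)],
     [(415, 0), (416, 0), (417, 0)],
     [(418, 0), (419, 0), (420, 0)]]⟩]

/-- Terms. -/
def onePairTerms6 : List Term2 :=
  [⟨(0x605124738, [(0, 8, 8, 6), (6, 5, 5, 1), (1, 3, 3, 4), (4, 2, 2, 7)]), 3, [[(421, 0), (422, 0), (423, 0)],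
     [(423, 3), (421, 16), (422, 4)],
     [(422, 16), (423, 4), (421, 3)]]⟩,
   ⟨(0x236057148, [(0, 8, 8, 2), (2, 1, 1, 4), (4, 5, 3, 7)]), 3, [[(424, 0), (425, 0), (426, 0)],
     [(427, 0), (428, 0), (429, 0)],
     [(430, 0), (431, 0), (432, 0)]]⟩,
   ⟨(0x534218076, [(0, 6, 6, 4), (4, 1, 1, 7), (7, 3, 3, 8), (8, 5, 5, 2)]), 1, [[(433, 0), (434, 0), (435, 0)],
     [(436, 0), (437, 0), (438, 0)],
     [(439, 0), (440, 0), (441, 0)]]⟩,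
   ⟨(0x842560371, [(0, 1, 1, 7), (7, 4, 4, 6), (6, 2, 2, 3)]), 1, [[(442, 0), (443, 0), (444, 0)],
     [(445, 0), (446, 0), (447, 0)],
     [(448, 0), (449, 0), (450, 0)]]⟩,
   ⟨(0x864512370, [(1, 7, 7, 6), (6, 4, 2, 3)]), 3, [[(451, 0), (452, 0), (453, 0)],
     [(454, 0), (455, 0), (456, 0)],
     [(457, 0), (458, 0), (459, 0)]]⟩,
   ⟨(0x024531678, [(0, 8, 1, 7), (7, 2, 2, 6), (6, 4, 4, 3)]), 4, [[(460, 0), (461, 0), (462, 0)],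
     [(463, 0), (464, 0), (465, 0)],
     [(466, 0), (467, 0), (468, 0)]]⟩,
   ⟨(0x621348057, [(0, 7, 7, 2), (1, 5, 5, 3), (3, 8, 8, 6)]), 1, [[(469, 0), (470, 0), (471, 0)],
     [(472, 0), (473, 0), (474, 0)],
     [(475, 0), (476, 0), (477, 0)]]⟩,
   ⟨(0x035182647, [(0, 7, 7, 3), (3, 2, 2, 6), (6, 5, 5, 1), (1, 4, 4, 8)]), 5, [[(478, 0), (479, 0), (480, 0)],
     [(481, 0), (482, 0), (483, 0)],
     [(484, 0), (485, 0), (486, 0)]]⟩]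

/-- Terms. -/
def onePairTerms7 : List Term2 :=
  [⟨(0x346815027, [(0, 7, 7, 4), (4, 1, 1, 2), (3, 5, 5, 8)]), 2, [[(487, 0), (488, 0), (489, 0)],
     [(490, 0), (491, 0), (492, 0)],
     [(493, 0), (494, 0), (495, 0)]]⟩,
   ⟨(0x812067534, [(0, 4, 4, 6), (6, 2, 2, 5), (1, 3, 3, 7)]), 4, [[(496, 0), (497, 0), (498, 0)],
     [(497, 0), (498, 0), (496, 0)],
     [(498, 0), (496, 0), (497, 0)]]⟩,
   ⟨(0x834516027, [(0, 7, 7, 3), (3, 6, 6, 4), (4, 1, 1, 2)]), 5, [[(499, 0), (500, 0), (501, 0)],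
     [(502, 0), (503, 0), (504, 0)],
     [(505, 0), (506, 0), (507, 0)]]⟩,
   ⟨(0x134570826, [(0, 6, 6, 4), (4, 7, 7, 3), (1, 2, 2, 8)]), 2, [[(508, 0), (509, 0), (510, 0)],
     [(511, 0), (512, 0), (513, 0)],
     [(514, 0), (515, 0), (516, 0)]]⟩,
   ⟨(0x527438016, [(0, 6, 6, 7), (7, 2, 3, 8), (8, 5, 5, 4)]), 1, [[(517, 0), (518, 0), (519, 0)],
     [(520, 0), (521, 0), (522, 0)],
     [(523, 0), (524, 0), (525, 0)]]⟩,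
   ⟨(0x248136750, [(1, 5, 2, 7), (7, 4, 4, 3), (3, 6, 6, 8)]), 5, [[(526, 0), (527, 0), (528, 0)],
     [(529, 0), (530, 0), (531, 0)],
     [(532, 0), (533, 0), (534, 0)]]⟩,
   ⟨(0x487250613, [(0, 3, 2, 6), (6, 7, 7, 8), (8, 4, 4, 5)]), 4, [[(535, 0), (536, 0), (537, 0)],
     [(538, 0), (539, 0), (540, 0)],
     [(541, 0), (542, 0), (543, 0)]]⟩,
   ⟨(0x386104275, [(0, 5, 5, 1), (1, 7, 7, 8), (8, 3, 3, 4)]), 5, [[(544, 0), (545, 0), (546, 0)],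
     [(547, 0), (548, 0), (549, 0)],
     [(550, 0), (551, 0), (552, 0)]]⟩]

/-- Terms. -/
def onePairTerms8 : List Term2 :=
  [⟨(0x267345018, [(0, 8, 8, 2), (3, 5, 6, 7)]), 4, [[(553, 0), (554, 0), (555, 0)],
     [(556, 0), (557, 0), (558, 0)],
     [(559, 0), (560, 0), (561, 0)]]⟩,
   ⟨(0x410526783, [(0, 3, 3, 6), (1, 8, 8, 4), (4, 2, 2, 7)]), 4, [[(562, 0), (563, 0), (564, 0)],
     [(563, 16), (564, 3), (562, 4)],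
     [(564, 4), (562, 16), (563, 3)]]⟩,
   ⟨(0x173284650, [(1, 5, 5, 2), (2, 6, 6, 3), (3, 4, 4, 8)]), 2, [[(565, 0), (566, 0), (567, 0)],
     [(568, 0), (569, 0), (570, 0)],
     [(571, 0), (572, 0), (573, 0)]]⟩,
   ⟨(0x254186037, [(0, 7, 7, 5), (5, 1, 1, 3), (3, 6, 6, 4), (4, 8, 8, 2)]), 4, [[(574, 0), (575, 0), (576, 0)],
     [(577, 0), (578, 0), (579, 0)],
     [(580, 0), (581, 0), (582, 0)]]⟩,
   ⟨(0x520836174, [(0, 4, 4, 3), (3, 6, 1, 7), (7, 2, 5, 8)]), 2, [[(583, 0), (584, 0), (585, 0)],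
     [(586, 0), (587, 0), (588, 0)],
     [(589, 0), (590, 0), (591, 0)]]⟩,
   ⟨(0x035712648, [(0, 8, 1, 4), (2, 6, 6, 5), (5, 7, 7, 3)]), 5, [[(592, 0), (593, 0), (594, 0)],
     [(595, 0), (596, 0), (597, 0)],
     [(598, 0), (599, 0), (600, 0)]]⟩,
   ⟨(0x748153062, [(0, 2, 1, 6), (6, 8, 8, 7), (7, 4, 4, 5)]), 3, [[(601, 0), (602, 0), (603, 0)],
     [(604, 0), (605, 0), (606, 0)],
     [(607, 0), (608, 0), (609, 0)]]⟩,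
   ⟨(0x725104386, [(0, 6, 6, 5), (5, 1, 1, 8), (8, 7, 7, 2), (2, 3, 3, 4)]), 4, [[(610, 0), (611, 0), (612, 0)],
     [(612, 16), (610, 3), (611, 4)],
     [(611, 3), (612, 4), (610, 16)]]⟩]

/-- Terms. -/
def onePairTerms9 : List Term2 :=
  [⟨(0x680213457, [(0, 7, 7, 8), (8, 6, 1, 5), (5, 2, 2, 4)]), 2, [[(613, 0), (614, 0), (615, 0)],
     [(614, 4), (615, 16), (613, 3)],
     [(615, 3), (613, 4), (614, 16)]]⟩,
   ⟨(0x856473210, [(4, 7, 7, 5)]), 2, [[(616, 0), (617, 0), (0, 16)],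
     [(616, 5), (617, 5), (0, 44)],
     [(616, 22), (617, 22), (0, 77)]]⟩,
   ⟨(0x625408371, [(0, 1, 1, 7), (7, 2, 2, 3), (3, 8, 8, 6), (6, 5, 5, 4)]), 4, [[(618, 0), (619, 0), (620, 0)],
     [(621, 0), (622, 0), (623, 0)],
     [(624, 0), (625, 0), (626, 0)]]⟩,
   ⟨(0x702461853, [(0, 3, 3, 1), (1, 5, 5, 4), (4, 6, 6, 2), (2, 8, 8, 7)]), 1, [[(627, 0), (628, 0), (629, 0)],
     [(630, 0), (631, 0), (632, 0)],
     [(633, 0), (634, 0), (635, 0)]]⟩,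
   ⟨(0x801257643, [(0, 3, 3, 7), (1, 4, 4, 5), (5, 2, 2, 6)]), 2, [[(636, 0), (637, 0), (638, 0)],
     [(637, 0), (638, 0), (636, 0)],
     [(638, 0), (636, 0), (637, 0)]]⟩,
   ⟨(0x305216478, [(0, 8, 8, 3), (3, 6, 6, 5), (5, 2, 2, 4), (4, 1, 1, 7)]), 3, [[(639, 0), (640, 0), (641, 0)],
     [(640, 16), (641, 4), (639, 3)],
     [(641, 3), (639, 16), (640, 4)]]⟩,
   ⟨(0x043615728, [(0, 8, 1, 2), (2, 7, 7, 4), (3, 5, 5, 6)]), 0, [[(642, 0), (643, 0), (644, 0)],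
     [(645, 0), (646, 0), (647, 0)],
     [(648, 0), (649, 0), (650, 0)]]⟩,
   ⟨(0x350281746, [(0, 6, 1, 4), (4, 8, 8, 3), (2, 7, 7, 5)]), 0, [[(651, 0), (652, 0), (653, 0)],
     [(654, 0), (655, 0), (656, 0)],
     [(657, 0), (658, 0), (659, 0)]]⟩]

/-- Terms. -/
def onePairTerms10 : List Term2 :=
  [⟨(0x875461032, [(0, 2, 1, 3), (4, 6, 6, 5)]), 1, [[(660, 0), (661, 0), (662, 0)],
     [(661, 16), (662, 3), (660, 4)],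
     [(662, 4), (660, 16), (661, 3)]]⟩,
   ⟨(0x813240657, [(0, 7, 7, 1), (1, 5, 5, 2), (2, 6, 6, 3)]), 3, [[(663, 0), (664, 0), (665, 0)],
     [(666, 0), (667, 0), (668, 0)],
     [(669, 0), (670, 0), (671, 0)]]⟩,
   ⟨(0x503126478, [(0, 8, 8, 5), (5, 1, 1, 7), (2, 4, 3, 6)]), 3, [[(672, 0), (673, 0), (674, 0)],
     [(674, 3), (672, 16), (673, 4)],
     [(673, 16), (674, 4), (672, 3)]]⟩,
   ⟨(0x074162835, [(0, 5, 5, 1), (1, 3, 3, 2), (2, 8, 4, 6)]), 4, [[(675, 0), (676, 0), (677, 0)],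
     [(678, 0), (679, 0), (680, 0)],
     [(681, 0), (682, 0), (683, 0)]]⟩,
   ⟨(0x780562431, [(0, 1, 1, 3), (3, 2, 2, 4), (4, 6, 7, 8)]), 4, [[(684, 0), (685, 0), (686, 0)],
     [(687, 0), (688, 0), (689, 0)],
     [(690, 0), (691, 0), (692, 0)]]⟩,
   ⟨(0x628537410, [(2, 4, 4, 3), (3, 7, 6, 8)]), 2, [[(693, 0), (694, 0), (695, 0)],
     [(696, 0), (697, 0), (698, 0)],
     [(699, 0), (700, 0), (701, 0)]]⟩,
   ⟨(0x201367584, [(0, 4, 4, 6), (6, 1, 1, 8), (8, 2, 2, 5), (5, 3, 3, 7)]), 1, [[(702, 0), (703, 0), (704, 0)],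
     [(705, 0), (706, 0), (707, 0)],
     [(708, 0), (709, 0), (710, 0)]]⟩,
   ⟨(0x614028375, [(0, 5, 1, 7), (2, 3, 3, 8), (8, 6, 6, 4)]), 4, [[(711, 0), (712, 0), (713, 0)],
     [(713, 16), (711, 3), (712, 4)],
     [(712, 3), (713, 4), (711, 16)]]⟩]

/-- Terms. -/
def onePairTerms11 : List Term2 :=
  [⟨(0x740563821, [(0, 1, 1, 2), (2, 8, 8, 7), (7, 4, 4, 6)]), 3, [[(714, 0), (715, 0), (716, 0)],
     [(717, 0), (718, 0), (719, 0)],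
     [(720, 0), (721, 0), (722, 0)]]⟩,
   ⟨(0x035278461, [(0, 1, 1, 6), (6, 5, 5, 2), (2, 4, 4, 7), (7, 3, 3, 8)]), 0, [[(723, 0), (724, 0), (725, 0)],
     [(726, 0), (727, 0), (728, 0)],
     [(729, 0), (730, 0), (731, 0)]]⟩,
   ⟨(0x634078512, [(0, 2, 2, 5), (3, 8, 8, 6), (6, 4, 4, 7)]), 3, [[(732, 0), (733, 0), (734, 0)],
     [(735, 0), (736, 0), (737, 0)],
     [(738, 0), (739, 0), (740, 0)]]⟩,
   ⟨(0x612308745, [(0, 5, 5, 3), (3, 8, 8, 6), (6, 2, 2, 7), (7, 1, 1, 4)]), 3, [[(741, 0), (742, 0), (743, 0)],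
     [(742, 4), (743, 3), (741, 16)],
     [(743, 16), (741, 4), (742, 3)]]⟩,
   ⟨(0x523486107, [(0, 7, 7, 2), (2, 1, 3, 6), (4, 8, 8, 5)]), 0, [[(744, 0), (745, 0), (746, 0)],
     [(747, 0), (748, 0), (749, 0)],
     [(750, 0), (751, 0), (752, 0)]]⟩,
   ⟨(0x607215834, [(0, 4, 4, 1), (1, 3, 3, 5), (5, 2, 2, 8), (8, 6, 6, 7)]), 3, [[(753, 0), (754, 0), (755, 0)],
     [(754, 16), (755, 4), (753, 3)],
     [(755, 3), (753, 16), (754, 4)]]⟩,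
   ⟨(0x831502764, [(0, 4, 1, 6), (2, 7, 7, 3)]), 1, [[(756, 0), (757, 0), (758, 0)],
     [(759, 0), (760, 0), (761, 0)],
     [(762, 0), (763, 0), (764, 0)]]⟩,
   ⟨(0x521407683, [(0, 3, 3, 7), (7, 2, 2, 6), (6, 1, 1, 8), (8, 5, 5, 4)]), 3, [[(765, 0), (766, 0), (767, 0)],
     [(767, 16), (765, 4), (766, 3)],
     [(766, 4), (767, 3), (765, 16)]]⟩]

/-- Terms. -/
def onePairTerms12 : List Term2 :=
  [⟨(0x174562083, [(0, 3, 3, 2), (1, 8, 4, 6)]), 6, [[(295, 95), (31, 53), (768, 0), (769, 0), (770, 0)],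
     [(298, 95), (34, 53), (771, 0), (772, 0), (773, 0)],
     [(292, 95), (28, 53), (774, 0), (775, 0), (776, 0)]]⟩,
   ⟨(0x604173285, [(0, 5, 5, 1), (1, 8, 8, 6), (6, 4, 4, 7)]), 6, [[(426, 42), (777, 0), (778, 0), (779, 0), (345, 76)],
     [(429, 42), (780, 0), (781, 0), (782, 0), (348, 76)],
     [(432, 42), (783, 0), (784, 0), (785, 0), (342, 76)]]⟩,
   ⟨(0x782351460, [(1, 6, 6, 2), (2, 4, 4, 5), (5, 3, 7, 8)]), 7, [[(394, 77), (86, 58), (786, 0), (764, 60), (787, 0)],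
     [(397, 77), (89, 58), (788, 0), (758, 60), (789, 0)],
     [(400, 77), (83, 58), (790, 0), (761, 60), (791, 0)]]⟩,
   ⟨(0x052784163, [(0, 3, 3, 4), (4, 8, 1, 6), (6, 2, 5, 7)]), 8, [[(792, 0), (275, 93), (766, 20), (793, 0), (261, 27)],
     [(794, 0), (278, 93), (765, 45), (795, 0), (264, 27)],
     [(796, 0), (281, 93), (767, 6), (797, 0), (258, 27)]]⟩,
   ⟨(0x034165872, [(0, 2, 2, 8), (1, 7, 7, 3), (3, 5, 4, 6)]), 9, [[(798, 0), (696, 38), (633, 50), (799, 0), (120, 68)],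
     [(800, 0), (699, 38), (627, 50), (801, 0), (114, 68)],
     [(802, 0), (693, 38), (630, 50), (803, 0), (117, 68)]]⟩,
   ⟨(0x265180734, [(0, 4, 4, 8), (8, 2, 2, 7), (7, 6, 6, 5), (5, 1, 1, 3)]), 6, [[(804, 0), (805, 0), (806, 0), (367, 93), (807, 0)],
     [(808, 0), (809, 0), (810, 0), (370, 93), (811, 0)],
     [(812, 0), (813, 0), (814, 0), (373, 93), (815, 0)]]⟩,
   ⟨(0x265104873, [(0, 3, 3, 4), (1, 7, 7, 6), (6, 5, 2, 8)]), 10, [[(816, 0), (817, 0), (818, 0), (361, 93), (819, 0)],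
     [(820, 0), (821, 0), (822, 0), (364, 93), (823, 0)],
     [(824, 0), (825, 0), (826, 0), (358, 93), (827, 0)]]⟩,
   ⟨(0x413608527, [(0, 7, 7, 1), (1, 2, 2, 5), (5, 6, 6, 3), (3, 8, 8, 4)]), 11, [[(602, 6), (575, 62), (828, 0), (829, 0), (830, 0)],
     [(605, 6), (578, 62), (831, 0), (832, 0), (833, 0)],
     [(608, 6), (581, 62), (834, 0), (835, 0), (836, 0)]]⟩]

/-- Terms. -/
def onePairTerms13 : List Term2 :=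
  [⟨(0x620581374, [(0, 4, 4, 8), (8, 6, 1, 7), (7, 2, 2, 3)]), 12, [[(837, 0), (52, 57), (248, 85), (838, 0), (839, 0)],
     [(840, 0), (46, 57), (251, 85), (841, 0), (842, 0)],
     [(843, 0), (49, 57), (254, 85), (844, 0), (845, 0)]]⟩,
   ⟨(0x461372580, [(1, 8, 8, 4), (4, 7, 7, 6), (2, 5, 5, 3)]), 13, [[(262, 4), (846, 0), (847, 0), (258, 88), (184, 48)],
     [(256, 4), (848, 0), (849, 0), (261, 88), (187, 48)],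
     [(259, 4), (850, 0), (851, 0), (264, 88), (190, 48)]]⟩,
   ⟨(0x536810247, [(0, 7, 7, 3), (1, 4, 5, 8)]), 14, [[(673, 5), (230, 69), (797, 72), (852, 0), (584, 53)],
     [(672, 44), (233, 69), (793, 72), (853, 0), (587, 53)],
     [(674, 19), (236, 69), (795, 72), (854, 0), (590, 53)]]⟩,
   ⟨(0x564230781, [(0, 1, 1, 8), (8, 5, 5, 2), (2, 7, 7, 6), (6, 4, 4, 3)]), 15, [[(380, 22), (855, 0), (745, 87), (434, 37), (752, 21)],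
     [(383, 22), (856, 0), (748, 87), (437, 37), (746, 21)],
     [(377, 22), (857, 0), (751, 87), (440, 37), (749, 21)]]⟩,
   ⟨(0x215408637, [(0, 7, 7, 1), (1, 3, 3, 8), (8, 2, 2, 6), (6, 5, 5, 4)]), 9, [[(520, 11), (16, 6), (54, 61), (375, 1), (309, 44)],
     [(523, 11), (10, 6), (48, 61), (369, 1), (303, 44)],
     [(517, 11), (13, 6), (51, 61), (372, 1), (306, 44)]]⟩,
   ⟨(0x201685743, [(0, 3, 3, 5), (5, 6, 6, 1), (1, 4, 4, 8), (8, 2, 2, 7)]), 8, [[(126, 78), (643, 92), (858, 0), (209, 41), (859, 0)],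
     [(129, 78), (646, 92), (860, 0), (203, 41), (861, 0)],
     [(123, 78), (649, 92), (862, 0), (206, 41), (863, 0)]]⟩,
   ⟨(0x148265703, [(0, 3, 3, 5), (5, 2, 2, 7), (7, 4, 4, 6), (6, 8, 8, 1)]), 16, [[(169, 43), (708, 44), (861, 65), (509, 84), (864, 0)],
     [(172, 43), (702, 44), (863, 65), (512, 84), (865, 0)],
     [(166, 43), (705, 44), (859, 65), (515, 84), (866, 0)]]⟩,
   ⟨(0x680517234, [(0, 4, 4, 1), (1, 3, 3, 7), (7, 8, 8, 6)]), 17, [[(867, 0), (355, 95), (440, 92), (868, 0), (869, 0)],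
     [(870, 0), (349, 95), (434, 92), (871, 0), (872, 0)],
     [(873, 0), (352, 95), (437, 92), (874, 0), (875, 0)]]⟩]

/-- Terms. -/
def onePairTerms14 : List Term2 :=
  [⟨(0x473102685, [(0, 5, 5, 1), (1, 8, 8, 4), (2, 6, 6, 3)]), 12, [[(740, 72), (420, 50), (819, 58), (876, 0), (417, 46)],
     [(734, 72), (414, 50), (823, 58), (877, 0), (420, 46)],
     [(737, 72), (417, 50), (827, 58), (878, 0), (414, 46)]]⟩,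
   ⟨(0x724106538, [(0, 8, 8, 7), (7, 2, 2, 5), (5, 1, 1, 3), (3, 6, 6, 4)]), 18, [[(879, 0), (181, 83), (532, 47), (125, 62), (880, 0)],
     [(881, 0), (175, 83), (526, 47), (128, 62), (882, 0)],
     [(883, 0), (178, 83), (529, 47), (122, 62), (884, 0)]]⟩,
   ⟨(0x582740613, [(0, 3, 2, 6), (5, 7, 7, 8)]), 19, [[(849, 77), (523, 14), (885, 0), (517, 3), (433, 21)],
     [(851, 77), (517, 14), (886, 0), (520, 3), (436, 21)],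
     [(847, 77), (520, 14), (887, 0), (523, 3), (439, 21)]]⟩,
   ⟨(0x240618537, [(0, 7, 7, 4), (4, 1, 1, 3), (3, 8, 8, 2), (2, 5, 5, 6)]), 19, [[(576, 64), (888, 0), (703, 17), (889, 0), (890, 0)],
     [(579, 64), (891, 0), (706, 17), (892, 0), (893, 0)],
     [(582, 64), (894, 0), (709, 17), (895, 0), (896, 0)]]⟩,
   ⟨(0x185027436, [(0, 6, 6, 5), (1, 3, 3, 7), (7, 8, 2, 4)]), 20, [[(897, 0), (898, 0), (899, 0), (900, 0), (602, 38)],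
     [(901, 0), (902, 0), (900, 0), (903, 0), (605, 38)],
     [(904, 0), (905, 0), (903, 0), (899, 0), (608, 38)]]⟩,
   ⟨(0x148273605, [(0, 5, 5, 2), (2, 6, 6, 8), (8, 1, 4, 7)]), 21, [[(192, 21), (348, 26), (906, 0), (408, 75), (907, 0)],
     [(186, 21), (342, 26), (908, 0), (411, 75), (909, 0)],
     [(189, 21), (345, 26), (910, 0), (405, 75), (911, 0)]]⟩,
   ⟨(0x283147056, [(0, 6, 6, 3), (3, 7, 7, 8), (8, 2, 1, 5)]), 22, [[(912, 0), (913, 0), (914, 0), (642, 69), (31, 33)],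
     [(915, 0), (916, 0), (917, 0), (645, 69), (34, 33)],
     [(918, 0), (919, 0), (920, 0), (648, 69), (28, 33)]]⟩,
   ⟨(0x068314572, [(0, 2, 2, 5), (5, 3, 3, 4), (4, 1, 1, 7), (7, 6, 6, 8)]), 18, [[(921, 0), (714, 8), (922, 0), (316, 22), (458, 89)],
     [(923, 0), (717, 8), (924, 0), (310, 22), (452, 89)],
     [(925, 0), (720, 8), (926, 0), (313, 22), (455, 89)]]⟩]

/-- Terms. -/
def onePairTerms15 : List Term2 :=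
  [⟨(0x018734526, [(0, 6, 6, 8), (1, 2, 2, 5), (5, 7, 3, 4)]), 23, [[(927, 0), (562, 21), (928, 0), (929, 0), (930, 0)],
     [(931, 0), (563, 76), (932, 0), (933, 0), (934, 0)],
     [(935, 0), (564, 50), (936, 0), (937, 0), (938, 0)]]⟩,
   ⟨(0x481372650, [(1, 5, 5, 3), (3, 2, 2, 6), (4, 7, 7, 8)]), 24, [[(600, 20), (939, 0), (731, 11), (940, 0), (64, 66)],
     [(594, 20), (941, 0), (725, 11), (942, 0), (67, 66)],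
     [(597, 20), (943, 0), (728, 11), (944, 0), (70, 66)]]⟩,
   ⟨(0x654307128, [(0, 8, 8, 6), (6, 4, 1, 2), (3, 7, 7, 5)]), 19, [[(61, 15), (878, 16), (472, 92), (57, 15), (98, 63)],
     [(55, 15), (876, 16), (475, 92), (60, 15), (101, 63)],
     [(58, 15), (877, 16), (469, 92), (63, 15), (95, 63)]]⟩,
   ⟨(0x845061273, [(0, 3, 3, 1), (1, 7, 7, 4), (4, 6, 6, 5)]), 12, [[(575, 9), (600, 83), (919, 21), (945, 0), (946, 0)],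
     [(578, 9), (594, 83), (913, 21), (947, 0), (948, 0)],
     [(581, 9), (597, 83), (916, 21), (949, 0), (950, 0)]]⟩,
   ⟨(0x265187430, [(1, 3, 3, 7), (7, 6, 6, 5), (2, 4, 4, 8)]), 19, [[(951, 0), (173, 17), (682, 63), (553, 47), (484, 40)],
     [(952, 0), (167, 17), (676, 63), (556, 47), (478, 40)],
     [(953, 0), (170, 17), (679, 63), (559, 47), (481, 40)]]⟩,
   ⟨(0x861470523, [(0, 3, 1, 2), (2, 5, 5, 4), (4, 7, 7, 6)]), 25, [[(954, 0), (198, 33), (103, 86), (955, 0), (893, 5)],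
     [(956, 0), (201, 33), (106, 86), (957, 0), (896, 5)],
     [(958, 0), (195, 33), (109, 86), (959, 0), (890, 5)]]⟩,
   ⟨(0x531706284, [(0, 4, 1, 8), (8, 5, 5, 7), (7, 3, 3, 6)]), 18, [[(960, 0), (138, 23), (961, 0), (962, 0), (431, 79)],
     [(963, 0), (132, 23), (964, 0), (965, 0), (425, 79)],
     [(966, 0), (135, 23), (967, 0), (968, 0), (428, 79)]]⟩,
   ⟨(0x674381025, [(0, 5, 5, 3), (3, 1, 1, 2), (4, 8, 8, 6)]), 26, [[(969, 0), (414, 82), (62, 83), (753, 25), (213, 27)],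
     [(970, 0), (417, 82), (56, 83), (754, 26), (216, 27)],
     [(971, 0), (420, 82), (59, 83), (755, 7), (219, 27)]]⟩]

/-- Terms. -/
def onePairTerms16 : List Term2 :=
  [⟨(0x284570163, [(0, 3, 1, 6), (6, 4, 4, 7), (7, 8, 8, 2)]), 27, [[(30, 49), (946, 6), (13, 11), (81, 13), (972, 0)],
     [(33, 49), (948, 6), (16, 11), (75, 13), (973, 0)],
     [(36, 49), (950, 6), (10, 11), (78, 13), (974, 0)]]⟩,
   ⟨(0x851420736, [(0, 6, 6, 1), (1, 3, 2, 7), (7, 5, 5, 4)]), 28, [[(684, 41), (634, 14), (608, 90), (975, 0), (976, 0)],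
     [(687, 41), (628, 14), (602, 90), (977, 0), (978, 0)],
     [(690, 41), (631, 14), (605, 90), (979, 0), (980, 0)]]⟩,
   ⟨(0x638021745, [(0, 5, 1, 4), (4, 2, 2, 7), (7, 3, 6, 8)]), 29, [[(981, 0), (559, 7), (321, 95), (982, 0), (983, 0)],
     [(984, 0), (553, 7), (324, 95), (985, 0), (986, 0)],
     [(987, 0), (556, 7), (327, 95), (988, 0), (989, 0)]]⟩,
   ⟨(0x746820153, [(0, 3, 1, 5), (5, 8, 8, 7), (7, 4, 4, 2)]), 30, [[(141, 69), (990, 0), (227, 39), (991, 0), (992, 0)],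
     [(144, 69), (993, 0), (221, 39), (994, 0), (995, 0)],
     [(147, 69), (996, 0), (224, 39), (997, 0), (998, 0)]]⟩,
   ⟨(0x132407658, [(0, 8, 8, 1), (1, 5, 5, 4), (2, 6, 3, 7)]), 12, [[(215, 75), (211, 36), (99, 38), (999, 0), (737, 56)],
     [(218, 75), (214, 36), (102, 38), (1000, 0), (740, 56)],
     [(212, 75), (217, 36), (96, 38), (1001, 0), (734, 56)]]⟩,
   ⟨(0x132607854, [(0, 4, 1, 5), (5, 6, 6, 2), (2, 8, 3, 7)]), 22, [[(446, 58), (444, 93), (394, 44), (1002, 0), (1003, 0)],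
     [(449, 58), (447, 93), (397, 44), (1004, 0), (1005, 0)],
     [(443, 58), (450, 93), (400, 44), (1006, 0), (1007, 0)]]⟩,
   ⟨(0x086127543, [(0, 3, 3, 7), (7, 8, 1, 4), (4, 2, 2, 5)]), 31, [[(881, 42), (1008, 0), (84, 36), (1009, 0), (1010, 0)],
     [(883, 42), (1010, 0), (87, 36), (1011, 0), (1012, 0)],
     [(879, 42), (1012, 0), (90, 36), (1013, 0), (1008, 0)]]⟩,
   ⟨(0x625183704, [(0, 4, 4, 8), (8, 6, 6, 5), (5, 1, 2, 7)]), 32, [[(655, 49), (250, 26), (247, 86), (356, 86), (183, 60)],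
     [(658, 49), (253, 26), (250, 86), (350, 86), (177, 60)],
     [(652, 49), (247, 26), (253, 86), (353, 86), (180, 60)]]⟩]

/-- Terms. -/
def onePairTerms17 : List Term2 :=
  [⟨(0x420137685, [(0, 5, 5, 1), (1, 8, 8, 4), (4, 3, 3, 7), (7, 2, 2, 6)]), 29, [[(722, 72), (901, 50), (812, 80), (409, 30), (1014, 0)],
     [(716, 72), (904, 50), (804, 80), (403, 30), (1015, 0)],
     [(719, 72), (897, 50), (808, 80), (406, 30), (1016, 0)]]⟩,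
   ⟨(0x184570623, [(0, 3, 1, 2), (2, 6, 6, 4), (4, 7, 7, 8)]), 28, [[(1017, 0), (615, 94), (286, 40), (1018, 0), (821, 45)],
     [(1019, 0), (613, 81), (289, 40), (1020, 0), (825, 45)],
     [(1021, 0), (614, 55), (283, 40), (1022, 0), (817, 45)]]⟩,
   ⟨(0x326841507, [(0, 7, 7, 2), (2, 5, 5, 8), (8, 3, 3, 1)]), 8, [[(114, 21), (466, 40), (1023, 0), (205, 64), (1024, 0)],
     [(117, 21), (460, 40), (1025, 0), (208, 64), (1026, 0)],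
     [(120, 21), (463, 40), (1027, 0), (202, 64), (1028, 0)]]⟩,
   ⟨(0x704365218, [(0, 8, 8, 7), (3, 5, 4, 6)]), 8, [[(208, 76), (125, 91), (1029, 0), (644, 0), (1030, 0)],
     [(202, 76), (128, 91), (1031, 0), (647, 0), (1032, 0)],
     [(205, 76), (122, 91), (1033, 0), (650, 0), (1034, 0)]]⟩,
   ⟨(0x178256403, [(0, 3, 3, 6), (6, 8, 8, 1), (2, 4, 4, 5)]), 32, [[(735, 45), (413, 70), (415, 34), (1035, 0), (1036, 0)],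
     [(738, 45), (416, 70), (418, 34), (1037, 0), (1038, 0)],
     [(732, 45), (419, 70), (412, 34), (1039, 0), (1040, 0)]]⟩,
   ⟨(0x578462031, [(0, 1, 1, 3), (3, 2, 4, 6), (6, 8, 8, 5)]), 32, [[(774, 33), (1041, 0), (865, 53), (528, 1), (1042, 0)],
     [(768, 33), (1043, 0), (866, 53), (531, 1), (1044, 0)],
     [(771, 33), (1045, 0), (864, 53), (534, 1), (1046, 0)]]⟩,
   ⟨(0x612548370, [(1, 7, 2, 3), (3, 8, 8, 6)]), 13, [[(54, 33), (487, 32), (354, 12), (51, 72), (1047, 0)],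
     [(48, 33), (490, 32), (357, 12), (54, 72), (1048, 0)],
     [(51, 33), (493, 32), (351, 12), (48, 72), (1049, 0)]]⟩,
   ⟨(0x107625834, [(0, 4, 4, 2), (2, 8, 8, 1), (1, 3, 3, 5), (5, 6, 6, 7)]), 24, [[(1050, 0), (1051, 0), (276, 57), (588, 33), (517, 28)],
     [(1052, 0), (1053, 0), (279, 57), (591, 33), (520, 28)],
     [(1054, 0), (1055, 0), (282, 57), (585, 33), (523, 28)]]⟩]

/-- Terms. -/
def onePairTerms18 : List Term2 :=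
  [⟨(0x538047216, [(0, 6, 6, 8), (8, 5, 3, 7)]), 24, [[(632, 39), (1056, 0), (1057, 0), (1058, 0), (1059, 0)],
     [(635, 39), (1060, 0), (1061, 0), (1059, 6), (1062, 0)],
     [(629, 39), (1063, 0), (1064, 0), (1062, 6), (1058, 6)]]⟩,
   ⟨(0x073452861, [(0, 1, 1, 6), (6, 3, 3, 2), (2, 8, 4, 5)]), 29, [[(30, 65), (871, 95), (273, 85), (1042, 65), (568, 6)],
     [(33, 65), (874, 95), (267, 85), (1044, 65), (571, 6)],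
     [(36, 65), (868, 95), (270, 85), (1046, 65), (565, 6)]]⟩,
   ⟨(0x756304128, [(0, 8, 8, 7), (7, 5, 5, 3), (3, 4, 1, 2)]), 33, [[(170, 67), (1031, 89), (710, 57), (1065, 0), (510, 29)],
     [(173, 67), (1033, 89), (704, 57), (1066, 0), (513, 29)],
     [(167, 67), (1029, 89), (707, 57), (1067, 0), (516, 29)]]⟩,
   ⟨(0x173240865, [(0, 5, 5, 2), (2, 8, 8, 1), (1, 6, 6, 3)]), 26, [[(1068, 0), (1069, 0), (647, 38), (1070, 0), (35, 30)],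
     [(1071, 0), (1072, 0), (650, 38), (1073, 0), (29, 30)],
     [(1074, 0), (1075, 0), (644, 38), (1076, 0), (32, 30)]]⟩,
   ⟨(0x034267518, [(0, 8, 2, 5), (3, 7, 4, 6)]), 19, [[(1077, 0), (515, 48), (1078, 0), (1079, 0), (210, 76)],
     [(1080, 0), (509, 48), (1081, 0), (1082, 0), (204, 76)],
     [(1083, 0), (512, 48), (1084, 0), (1085, 0), (207, 76)]]⟩,
   ⟨(0x023581674, [(0, 4, 4, 8), (1, 7, 7, 2), (2, 6, 6, 3)]), 9, [[(843, 4), (496, 42), (810, 87), (1086, 0), (1087, 0)],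
     [(837, 4), (497, 42), (814, 87), (1088, 0), (1089, 0)],
     [(840, 4), (498, 42), (806, 87), (1090, 0), (1091, 0)]]⟩,
   ⟨(0x016725834, [(0, 4, 4, 2), (2, 8, 1, 3), (3, 5, 5, 7)]), 16, [[(1092, 0), (1093, 0), (1094, 0), (891, 44), (1095, 0)],
     [(1096, 0), (1097, 0), (1098, 0), (894, 44), (1099, 0)],
     [(1100, 0), (1101, 0), (1102, 0), (888, 44), (1103, 0)]]⟩,
   ⟨(0x218503746, [(0, 6, 6, 8), (8, 2, 2, 7), (7, 1, 1, 4)]), 27, [[(293, 48), (1072, 63), (1104, 0), (324, 32), (206, 78)],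
     [(296, 48), (1075, 63), (1105, 0), (327, 32), (209, 78)],
     [(299, 48), (1069, 63), (1106, 0), (321, 32), (203, 78)]]⟩]

/-- Terms. -/
def onePairTerms19 : List Term2 :=
  [⟨(0x625487013, [(0, 3, 3, 7), (7, 2, 4, 8), (8, 6, 6, 5)]), 9, [[(751, 36), (500, 76), (772, 35), (252, 66), (146, 53)],
     [(745, 36), (503, 76), (775, 35), (255, 66), (140, 53)],
     [(748, 36), (506, 76), (769, 35), (249, 66), (143, 53)]]⟩,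
   ⟨(0x204865713, [(0, 3, 3, 5), (5, 8, 8, 2), (2, 7, 4, 6)]), 22, [[(1107, 0), (807, 73), (1108, 0), (612, 77), (980, 44)],
     [(1109, 0), (811, 73), (1110, 0), (611, 47), (976, 44)],
     [(1111, 0), (815, 73), (1112, 0), (610, 22), (978, 44)]]⟩,
   ⟨(0x827041563, [(0, 3, 3, 1), (1, 6, 6, 7), (7, 2, 2, 5)]), 34, [[(978, 28), (934, 22), (1113, 0), (290, 66), (1114, 0)],
     [(980, 28), (938, 22), (1115, 0), (284, 66), (1116, 0)],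
     [(976, 28), (930, 22), (1117, 0), (287, 66), (1118, 0)]]⟩,
   ⟨(0x513824076, [(0, 6, 6, 3), (3, 4, 4, 2), (1, 7, 5, 8)]), 30, [[(465, 31), (1119, 0), (317, 87), (1031, 48), (580, 46)],
     [(468, 31), (1120, 0), (311, 87), (1033, 48), (574, 46)],
     [(462, 31), (1121, 0), (314, 87), (1029, 48), (577, 46)]]⟩,
   ⟨(0x356870241, [(0, 1, 1, 4), (4, 7, 7, 5), (5, 8, 8, 3)]), 21, [[(1028, 24), (937, 88), (1122, 0), (1108, 71), (20, 88)],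
     [(1024, 24), (929, 88), (1123, 0), (1110, 71), (23, 88)],
     [(1026, 24), (933, 88), (1124, 0), (1112, 71), (26, 88)]]⟩,
   ⟨(0x048635721, [(0, 1, 1, 2), (2, 7, 7, 4), (4, 3, 3, 5), (5, 6, 6, 8)]), 29, [[(1125, 0), (1126, 0), (855, 42), (38, 15), (246, 3)],
     [(1127, 0), (1125, 16), (856, 42), (41, 15), (240, 3)],
     [(1126, 16), (1127, 16), (857, 42), (44, 15), (243, 3)]]⟩,
   ⟨(0x348201756, [(0, 6, 6, 8), (8, 3, 3, 1), (1, 5, 5, 2), (2, 7, 7, 4)]), 16, [[(1128, 0), (1129, 0), (551, 23), (651, 7), (1130, 0)],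
     [(1130, 0), (1131, 0), (545, 23), (654, 7), (1132, 0)],
     [(1132, 0), (1133, 0), (548, 23), (657, 7), (1128, 0)]]⟩,
   ⟨(0x521386074, [(0, 4, 4, 8), (8, 5, 5, 3), (3, 6, 6, 1), (1, 7, 7, 2)]), 20, [[(618, 70), (59, 52), (19, 12), (285, 22), (421, 95)],
     [(621, 70), (62, 52), (22, 12), (288, 22), (423, 82)],
     [(624, 70), (56, 52), (25, 12), (291, 22), (422, 56)]]⟩]

/-- Terms. -/
def onePairTerms20 : List Term2 :=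
  [⟨(0x170382564, [(0, 4, 4, 8), (8, 1, 1, 6), (2, 5, 5, 3)]), 11, [[(994, 56), (56, 48), (1134, 0), (1012, 15), (1030, 80)],
     [(997, 56), (59, 48), (1135, 0), (1008, 15), (1032, 80)],
     [(991, 56), (62, 48), (1136, 0), (1010, 15), (1034, 80)]]⟩,
   ⟨(0x613702548, [(0, 8, 8, 6), (6, 3, 3, 2), (2, 5, 5, 7), (7, 1, 1, 4)]), 6, [[(520, 90), (263, 79), (747, 64), (1091, 47), (235, 12)],
     [(523, 90), (257, 79), (750, 64), (1087, 47), (229, 12)],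
     [(517, 90), (260, 79), (744, 64), (1089, 47), (232, 12)]]⟩,
   ⟨(0x142708563, [(0, 3, 3, 8), (8, 1, 1, 6), (6, 2, 2, 5), (5, 7, 7, 4)]), 30, [[(1137, 0), (1138, 0), (800, 47), (1139, 0), (541, 6)],
     [(1140, 0), (1137, 35), (802, 47), (1141, 0), (535, 6)],
     [(1138, 35), (1140, 35), (798, 47), (1142, 0), (538, 6)]]⟩,
   ⟨(0x671842350, [(1, 5, 5, 8), (8, 6, 2, 3)]), 18, [[(326, 7), (376, 12), (1005, 80), (1143, 0), (1144, 0)],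
     [(320, 7), (379, 12), (1007, 80), (1145, 0), (1146, 0)],
     [(323, 7), (382, 12), (1003, 80), (1147, 0), (1148, 0)]]⟩,
   ⟨(0x743528160, [(1, 6, 6, 3), (3, 8, 8, 7), (7, 4, 4, 2)]), 17, [[(265, 13), (1149, 0), (238, 40), (919, 77), (1150, 0)],
     [(268, 13), (1151, 0), (241, 40), (913, 77), (1152, 0)],
     [(271, 13), (1153, 0), (244, 40), (916, 77), (1154, 0)]]⟩,
   ⟨(0x470685213, [(0, 3, 3, 5), (5, 6, 4, 8)]), 10, [[(721, 59), (606, 26), (1155, 0), (1056, 38), (1111, 91)],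
     [(715, 59), (609, 26), (1156, 0), (1060, 38), (1107, 91)],
     [(718, 59), (603, 26), (1157, 0), (1063, 38), (1109, 91)]]⟩,
   ⟨(0x653127048, [(0, 8, 8, 6), (6, 3, 3, 7), (7, 5, 5, 1), (1, 4, 4, 2)]), 22, [[(1077, 74), (126, 89), (197, 57), (168, 39), (531, 75)],
     [(1080, 74), (129, 89), (200, 57), (171, 39), (534, 75)],
     [(1083, 74), (123, 89), (194, 57), (174, 39), (528, 75)]]⟩,
   ⟨(0x728546031, [(0, 1, 1, 3), (3, 6, 6, 8), (8, 7, 7, 2)]), 6, [[(1158, 0), (327, 33), (125, 7), (480, 70), (869, 78)],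
     [(1159, 0), (321, 33), (128, 7), (483, 70), (872, 78)],
     [(1160, 0), (324, 33), (122, 7), (486, 70), (875, 78)]]⟩]

/-- Terms. -/
def onePairTerms21 : List Term2 :=
  [⟨(0x871320546, [(0, 6, 6, 1), (1, 4, 4, 2), (2, 5, 5, 3)]), 33, [[(1050, 50), (1054, 84), (434, 10), (245, 59), (1161, 0)],
     [(1052, 50), (1050, 84), (437, 10), (239, 59), (1162, 0)],
     [(1054, 50), (1052, 84), (440, 10), (242, 59), (1163, 0)]]⟩,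
   ⟨(0x745832610, [(2, 6, 6, 5), (5, 8, 8, 7), (7, 4, 4, 3)]), 31, [[(880, 75), (1164, 0), (142, 0), (146, 3), (867, 93)],
     [(882, 75), (1165, 0), (145, 0), (140, 3), (870, 93)],
     [(884, 75), (1166, 0), (139, 0), (143, 3), (873, 93)]]⟩,
   ⟨(0x516378240, [(1, 4, 4, 7), (3, 8, 8, 5)]), 14, [[(1167, 0), (522, 86), (277, 32), (1055, 37), (590, 77)],
     [(1168, 0), (525, 86), (280, 32), (1051, 37), (584, 77)],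
     [(1169, 0), (519, 86), (274, 32), (1053, 37), (587, 77)]]⟩,
   ⟨(0x637104825, [(0, 5, 5, 1), (1, 2, 2, 8), (8, 6, 6, 7), (7, 3, 3, 4)]), 6, [[(92, 19), (1170, 0), (1171, 0), (1172, 0), (1173, 0)],
     [(92, 51), (1172, 18), (1170, 3), (1171, 6), (1173, 33)],
     [(92, 4), (1171, 3), (1172, 6), (1170, 20), (1173, 14)]]⟩,
   ⟨(0x872360154, [(0, 4, 4, 6), (6, 2, 2, 1), (1, 5, 5, 3)]), 21, [[(1174, 0), (1169, 41), (160, 40), (1018, 85), (28, 95)],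
     [(1175, 0), (1167, 41), (163, 40), (1020, 85), (31, 95)],
     [(1176, 0), (1168, 41), (157, 40), (1022, 85), (34, 95)]]⟩,
   ⟨(0x452301678, [(0, 8, 8, 4), (1, 7, 7, 5), (5, 3, 2, 6)]), 12, [[(624, 93), (621, 27), (1177, 0), (826, 15), (1178, 0)],
     [(618, 93), (624, 27), (1179, 0), (818, 15), (1180, 0)],
     [(621, 93), (618, 27), (1181, 0), (822, 15), (1182, 0)]]⟩,
   ⟨(0x613805247, [(0, 7, 7, 1), (1, 4, 3, 5), (5, 8, 8, 6)]), 31, [[(431, 86), (7, 85), (925, 67), (534, 59), (956, 92)],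
     [(425, 86), (1, 85), (921, 67), (528, 59), (958, 92)],
     [(428, 86), (4, 85), (923, 67), (531, 59), (954, 92)]]⟩,
   ⟨(0x248367105, [(0, 5, 5, 3), (3, 7, 7, 4), (4, 6, 6, 8), (8, 2, 2, 1)]), 6, [[(864, 19), (1183, 0), (1184, 0), (680, 39), (269, 91)],
     [(865, 19), (1185, 0), (1186, 0), (683, 39), (272, 91)],
     [(866, 19), (1187, 0), (1188, 0), (677, 39), (266, 91)]]⟩]

/-- Terms. -/
def onePairTerms22 : List Term2 :=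
  [⟨(0x604531827, [(0, 7, 1, 2), (2, 8, 8, 6), (6, 4, 4, 3)]), 29, [[(1070, 36), (11, 87), (107, 9), (1189, 0), (595, 1)],
     [(1073, 36), (14, 87), (110, 9), (1190, 0), (598, 1)],
     [(1076, 36), (17, 87), (104, 9), (1191, 0), (592, 1)]]⟩,
   ⟨(0x084163257, [(0, 7, 7, 8), (1, 5, 4, 6)]), 15, [[(1192, 0), (1193, 0), (912, 1), (115, 54), (75, 76)],
     [(1194, 0), (1195, 0), (915, 1), (118, 54), (78, 76)],
     [(1196, 0), (1197, 0), (918, 1), (112, 54), (81, 76)]]⟩,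
   ⟨(0x530684217, [(0, 7, 7, 3), (3, 4, 4, 8), (8, 5, 5, 6)]), 25, [[(1198, 0), (1199, 0), (1200, 0), (1201, 0), (1202, 0)],
     [(1203, 0), (1204, 0), (1198, 33), (1205, 0), (1206, 0)],
     [(1200, 14), (1207, 0), (1203, 33), (1208, 0), (1209, 0)]]⟩,
   ⟨(0x137065284, [(0, 4, 4, 6), (6, 7, 7, 3), (3, 5, 1, 8)]), 8, [[(641, 30), (839, 65), (1210, 0), (1211, 0), (1113, 49)],
     [(639, 61), (842, 65), (1212, 0), (1213, 0), (1115, 49)],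
     [(640, 11), (845, 65), (1214, 0), (1215, 0), (1117, 49)]]⟩,
   ⟨(0x261584307, [(0, 7, 7, 6), (6, 1, 2, 3), (3, 4, 4, 8)]), 7, [[(1216, 0), (363, 58), (1217, 0), (1218, 0), (738, 41)],
     [(1219, 0), (366, 58), (1220, 0), (1221, 0), (732, 41)],
     [(1222, 0), (360, 58), (1223, 0), (1224, 0), (735, 41)]]⟩,
   ⟨(0x738521064, [(0, 4, 4, 2), (1, 6, 6, 8), (8, 7, 7, 3)]), 18, [[(228, 12), (211, 35), (853, 68), (294, 5), (443, 46)],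
     [(222, 12), (214, 35), (854, 68), (297, 5), (446, 46)],
     [(225, 12), (217, 35), (852, 68), (300, 5), (449, 46)]]⟩,
   ⟨(0x568037142, [(0, 2, 2, 1), (1, 4, 4, 3), (3, 7, 7, 6), (6, 8, 8, 5)]), 14, [[(384, 75), (438, 62), (850, 87), (747, 63), (744, 58)],
     [(378, 75), (441, 62), (846, 87), (750, 63), (747, 58)],
     [(381, 75), (435, 62), (848, 87), (744, 63), (750, 58)]]⟩,
   ⟨(0x453861702, [(0, 2, 2, 7), (7, 5, 5, 8), (8, 4, 4, 6), (6, 3, 3, 1)]), 21, [[(1033, 19), (1067, 38), (87, 37), (1035, 29), (552, 16)],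
     [(1029, 19), (1065, 38), (90, 37), (1037, 29), (546, 16)],
     [(1031, 19), (1066, 38), (84, 37), (1039, 29), (549, 16)]]⟩]

/-- Terms. -/
def onePairTerms23 : List Term2 :=
  [⟨(0x754813026, [(0, 6, 6, 4), (4, 1, 1, 2), (5, 8, 8, 7)]), 32, [[(176, 35), (1212, 72), (153, 90), (1225, 0), (547, 48)],
     [(179, 35), (1214, 72), (156, 90), (1226, 0), (550, 48)],
     [(182, 35), (1210, 72), (150, 90), (1227, 0), (544, 48)]]⟩,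
   ⟨(0x057281634, [(0, 4, 4, 8), (1, 3, 2, 6), (6, 7, 7, 5)]), 25, [[(129, 5), (106, 13), (965, 64), (316, 70), (8, 52)],
     [(123, 5), (109, 13), (968, 64), (310, 70), (2, 52)],
     [(126, 5), (103, 13), (962, 64), (313, 70), (5, 52)]]⟩,
   ⟨(0x421078365, [(0, 5, 1, 6), (2, 3, 3, 8), (8, 4, 4, 7)]), 21, [[(1228, 0), (362, 75), (947, 54), (902, 55), (1229, 0)],
     [(1230, 0), (365, 75), (949, 54), (905, 55), (1231, 0)],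
     [(1232, 0), (359, 75), (945, 54), (898, 55), (1233, 0)]]⟩,
   ⟨(0x315472860, [(1, 6, 6, 5), (5, 4, 4, 7), (2, 8, 8, 3)]), 6, [[(660, 39), (390, 48), (665, 82), (445, 11), (1234, 0)],
     [(661, 37), (393, 48), (668, 82), (448, 11), (1235, 0)],
     [(662, 14), (387, 48), (671, 82), (442, 11), (1236, 0)]]⟩,
   ⟨(0x328451067, [(0, 7, 7, 2), (1, 6, 6, 8), (8, 3, 4, 5)]), 22, [[(73, 56), (1237, 0), (295, 47), (781, 30), (1238, 0)],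
     [(76, 56), (1239, 0), (298, 47), (784, 30), (1240, 0)],
     [(79, 56), (1241, 0), (292, 47), (778, 30), (1242, 0)]]⟩,
   ⟨(0x387045261, [(0, 1, 1, 6), (6, 7, 7, 8), (8, 3, 3, 5)]), 11, [[(1098, 81), (695, 19), (116, 3), (1199, 34), (632, 81)],
     [(1102, 81), (698, 19), (119, 3), (1204, 34), (635, 81)],
     [(1094, 81), (701, 19), (113, 3), (1207, 34), (629, 81)]]⟩,
   ⟨(0x061538724, [(0, 4, 4, 3), (3, 8, 1, 2), (2, 7, 7, 6)]), 30, [[(969, 58), (1001, 78), (1040, 24), (971, 56), (469, 14)],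
     [(970, 58), (999, 78), (1036, 24), (969, 56), (472, 14)],
     [(971, 58), (1000, 78), (1038, 24), (970, 56), (475, 14)]]⟩,
   ⟨(0x634821057, [(0, 7, 7, 3), (3, 1, 1, 5), (5, 8, 8, 6), (6, 4, 4, 2)]), 14, [[(743, 11), (1221, 65), (23, 54), (211, 86), (1017, 19)],
     [(741, 61), (1224, 65), (26, 54), (214, 86), (1019, 19)],
     [(742, 32), (1218, 65), (20, 54), (217, 86), (1021, 19)]]⟩]

/-- Terms. -/
def onePairTerms24 : List Term2 :=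
  [⟨(0x215647830, [(1, 3, 3, 7), (2, 8, 5, 6)]), 34, [[(1052, 23), (995, 32), (33, 69), (165, 23), (970, 66)],
     [(1054, 23), (998, 32), (36, 69), (159, 23), (971, 66)],
     [(1050, 23), (992, 32), (30, 69), (162, 23), (969, 66)]]⟩,
   ⟨(0x621573804, [(0, 4, 4, 7), (7, 2, 2, 8), (8, 6, 6, 1)]), 35, [[(959, 72), (986, 17), (1243, 0), (777, 83), (65, 41)],
     [(955, 72), (989, 17), (1244, 0), (780, 83), (68, 41)],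
     [(957, 72), (983, 17), (1245, 0), (783, 83), (71, 41)]]⟩,
   ⟨(0x203618475, [(0, 5, 5, 6), (6, 3, 3, 8), (8, 2, 2, 4), (4, 1, 1, 7)]), 29, [[(1246, 0), (788, 51), (1247, 0), (1248, 0), (667, 1)],
     [(1249, 0), (790, 51), (1250, 0), (1251, 0), (670, 1)],
     [(1252, 0), (786, 51), (1253, 0), (1254, 0), (664, 1)]]⟩,
   ⟨(0x751304826, [(0, 6, 6, 1), (1, 2, 2, 8), (8, 7, 7, 5), (5, 3, 3, 4)]), 28, [[(617, 61), (89, 24), (1255, 0), (83, 73), (86, 9)],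
     [(617, 89), (83, 24), (1255, 33), (86, 73), (89, 9)],
     [(617, 88), (86, 24), (1255, 14), (89, 73), (83, 9)]]⟩,
   ⟨(0x048672135, [(0, 5, 5, 6), (6, 8, 1, 3), (3, 2, 4, 7)]), 14, [[(1256, 0), (1257, 0), (1238, 77), (1121, 80), (1258, 0)],
     [(1259, 0), (1260, 0), (1240, 77), (1119, 80), (1261, 0)],
     [(1262, 0), (1263, 0), (1242, 77), (1120, 80), (1264, 0)]]⟩,
   ⟨(0x847051632, [(0, 2, 2, 6), (6, 7, 7, 4), (4, 5, 1, 3)]), 12, [[(1149, 41), (828, 90), (359, 17), (1265, 0), (1266, 0)],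
     [(1151, 41), (831, 90), (362, 17), (1267, 0), (1265, 22)],
     [(1153, 41), (834, 90), (365, 17), (1266, 5), (1267, 22)]]⟩,
   ⟨(0x612378054, [(0, 4, 4, 7), (7, 1, 1, 5), (5, 3, 3, 8), (8, 6, 6, 2)]), 7, [[(1245, 74), (917, 9), (10, 40), (106, 10), (596, 31)],
     [(1243, 74), (920, 9), (13, 40), (109, 10), (599, 31)],
     [(1244, 74), (914, 9), (16, 40), (103, 10), (593, 31)]]⟩,
   ⟨(0x804257316, [(0, 6, 6, 4), (4, 5, 5, 2), (2, 3, 3, 7)]), 12, [[(1133, 14), (151, 34), (160, 74), (350, 24), (158, 62)],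
     [(1129, 14), (154, 34), (163, 74), (353, 24), (161, 62)],
     [(1131, 14), (148, 34), (157, 74), (356, 24), (164, 62)]]⟩]

/-- Terms. -/
def onePairTerms25 : List Term2 :=
  [⟨(0x476530128, [(0, 8, 8, 4), (4, 3, 1, 2)]), 16, [[(226, 15), (140, 47), (996, 77), (1174, 85), (928, 58)],
     [(220, 15), (143, 47), (990, 77), (1175, 85), (932, 58)],
     [(223, 15), (146, 47), (993, 77), (1176, 85), (936, 58)]]⟩,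
   ⟨(0x831672540, [(1, 4, 4, 7), (7, 3, 3, 2), (2, 5, 5, 6)]), 6, [[(583, 64), (1228, 52), (887, 16), (1163, 54), (590, 77)],
     [(586, 64), (1230, 52), (885, 16), (1161, 54), (584, 77)],
     [(589, 64), (1232, 52), (886, 16), (1162, 54), (587, 77)]]⟩,
   ⟨(0x061734285, [(0, 5, 5, 7), (7, 6, 6, 1), (1, 8, 3, 4)]), 25, [[(1090, 31), (1268, 0), (302, 7), (935, 58), (145, 7)],
     [(1086, 31), (1269, 0), (305, 7), (927, 58), (139, 7)],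
     [(1088, 31), (1270, 0), (308, 7), (931, 58), (142, 7)]]⟩,
   ⟨(0x045168732, [(0, 2, 2, 7), (7, 4, 4, 6), (6, 5, 5, 1), (1, 3, 3, 8)]), 29, [[(1271, 0), (402, 11), (1272, 0), (760, 36), (82, 26)],
     [(1272, 17), (396, 11), (1273, 0), (763, 36), (85, 26)],
     [(1273, 17), (399, 11), (1271, 47), (757, 36), (88, 26)]]⟩,
   ⟨(0x820135647, [(0, 7, 7, 2), (2, 6, 1, 4), (4, 3, 3, 5)]), 11, [[(691, 10), (1141, 22), (1274, 0), (1275, 0), (105, 66)],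
     [(685, 10), (1142, 22), (1276, 0), (1277, 0), (108, 66)],
     [(688, 10), (1139, 22), (1278, 0), (1279, 0), (111, 66)]]⟩,
   ⟨(0x814230567, [(0, 7, 7, 1), (1, 6, 6, 4), (4, 3, 2, 5)]), 32, [[(1280, 0), (1278, 33), (973, 48), (801, 16), (1281, 0)],
     [(1282, 0), (1274, 33), (974, 48), (803, 16), (1283, 0)],
     [(1284, 0), (1276, 33), (972, 48), (799, 16), (1285, 0)]]⟩,
   ⟨(0x461750328, [(0, 8, 8, 4), (4, 5, 5, 7), (7, 6, 6, 1), (1, 2, 2, 3)]), 30, [[(1223, 10), (1182, 45), (365, 87), (1218, 19), (734, 46)],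
     [(1217, 10), (1178, 45), (359, 87), (1221, 19), (737, 46)],
     [(1220, 10), (1180, 45), (362, 87), (1224, 19), (740, 46)]]⟩,
   ⟨(0x823746150, [(1, 5, 5, 7), (7, 2, 3, 6)]), 9, [[(53, 67), (307, 39), (521, 86), (17, 93), (374, 87)],
     [(47, 67), (301, 39), (524, 86), (11, 93), (368, 87)],
     [(50, 67), (304, 39), (518, 86), (14, 93), (371, 87)]]⟩]

/-- Terms. -/
def onePairTerms26 : List Term2 :=
  [⟨(0x587024316, [(0, 6, 6, 7), (7, 8, 8, 5), (2, 3, 3, 4)]), 7, [[(328, 5), (334, 24), (1255, 37), (331, 44), (93, 4)],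
     [(331, 5), (328, 24), (1255, 3), (334, 44), (93, 19)],
     [(334, 5), (331, 24), (1255, 62), (328, 44), (93, 51)]]⟩,
   ⟨(0x720341586, [(0, 6, 1, 8), (8, 7, 7, 2), (2, 5, 5, 3)]), 9, [[(768, 29), (932, 42), (1286, 0), (57, 17), (1210, 52)],
     [(771, 29), (936, 42), (1287, 0), (60, 17), (1212, 52)],
     [(774, 29), (928, 42), (1288, 0), (63, 17), (1214, 52)]]⟩,
   ⟨(0x812365704, [(0, 4, 4, 6), (6, 2, 2, 7), (7, 1, 3, 5)]), 35, [[(1081, 57), (199, 85), (1046, 46), (646, 58), (709, 22)],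
     [(1084, 57), (193, 85), (1042, 46), (649, 58), (703, 22)],
     [(1078, 57), (196, 85), (1044, 46), (643, 58), (706, 22)]]⟩,
   ⟨(0x067184235, [(0, 5, 5, 1), (1, 3, 3, 4), (4, 8, 6, 7)]), 13, [[(681, 4), (730, 92), (344, 81), (1289, 0), (1290, 0)],
     [(675, 4), (724, 92), (347, 81), (1291, 0), (1292, 0)],
     [(678, 4), (727, 92), (341, 81), (1293, 0), (1294, 0)]]⟩,
   ⟨(0x861423570, [(1, 7, 7, 6), (2, 5, 5, 4)]), 27, [[(137, 49), (134, 81), (1295, 0), (131, 42), (91, 75)],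
     [(131, 49), (137, 81), (1295, 21), (134, 42), (91, 74)],
     [(134, 49), (131, 81), (1295, 41), (137, 42), (91, 40)]]⟩,
   ⟨(0x516427038, [(0, 8, 8, 5), (5, 4, 4, 2), (1, 3, 3, 7)]), 28, [[(1280, 66), (1079, 65), (1296, 0), (858, 22), (530, 77)],
     [(1282, 66), (1082, 65), (1297, 0), (860, 22), (533, 77)],
     [(1284, 66), (1085, 65), (1298, 0), (862, 22), (527, 77)]]⟩,
   ⟨(0x764805132, [(0, 2, 2, 1), (1, 3, 3, 5), (5, 8, 8, 7), (7, 6, 6, 4)]), 35, [[(473, 60), (63, 55), (1177, 57), (97, 43), (55, 14)],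
     [(476, 60), (57, 55), (1179, 57), (100, 43), (58, 14)],
     [(470, 60), (60, 55), (1181, 57), (94, 43), (61, 14)]]⟩,
   ⟨(0x347801625, [(0, 5, 5, 8), (8, 3, 3, 1), (1, 2, 2, 6), (6, 7, 7, 4)]), 16, [[(1299, 0), (653, 27), (1300, 0), (924, 11), (489, 59)],
     [(1300, 3), (656, 27), (1301, 0), (926, 11), (492, 59)],
     [(1301, 3), (659, 27), (1299, 3), (922, 11), (495, 59)]]⟩]

/-- Terms. -/
def onePairTerms27 : List Term2 :=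
  [⟨(0x735412860, [(1, 6, 6, 5), (5, 4, 2, 8), (8, 7, 7, 3)]), 8, [[(1152, 52), (163, 22), (150, 31), (158, 45), (357, 34)],
     [(1154, 52), (157, 22), (153, 31), (161, 45), (351, 34)],
     [(1150, 52), (160, 22), (156, 31), (164, 45), (354, 34)]]⟩,
   ⟨(0x512763840, [(1, 4, 4, 6), (6, 2, 2, 8), (8, 5, 5, 7)]), 22, [[(1234, 37), (134, 85), (1236, 86), (333, 67), (1002, 79)],
     [(1235, 37), (137, 85), (1234, 86), (336, 67), (1004, 79)],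
     [(1236, 37), (131, 85), (1235, 86), (330, 67), (1006, 79)]]⟩,
   ⟨(0x308516247, [(0, 7, 1, 4), (3, 6, 6, 8)]), 18, [[(805, 87), (1268, 2), (231, 40), (784, 36), (391, 53)],
     [(809, 87), (1269, 2), (234, 40), (778, 36), (385, 53)],
     [(813, 87), (1270, 2), (237, 40), (781, 36), (388, 53)]]⟩,
   ⟨(0x032715684, [(0, 4, 4, 1), (1, 8, 2, 6), (3, 5, 5, 7)]), 13, [[(21, 22), (23, 11), (697, 61), (1302, 0), (95, 3)],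
     [(24, 22), (26, 11), (700, 61), (1303, 0), (98, 3)],
     [(27, 22), (20, 11), (694, 61), (1304, 0), (101, 3)]]⟩,
   ⟨(0x714583260, [(1, 6, 6, 4), (4, 8, 8, 7)]), 25, [[(1305, 0), (164, 61), (248, 5), (337, 30), (1226, 49)],
     [(1306, 0), (158, 61), (251, 5), (338, 11), (1227, 49)],
     [(1307, 0), (161, 61), (254, 5), (339, 61), (1225, 49)]]⟩,
   ⟨(0x503467821, [(0, 1, 1, 2), (2, 8, 8, 5), (5, 4, 4, 6), (6, 3, 3, 7)]), 11, [[(647, 35), (1103, 2), (539, 59), (471, 13), (151, 75)],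
     [(650, 35), (1095, 2), (542, 59), (474, 13), (154, 75)],
     [(644, 35), (1099, 2), (536, 59), (477, 13), (148, 75)]]⟩,
   ⟨(0x540182376, [(0, 6, 1, 7), (7, 4, 4, 8), (8, 5, 2, 3)]), 18, [[(1216, 33), (1056, 39), (1308, 0), (336, 15), (462, 23)],
     [(1219, 33), (1060, 39), (1309, 0), (330, 15), (465, 23)],
     [(1222, 33), (1063, 39), (1310, 0), (333, 15), (468, 23)]]⟩,
   ⟨(0x580361742, [(0, 2, 2, 7), (7, 8, 8, 5), (5, 3, 3, 1), (1, 4, 4, 6)]), 11, [[(649, 86), (543, 85), (155, 22), (472, 22), (1044, 74)],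
     [(643, 86), (537, 85), (149, 22), (475, 22), (1046, 74)],
     [(646, 86), (540, 85), (152, 22), (469, 22), (1042, 74)]]⟩]

/-- Terms. -/
def onePairTerms28 : List Term2 :=
  [⟨(0x150732684, [(0, 4, 4, 3), (3, 2, 2, 6), (1, 8, 5, 7)]), 19, [[(432, 28), (9, 51), (1293, 8), (1097, 35), (533, 85)],
     [(426, 28), (3, 51), (1289, 8), (1101, 35), (527, 85)],
     [(429, 28), (6, 51), (1291, 8), (1093, 35), (530, 85)]]⟩,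
   ⟨(0x271386405, [(0, 5, 5, 3), (3, 6, 6, 1), (2, 4, 4, 8)]), 14, [[(939, 53), (485, 48), (681, 20), (174, 53), (555, 56)],
     [(941, 53), (479, 48), (675, 20), (168, 53), (558, 56)],
     [(943, 53), (482, 48), (678, 20), (171, 53), (561, 56)]]⟩,
   ⟨(0x647820135, [(0, 5, 5, 8), (8, 6, 6, 7), (7, 4, 4, 2), (2, 1, 1, 3)]), 14, [[(711, 87), (412, 58), (1221, 92), (622, 61), (824, 76)],
     [(713, 33), (415, 58), (1224, 92), (625, 61), (816, 76)],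
     [(712, 65), (418, 58), (1218, 92), (619, 61), (820, 76)]]⟩,
   ⟨(0x035216748, [(0, 8, 1, 4), (2, 7, 7, 3), (3, 6, 6, 5)]), 11, [[(1311, 0), (1165, 47), (985, 27), (321, 44), (380, 42)],
     [(1312, 0), (1166, 47), (988, 27), (324, 44), (383, 42)],
     [(1313, 0), (1164, 47), (982, 27), (327, 44), (377, 42)]]⟩,
   ⟨(0x042681753, [(0, 3, 3, 1), (1, 5, 5, 6), (6, 2, 2, 7), (7, 4, 4, 8)]), 9, [[(776, 68), (787, 52), (792, 45), (1314, 0), (412, 40)],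
     [(770, 68), (789, 52), (794, 45), (1315, 0), (415, 40)],
     [(773, 68), (791, 52), (796, 45), (1316, 0), (418, 40)]]⟩,
   ⟨(0x321560847, [(0, 7, 7, 2), (2, 8, 8, 3), (1, 4, 4, 6)]), 13, [[(660, 83), (392, 1), (666, 6), (449, 81), (1122, 29)],
     [(661, 80), (386, 1), (669, 6), (443, 81), (1123, 29)],
     [(662, 54), (389, 1), (663, 6), (446, 81), (1124, 29)]]⟩,
   ⟨(0x571302846, [(0, 6, 6, 1), (1, 4, 2, 8), (8, 5, 5, 3)]), 30, [[(978, 74), (975, 20), (692, 22), (604, 28), (632, 3)],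
     [(980, 74), (977, 20), (686, 22), (607, 28), (635, 3)],
     [(976, 74), (979, 20), (689, 22), (601, 28), (629, 3)]]⟩,
   ⟨(0x064521378, [(0, 8, 1, 7), (7, 6, 6, 4), (4, 2, 2, 3)]), 36, [[(1092, 23), (209, 94), (723, 68), (1256, 93), (556, 18), (1193, 37), (530, 77), (1317, 0), (1318, 0), (706, 73), (781, 5), (869, 63)],
     [(1096, 23), (203, 94), (726, 68), (1259, 93), (559, 18), (1195, 37), (533, 77), (1319, 0), (1320, 0), (709, 73), (784, 5), (872, 63)],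
     [(1100, 23), (206, 94), (729, 68), (1262, 93), (553, 18), (1197, 37), (527, 77), (1321, 0), (1322, 0), (703, 73), (778, 5), (875, 63)]]⟩]

/-- Terms. -/
def onePairTerms29 : List Term2 :=
  [⟨(0x381647502, [(0, 2, 2, 5), (5, 6, 6, 1), (3, 7, 7, 8)]), 37, [[(1323, 0), (1301, 68), (154, 36), (1315, 76), (1324, 0), (1215, 75), (357, 9), (254, 9), (1049, 3), (1325, 0), (1154, 14), (833, 28)],
     [(1323, 5), (1299, 39), (148, 36), (1316, 76), (1326, 0), (1211, 75), (351, 9), (248, 9), (1047, 3), (1327, 0), (1150, 14), (836, 28)],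
     [(1323, 22), (1300, 68), (151, 36), (1314, 76), (1328, 0), (1213, 75), (354, 9), (251, 9), (1048, 3), (1329, 0), (1152, 14), (830, 28)]]⟩,
   ⟨(0x840317652, [(0, 2, 2, 6), (1, 5, 5, 3), (3, 7, 7, 4)]), 38, [[(1011, 72), (388, 27), (84, 83), (502, 89), (1247, 3), (638, 36), (1173, 8), (449, 53), (335, 40), (130, 84), (789, 49), (453, 58)],
     [(1013, 72), (391, 27), (87, 83), (505, 89), (1250, 3), (636, 36), (1173, 47), (443, 53), (329, 40), (133, 84), (791, 49), (456, 58)],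
     [(1009, 72), (385, 27), (90, 83), (499, 89), (1253, 3), (637, 36), (1173, 46), (446, 53), (332, 40), (136, 84), (787, 49), (459, 58)]]⟩,
   ⟨(0x103657842, [(0, 2, 2, 8), (8, 1, 1, 4), (4, 5, 5, 6), (6, 3, 3, 7)]), 38, [[(169, 79), (1097, 68), (1330, 0), (1081, 14), (77, 15), (1308, 48), (872, 30), (1144, 75), (1294, 36), (70, 41), (860, 88), (581, 61)],
     [(172, 79), (1101, 68), (1331, 0), (1084, 14), (80, 15), (1309, 48), (875, 30), (1146, 75), (1290, 36), (64, 41), (862, 88), (575, 61)],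
     [(166, 79), (1093, 68), (1332, 0), (1078, 14), (74, 15), (1310, 48), (869, 30), (1148, 75), (1292, 36), (67, 41), (858, 88), (578, 61)]]⟩,
   ⟨(0x845137026, [(0, 6, 6, 5), (5, 1, 1, 2), (3, 7, 7, 4)]), 37, [[(443, 20), (388, 60), (83, 41), (1295, 28), (454, 86), (1235, 44), (762, 62), (1286, 71), (1251, 29), (1333, 0), (397, 74), (1172, 70)],
     [(446, 20), (391, 60), (86, 41), (1295, 68), (457, 86), (1236, 44), (756, 62), (1287, 71), (1254, 29), (1334, 0), (400, 74), (1171, 72)],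
     [(449, 20), (385, 60), (89, 41), (1295, 93), (451, 86), (1234, 44), (759, 62), (1288, 71), (1248, 29), (1335, 0), (394, 74), (1170, 92)]]⟩,
   ⟨(0x071648325, [(0, 5, 5, 6), (6, 1, 1, 2), (2, 3, 3, 8)]), 37, [[(69, 47), (313, 41), (572, 28), (1281, 7), (858, 20), (1336, 0), (197, 11), (17, 26), (325, 86), (427, 22), (1074, 68), (515, 82)],
     [(72, 47), (316, 41), (566, 28), (1283, 7), (860, 20), (1337, 0), (200, 11), (11, 26), (319, 86), (430, 22), (1068, 68), (509, 82)],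
     [(66, 47), (310, 41), (569, 28), (1285, 7), (862, 20), (1338, 0), (194, 11), (14, 26), (322, 86), (424, 22), (1071, 68), (512, 82)]]⟩,
   ⟨(0x250167834, [(0, 4, 4, 6), (1, 3, 3, 7), (7, 5, 2, 8)]), 38, [[(324, 23), (600, 93), (1041, 43), (871, 64), (835, 46), (343, 18), (649, 7), (1185, 72), (467, 16), (81, 73), (172, 61), (1322, 76)],
     [(327, 23), (594, 93), (1043, 43), (874, 64), (829, 46), (346, 18), (643, 7), (1187, 72), (461, 16), (75, 73), (166, 61), (1318, 76)],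
     [(321, 23), (597, 93), (1045, 43), (868, 64), (832, 46), (340, 18), (646, 7), (1183, 72), (464, 16), (78, 73), (169, 61), (1320, 76)]]⟩,
   ⟨(0x123780465, [(0, 5, 5, 7), (7, 2, 2, 4), (4, 8, 8, 1), (1, 6, 6, 3)]), 36, [[(646, 70), (953, 57), (1239, 66), (1194, 69), (342, 83), (895, 52), (1159, 31), (1106, 11), (1297, 82), (981, 33), (1260, 74), (1097, 62)],
     [(649, 70), (951, 57), (1241, 66), (1196, 69), (345, 83), (889, 52), (1160, 31), (1104, 11), (1298, 82), (984, 33), (1263, 74), (1101, 62)],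
     [(643, 70), (952, 57), (1237, 66), (1192, 69), (348, 83), (892, 52), (1158, 31), (1105, 11), (1296, 82), (987, 33), (1257, 74), (1093, 62)]]⟩,
   ⟨(0x345281067, [(0, 7, 7, 4), (4, 8, 8, 3), (3, 1, 1, 6), (6, 5, 5, 2)]), 37, [[(1326, 15), (356, 44), (1339, 0), (156, 41), (1340, 0), (1277, 42), (1305, 53), (1325, 9), (841, 37), (1212, 92), (488, 45), (1154, 44)],
     [(1328, 15), (350, 44), (1341, 0), (150, 41), (1340, 41), (1279, 42), (1306, 53), (1327, 9), (844, 37), (1214, 92), (491, 45), (1150, 44)],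
     [(1324, 15), (353, 44), (1342, 0), (153, 41), (1340, 21), (1275, 42), (1307, 53), (1329, 9), (838, 37), (1210, 92), (494, 45), (1152, 44)]]⟩]

/-- Terms. -/
def onePairTerms30 : List Term2 :=
  [⟨(0x253607841, [(0, 1, 1, 4), (2, 8, 3, 7), (7, 5, 5, 6)]), 37, [[(871, 81), (1264, 25), (1084, 2), (292, 73), (468, 64), (1231, 25), (121, 9), (554, 24), (940, 80), (1190, 94), (865, 90), (1118, 72)],
     [(874, 81), (1258, 25), (1078, 2), (295, 73), (462, 64), (1233, 25), (124, 9), (557, 24), (942, 80), (1191, 94), (866, 90), (1114, 72)],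
     [(868, 81), (1261, 25), (1081, 2), (298, 73), (465, 64), (1229, 25), (127, 9), (560, 24), (944, 80), (1189, 94), (864, 90), (1116, 72)]]⟩,
   ⟨(0x801462537, [(0, 7, 1, 3), (3, 2, 2, 5), (5, 4, 4, 6)]), 38, [[(909, 51), (616, 7), (662, 95), (1334, 66), (1010, 87), (1312, 54), (1246, 42), (789, 52), (401, 44), (333, 7), (501, 27), (131, 74)],
     [(911, 51), (616, 21), (660, 85), (1335, 66), (1012, 87), (1313, 54), (1249, 42), (791, 52), (395, 44), (336, 7), (504, 27), (134, 74)],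
     [(907, 51), (616, 54), (661, 82), (1333, 66), (1008, 87), (1311, 54), (1252, 42), (787, 52), (398, 44), (330, 7), (507, 27), (137, 74)]]⟩,
   ⟨(0x072638415, [(0, 5, 5, 6), (6, 2, 2, 4), (4, 3, 3, 8)]), 37, [[(67, 23), (428, 24), (913, 66), (117, 6), (768, 80), (1336, 3), (197, 15), (18, 59), (675, 20), (315, 43), (573, 90), (514, 17)],
     [(70, 23), (431, 24), (916, 66), (120, 6), (771, 80), (1337, 3), (200, 15), (12, 59), (678, 20), (318, 43), (567, 90), (508, 17)],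
     [(64, 23), (425, 24), (919, 66), (114, 6), (774, 80), (1338, 3), (194, 15), (15, 59), (681, 20), (312, 43), (570, 90), (511, 17)]]⟩,
   ⟨(0x548713620, [(1, 2, 2, 6), (6, 8, 8, 5), (5, 7, 7, 4)]), 39, [[(620, 22), (1206, 15), (751, 36), (208, 61), (37, 94), (172, 66), (410, 38), (1186, 31), (1340, 68), (250, 63), (732, 67), (1342, 69), (145, 49), (426, 13), (167, 26), (101, 72), (1155, 84), (1201, 95), (185, 36), (964, 7), (908, 63)],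
     [(623, 22), (1209, 15), (745, 36), (202, 61), (40, 94), (166, 66), (404, 38), (1188, 31), (1340, 28), (253, 63), (735, 67), (1339, 69), (139, 49), (429, 13), (170, 26), (95, 72), (1156, 84), (1205, 95), (188, 36), (967, 7), (910, 63)],
     [(626, 22), (1202, 15), (748, 36), (205, 61), (43, 94), (169, 66), (407, 38), (1184, 31), (1340, 93), (247, 63), (738, 67), (1341, 69), (142, 49), (432, 13), (173, 26), (98, 72), (1157, 84), (1208, 95), (191, 36), (961, 7), (906, 63)]]⟩,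
   ⟨(0x631084752, [(0, 2, 2, 7), (7, 3, 3, 4), (4, 8, 8, 6), (6, 1, 1, 5)]), 40, [[(1057, 90), (1323, 14), (58, 29), (258, 52), (1302, 85), (779, 39), (1332, 52), (1321, 53), (1145, 58), (936, 86), (1060, 70), (960, 22), (1135, 65), (174, 67), (380, 15), (1014, 89), (1025, 62), (1301, 91), (739, 92), (166, 81), (45, 31)],
     [(1061, 90), (1323, 41), (61, 29), (261, 52), (1303, 85), (782, 39), (1330, 52), (1317, 53), (1147, 58), (928, 86), (1063, 70), (963, 22), (1136, 65), (168, 67), (383, 15), (1015, 89), (1027, 62), (1299, 71), (733, 92), (169, 81), (39, 31)],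
     [(1064, 90), (1323, 2), (55, 29), (264, 52), (1304, 85), (785, 39), (1331, 52), (1319, 53), (1143, 58), (932, 86), (1056, 70), (966, 22), (1134, 65), (171, 67), (377, 15), (1016, 89), (1023, 62), (1300, 91), (736, 92), (172, 81), (42, 31)]]⟩]

/-- The orbit sums. -/
def onePairOrbs : List Orb2 := [onePairOrb0, onePairOrb1, onePairOrb2, onePairOrb3, onePairOrb4, onePairOrb5, onePairOrb6, onePairOrb7, onePairOrb8, onePairOrb9, onePairOrb10, onePairOrb11, onePairOrb12, onePairOrb13, onePairOrb14, onePairOrb15, onePairOrb16, onePairOrb17, onePairOrb18, onePairOrb19, onePairOrb20, onePairOrb21, onePairOrb22, onePairOrb23, onePairOrb24, onePairOrb25, onePairOrb26, onePairOrb27, onePairOrb28, onePairOrb29, onePairOrb30, onePairOrb31, onePairOrb32, onePairOrb33, onePairOrb34, onePairOrb35, onePairOrb36, onePairOrb37, onePairOrb38,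 onePairOrb39, onePairOrb40]

/-- The representatives. -/
def onePairReps : List (List PC) := [onePairReps0, onePairReps1, onePairReps2, onePairReps3, onePairReps4, onePairReps5, onePairReps6, onePairReps7, onePairReps8, onePairReps9, onePairReps10, onePairReps11, onePairReps12, onePairReps13, onePairReps14, onePairReps15, onePairReps16, onePairReps17, onePairReps18, onePairReps19, onePairReps20, onePairReps21, onePairReps22, onePairReps23, onePairReps24, onePairReps25, onePairReps26, onePairReps27, onePairReps28, onePairReps29, onePairReps30, onePairReps31, onePairReps32, onePairReps33, onePairReps34, onePairReps35, onePairReps36, onePairReps37, onePairReps38, onePairReps39, onePairReps40, onePairReps41]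

/-- The certificate. -/
def onePairCert : Cert2 where
  stab := [(2, 1), (3, 1), (4, 1), (5, 1), (6, 1), (3, 2), (4, 2), (5, 2), (6, 2), (4, 3), (5, 3), (6, 3), (5, 4), (6, 4), (2, 5), (5, 5), (6, 5), (5, 6), (3, 7), (4, 7), (6, 7), (4, 8), (5, 8), (6, 8), (5, 9), (6, 9), (5, 10), (6, 10), (5, 11), (4, 12), (5, 12), (6, 12), (5, 13), (6, 13), (5, 14), (6, 14), (5, 15), (5, 16), (6, 16), (2, 17), (5, 17), (6, 17), (5, 18), (2, 19), (5, 19), (6, 19), (5, 20), (5, 21), (6, 21), (2, 24), (4, 25), (6, 25), (6, 26), (5, 28), (6, 28), (5, 29), (6, 29), (5, 30), (5, 31), (6, 31), (5, 32), (5, 36), (6, 36), (5, 37), (6, 37), (5, 38), (5, 39), (6, 39), (5, 40), (2, 44), (5, 44), (6, 44), (5, 45), (5, 46), (6, 46), (2, 49), (5, 50), (6, 50), (2, 53), (6, 57), (5, 60), (6, 60), (5, 61), (5, 68), (6, 68), (5, 69), (5, 76), (6, 76), (2,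 79)]
  qs := onePairQs
  reps := onePairReps
  orbs := onePairOrbs
  cs := [0, 5, 22]
  terms := onePairTerms0 ++ onePairTerms1 ++ onePairTerms2 ++ onePairTerms3 ++ onePairTerms4 ++ onePairTerms5 ++ onePairTerms6 ++ onePairTerms7 ++ onePairTerms8 ++ onePairTerms9 ++ onePairTerms10 ++ onePairTerms11 ++ onePairTerms12 ++ onePairTerms13 ++ onePairTerms14 ++ onePairTerms15 ++ onePairTerms16 ++ onePairTerms17 ++ onePairTerms18 ++ onePairTerms19 ++ onePairTerms20 ++ onePairTerms21 ++ onePairTerms22 ++ onePairTerms23 ++ onePairTerms24 ++ onePairTerms25 ++ onePairTerms26 ++ onePairTerms27 ++ onePairTerms28 ++ onePairTerms29 ++ onePairTerms30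

theorem onePairTerms0OK :
    onePairTerms0.all (termOK onePairQs onePairReps [0, 5, 22] onePairOrbs) = true := by
  decide +kernel

theorem onePairTerms1OK :
    onePairTerms1.all (termOK onePairQs onePairReps [0, 5, 22] onePairOrbs) = true := by
  decide +kernel

theorem onePairTerms2OK :
    onePairTerms2.all (termOK onePairQs onePairReps [0, 5, 22] onePairOrbs) = true := by
  decide +kernel

theorem onePairTerms3OK :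
    onePairTerms3.all (termOK onePairQs onePairReps [0, 5, 22] onePairOrbs) = true := by
  decide +kernel

theorem onePairTerms4OK :
    onePairTerms4.all (termOK onePairQs onePairReps [0, 5, 22] onePairOrbs) = true := by
  decide +kernel

theorem onePairTerms5OK :
    onePairTerms5.all (termOK onePairQs onePairReps [0, 5, 22] onePairOrbs) = true := by
  decide +kernel

theorem onePairTerms6OK :
    onePairTerms6.all (termOK onePairQs onePairReps [0, 5, 22] onePairOrbs) = true := by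
  decide +kernel

theorem onePairTerms7OK :
    onePairTerms7.all (termOK onePairQs onePairReps [0, 5, 22] onePairOrbs) = true := by
  decide +kernel

theorem onePairTerms8OK :
    onePairTerms8.all (termOK onePairQs onePairReps [0, 5, 22] onePairOrbs) = true := by
  decide +kernel

theorem onePairTerms9OK :
    onePairTerms9.all (termOK onePairQs onePairReps [0, 5, 22] onePairOrbs) = true := by
  decide +kernel

theorem onePairTerms10OK :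
    onePairTerms10.all (termOK onePairQs onePairReps [0, 5, 22] onePairOrbs) = true := by
  decide +kernel

theorem onePairTerms11OK :
    onePairTerms11.all (termOK onePairQs onePairReps [0, 5, 22] onePairOrbs) = true := by
  decide +kernel

theorem onePairTerms12OK :
    onePairTerms12.all (termOK onePairQs onePairReps [0, 5, 22] onePairOrbs) = true := by
  decide +kernel

theorem onePairTerms13OK :
    onePairTerms13.all (termOK onePairQs onePairReps [0, 5, 22] onePairOrbs) = true := by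
  decide +kernel

theorem onePairTerms14OK :
    onePairTerms14.all (termOK onePairQs onePairReps [0, 5, 22] onePairOrbs) = true := by
  decide +kernel

theorem onePairTerms15OK :
    onePairTerms15.all (termOK onePairQs onePairReps [0, 5, 22] onePairOrbs) = true := by
  decide +kernel

theorem onePairTerms16OK :
    onePairTerms16.all (termOK onePairQs onePairReps [0, 5, 22] onePairOrbs) = true := by
  decide +kernel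

theorem onePairTerms17OK :
    onePairTerms17.all (termOK onePairQs onePairReps [0, 5, 22] onePairOrbs) = true := by
  decide +kernel

theorem onePairTerms18OK :
    onePairTerms18.all (termOK onePairQs onePairReps [0, 5, 22] onePairOrbs) = true := by
  decide +kernel

theorem onePairTerms19OK :
    onePairTerms19.all (termOK onePairQs onePairReps [0, 5, 22] onePairOrbs) = true := by
  decide +kernel

theorem onePairTerms20OK :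
    onePairTerms20.all (termOK onePairQs onePairReps [0, 5, 22] onePairOrbs) = true := by
  decide +kernel

theorem onePairTerms21OK :
    onePairTerms21.all (termOK onePairQs onePairReps [0, 5, 22] onePairOrbs) = true := by
  decide +kernel

theorem onePairTerms22OK :
    onePairTerms22.all (termOK onePairQs onePairReps [0, 5, 22] onePairOrbs) = true := by
  decide +kernel

theorem onePairTerms23OK :
    onePairTerms23.all (termOK onePairQs onePairReps [0, 5, 22] onePairOrbs) = true := by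
  decide +kernel

theorem onePairTerms24OK :
    onePairTerms24.all (termOK onePairQs onePairReps [0, 5, 22] onePairOrbs) = true := by
  decide +kernel

theorem onePairTerms25OK :
    onePairTerms25.all (termOK onePairQs onePairReps [0, 5, 22] onePairOrbs) = true := by
  decide +kernel

theorem onePairTerms26OK :
    onePairTerms26.all (termOK onePairQs onePairReps [0, 5, 22] onePairOrbs) = true := by
  decide +kernel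

theorem onePairTerms27OK :
    onePairTerms27.all (termOK onePairQs onePairReps [0, 5, 22] onePairOrbs) = true := by
  decide +kernel

theorem onePairTerms28OK :
    onePairTerms28.all (termOK onePairQs onePairReps [0, 5, 22] onePairOrbs) = true := by
  decide +kernel

theorem onePairTerms29OK :
    onePairTerms29.all (termOK onePairQs onePairReps [0, 5, 22] onePairOrbs) = true := by
  decide +kernel

theorem onePairTerms30OK :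
    onePairTerms30.all (termOK onePairQs onePairReps [0, 5, 22] onePairOrbs) = true := by
  decide +kernel

theorem onePairBase : baseOK onePairTarget onePairHyps onePairCert = true := by
  decide +kernel

theorem onePairCover : coverOK 1343 onePairCert.terms = true := by
  decide +kernel

theorem onePairTerms :
    onePairCert.terms.all (termOK onePairCert.qs onePairCert.reps onePairCert.cs onePairCert.orbs) = true := by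
  show (onePairTerms0 ++ onePairTerms1 ++ onePairTerms2 ++ onePairTerms3 ++ onePairTerms4 ++ onePairTerms5 ++ onePairTerms6 ++ onePairTerms7 ++ onePairTerms8 ++ onePairTerms9 ++ onePairTerms10 ++ onePairTerms11 ++ onePairTerms12 ++ onePairTerms13 ++ onePairTerms14 ++ onePairTerms15 ++ onePairTerms16 ++ onePairTerms17 ++ onePairTerms18 ++ onePairTerms19 ++ onePairTerms20 ++ onePairTerms21 ++ onePairTerms22 ++ onePairTerms23 ++ onePairTerms24 ++ onePairTerms25 ++ onePairTerms26 ++ onePairTerms27 ++ onePairTerms28 ++ onePairTerms29 ++ onePairTerms30).all (termOK onePairQs onePairReps [0, 5, 22] onePairOrbs) = true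
  simp only [List.all_append, Bool.and_eq_true]
  exact ⟨⟨⟨⟨⟨⟨⟨⟨⟨⟨⟨⟨⟨⟨⟨⟨⟨⟨⟨⟨⟨⟨⟨⟨⟨⟨⟨⟨⟨⟨onePairTerms0OK, onePairTerms1OK⟩, onePairTerms2OK⟩, onePairTerms3OK⟩, onePairTerms4OK⟩, onePairTerms5OK⟩, onePairTerms6OK⟩, onePairTerms7OK⟩, onePairTerms8OK⟩, onePairTerms9OK⟩, onePairTerms10OK⟩, onePairTerms11OK⟩, onePairTerms12OK⟩, onePairTerms13OK⟩, onePairTerms14OK⟩, onePairTerms15OK⟩, onePairTerms16OK⟩, onePairTerms17OK⟩, onePairTerms18OK⟩, onePairTerms19OK⟩, onePairTerms20OK⟩, onePairTerms21OK⟩, onePairTerms22OK⟩, onePairTerms23OK⟩, onePairTerms24OK⟩, onePairTerms25OK⟩, onePairTerms26OK⟩, onePairTerms27OK⟩, onePairTerms28OK⟩, onePairTerms29OK⟩, onePairTerms30OK⟩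

end CfsgLib.SolvCent
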