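import Cfsg.Agent.Lib.SolvCent.TwoBase
import Cfsg.Agent.Lib.SolvCent.TwoSquare
import Cfsg.Agent.Lib.SolvCent.TwoDiag
import Cfsg.Agent.Lib.SolvCent.TwoAnti
import Cfsg.Agent.Lib.SolvCent.TwoOne

/-!
# Modules of A9 in characteristic 2 have vectors fixed by non-solvable subgroups

The vectors fixed by `E = V₄ × V₄` carry the action of a group of order nine; each of its four
subgroups of order three has no non-zero fixed point by the certificates, hence `E` has none.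
-/

set_option autoImplicit false
set_option maxRecDepth 100000

namespace CfsgLib.SolvCent.Two

open Equiv

/-- An even permutation as an element of A9. -/
def ev (g : Perm (Fin 9)) (h : Perm.sign g = 1 := by decide +kernel) : alternatingGroup (Fin 9) :=
  ⟨g, Perm.mem_alternatingGroup.2 h⟩

theorem valid_list {S : List (List ℕ × ℕ)} (cs : List (List (ℕ × ℕ × ℕ × ℕ)))
    (h : S.map Prod.fst = cs.map mkP) : ∀ x ∈ S, Valid 9 x.1 := fun x hx => by
  obtain ⟨c, -, hc⟩ := List.mem_map.1 (h ▸ List.mem_map_of_mem (f := Prod.fst) hx : x.1 ∈ cs.map mkP)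
  rw [← hc]; exact valid_mkP c

/-- (1, 0, 2, 3, 6, 5, 4, 7, 8) -/
def e0 : alternatingGroup (Fin 9) := ev ((Equiv.swap 0 1 * Equiv.swap 4 6))

/-- (0, 5, 2, 3, 1, 4, 6, 7, 8) -/
def e1 : alternatingGroup (Fin 9) := ev ((Equiv.swap 1 5 * Equiv.swap 5 4))

/-- (2, 1, 0, 8, 4, 5, 6, 7, 3) -/
def e2 : alternatingGroup (Fin 9) := ev ((Equiv.swap 0 2 * Equiv.swap 3 8))

/-- (1, 4, 8, 2, 0, 5, 6, 7, 3) -/
def e3 : alternatingGroup (Fin 9) := ev ((Equiv.swap 0 1 * Equiv.swap 1 4) * (Equiv.swap 2 8 * Equiv.swap 8 3))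

/-- (0, 2, 1, 8, 4, 5, 6, 7, 3) -/
def e4 : alternatingGroup (Fin 9) := ev ((Equiv.swap 1 2 * Equiv.swap 3 8))

/-- (4, 0, 8, 2, 1, 5, 6, 7, 3) -/
def e5 : alternatingGroup (Fin 9) := ev ((Equiv.swap 0 4 * Equiv.swap 4 1) * (Equiv.swap 2 8 * Equiv.swap 8 3))

/-- (3, 1, 7, 0, 4, 5, 6, 2, 8) -/
def e6 : alternatingGroup (Fin 9) := ev ((Equiv.swap 0 3 * Equiv.swap 2 7))

/-- (2, 5, 8, 3, 4, 7, 6, 1, 0) -/
def e7 : alternatingGroup (Fin 9) := ev ((Equiv.swap 0 2 * Equiv.swap 2 8) * (Equiv.swap 1 5 * Equiv.swap 5 7))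

/-- (0, 3, 7, 1, 4, 5, 6, 2, 8) -/
def e8 : alternatingGroup (Fin 9) := ev ((Equiv.swap 1 3 * Equiv.swap 2 7))

/-- (5, 2, 8, 3, 4, 7, 6, 0, 1) -/
def e9 : alternatingGroup (Fin 9) := ev ((Equiv.swap 0 5 * Equiv.swap 5 7) * (Equiv.swap 1 2 * Equiv.swap 2 8))

/-- (3, 2, 1, 0, 5, 4, 7, 6, 8) -/
def e10 : alternatingGroup (Fin 9) := ev ((Equiv.swap 0 3 * Equiv.swap 1 2) * (Equiv.swap 4 5 * Equiv.swap 6 7))

/-- (1, 8, 5, 7, 2, 4, 3, 6, 0) -/
def e11 : alternatingGroup (Fin 9) := ev ((Equiv.swap 0 1 * Equiv.swap 1 8) * (Equiv.swap 2 5 * Equiv.swap 5 4) * (Equiv.swap 3 7 * Equiv.swap 7 6))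

/-- (4, 1, 6, 5, 0, 3, 2, 8, 7) -/
def e12 : alternatingGroup (Fin 9) := ev ((Equiv.swap 0 4 * Equiv.swap 2 6) * (Equiv.swap 3 5 * Equiv.swap 7 8))

/-- (4, 1, 2, 8, 5, 0, 3, 7, 6) -/
def e13 : alternatingGroup (Fin 9) := ev ((Equiv.swap 0 4 * Equiv.swap 4 5) * (Equiv.swap 3 8 * Equiv.swap 8 6))

/-- (0, 4, 6, 5, 1, 3, 2, 8, 7) -/
def e14 : alternatingGroup (Fin 9) := ev ((Equiv.swap 1 4 * Equiv.swap 2 6) * (Equiv.swap 3 5 * Equiv.swap 7 8))

/-- (0, 4, 2, 8, 5, 1, 3, 7, 6) -/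
def e15 : alternatingGroup (Fin 9) := ev ((Equiv.swap 1 4 * Equiv.swap 4 5) * (Equiv.swap 3 8 * Equiv.swap 8 6))

/-- (2, 6, 8, 3, 4, 5, 7, 1, 0) -/
def e16 : alternatingGroup (Fin 9) := ev ((Equiv.swap 0 2 * Equiv.swap 2 8) * (Equiv.swap 1 6 * Equiv.swap 6 7))

/-- (6, 2, 8, 3, 4, 5, 7, 0, 1) -/
def e17 : alternatingGroup (Fin 9) := ev ((Equiv.swap 0 6 * Equiv.swap 6 7) * (Equiv.swap 1 2 * Equiv.swap 2 8))

/-- (3, 2, 1, 0, 6, 7, 4, 5, 8) -/
def e18 : alternatingGroup (Fin 9) := ev ((Equiv.swap 0 3 * Equiv.swap 1 2) * (Equiv.swap 4 6 * Equiv.swap 5 7))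

/-- (1, 8, 6, 7, 2, 3, 4, 5, 0) -/
def e19 : alternatingGroup (Fin 9) := ev ((Equiv.swap 0 1 * Equiv.swap 1 8) * (Equiv.swap 2 6 * Equiv.swap 6 4) * (Equiv.swap 3 7 * Equiv.swap 7 5))

/-- (4, 1, 5, 6, 0, 2, 3, 8, 7) -/
def e20 : alternatingGroup (Fin 9) := ev ((Equiv.swap 0 4 * Equiv.swap 2 5) * (Equiv.swap 3 6 * Equiv.swap 7 8))

/-- (4, 1, 2, 8, 6, 3, 0, 7, 5) -/
def e21 : alternatingGroup (Fin 9) := ev ((Equiv.swap 0 4 * Equiv.swap 4 6) * (Equiv.swap 3 8 * Equiv.swap 8 5))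

/-- (0, 4, 5, 6, 1, 2, 3, 8, 7) -/
def e22 : alternatingGroup (Fin 9) := ev ((Equiv.swap 1 4 * Equiv.swap 2 5) * (Equiv.swap 3 6 * Equiv.swap 7 8))

/-- (0, 4, 2, 8, 6, 3, 1, 7, 5) -/
def e23 : alternatingGroup (Fin 9) := ev ((Equiv.swap 1 4 * Equiv.swap 4 6) * (Equiv.swap 3 8 * Equiv.swap 8 5))

/-- (5, 1, 2, 3, 0, 4, 6, 7, 8) -/
def e24 : alternatingGroup (Fin 9) := ev ((Equiv.swap 0 5 * Equiv.swap 5 4))

/-- (4, 5, 6, 7, 0, 1, 2, 3, 8) -/
def e25 : alternatingGroup (Fin 9) := ev ((Equiv.swap 0 4 * Equiv.swap 1 5) * (Equiv.swap 2 6 * Equiv.swap 3 7))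

/-- (0, 2, 1, 3, 4, 6, 5, 7, 8) -/
def e26 : alternatingGroup (Fin 9) := ev ((Equiv.swap 1 2 * Equiv.swap 5 6))

/-- (4, 6, 5, 7, 0, 2, 1, 3, 8) -/
def e27 : alternatingGroup (Fin 9) := ev ((Equiv.swap 0 4 * Equiv.swap 1 6) * (Equiv.swap 2 5 * Equiv.swap 3 7))

/-- (1, 2, 0, 3, 4, 5, 6, 7, 8) -/
def e28 : alternatingGroup (Fin 9) := ev ((Equiv.swap 0 1 * Equiv.swap 1 2))

/-- (0, 1, 2, 3, 5, 6, 4, 7, 8) -/
def e29 : alternatingGroup (Fin 9) := ev ((Equiv.swap 4 5 * Equiv.swap 5 6))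

/-- (0, 1, 2, 3, 6, 7, 4, 5, 8) -/
def e30 : alternatingGroup (Fin 9) := ev ((Equiv.swap 4 6 * Equiv.swap 5 7))

/-- (0, 1, 2, 3, 5, 4, 7, 6, 8) -/
def e31 : alternatingGroup (Fin 9) := ev ((Equiv.swap 4 5 * Equiv.swap 6 7))

/-- (2, 3, 0, 1, 4, 5, 6, 7, 8) -/
def e32 : alternatingGroup (Fin 9) := ev ((Equiv.swap 0 2 * Equiv.swap 1 3))

/-- (1, 0, 3, 2, 4, 5, 6, 7, 8) -/
def e33 : alternatingGroup (Fin 9) := ev ((Equiv.swap 0 1 * Equiv.swap 2 3))

variable {V : Type*} [AddCommGroup V] [DistribMulAction (alternatingGroup (Fin 9)) V]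

theorem base0 (hV : NoFix 9 V) : Killed 9 V
    [([1, 0, 2, 3, 6, 5, 4, 7, 8], 1), ([0, 5, 2, 3, 1, 4, 6, 7, 8], 1)] :=
  killed_of_noFix hV e0 e1 (by decide +kernel) (by decide +kernel) (by decide +kernel)
    [true, true, false, true, false, true] [true, true, false, true, false, true, false]
    [true, false, true] [true, false, true, true, false, true, false] (by decide +kernel) (by decide +kernel)

theorem base1 (hV : NoFix 9 V) : Killed 9 V
    [([2, 1, 0, 8, 4, 5, 6, 7, 3], 1), ([1, 4, 8, 2, 0, 5, 6, 7, 3], 1)] :=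
  killed_of_noFix hV e2 e3 (by decide +kernel) (by decide +kernel) (by decide +kernel)
    [true, true, false, true, false, true] [true, true, false, true, false, true, false]
    [true, false, true] [true, false, true, true, false, true, false] (by decide +kernel) (by decide +kernel)

theorem base2 (hV : NoFix 9 V) : Killed 9 V
    [([0, 2, 1, 8, 4, 5, 6, 7, 3], 1), ([4, 0, 8, 2, 1, 5, 6, 7, 3], 1)] :=
  killed_of_noFix hV e4 e5 (by decide +kernel) (by decide +kernel) (by decide +kernel)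
    [true, true, false, true, false, true] [true, true, false, true, false, true, false]
    [true, false, true] [true, false, true, true, false, true, false] (by decide +kernel) (by decide +kernel)

theorem base3 (hV : NoFix 9 V) : Killed 9 V
    [([3, 1, 7, 0, 4, 5, 6, 2, 8], 1), ([2, 5, 8, 3, 4, 7, 6, 1, 0], 1)] :=
  killed_of_noFix hV e6 e7 (by decide +kernel) (by decide +kernel) (by decide +kernel)
    [true, true, false, true, false, true, true, false, true] [true, false, true, true, false, true, false, true, true]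
    [false, true, false, true, false, true, true, false, true, false, true, false] [true] (by decide +kernel) (by decide +kernel)

theorem base4 (hV : NoFix 9 V) : Killed 9 V
    [([0, 3, 7, 1, 4, 5, 6, 2, 8], 1), ([5, 2, 8, 3, 4, 7, 6, 0, 1], 1)] :=
  killed_of_noFix hV e8 e9 (by decide +kernel) (by decide +kernel) (by decide +kernel)
    [true, true, false, true, false, true, true, false, true] [true, false, true, true, false, true, false, true, true]
    [false, true, false, true, false, true, true, false, true, false, true, false] [true] (by decide +kernel) (by decide +kernel)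

theorem base5 (hV : NoFix 9 V) : Killed 9 V
    [([3, 2, 1, 0, 5, 4, 7, 6, 8], 1), ([1, 8, 5, 7, 2, 4, 3, 6, 0], 1)] :=
  killed_of_noFix hV e10 e11 (by decide +kernel) (by decide +kernel) (by decide +kernel)
    [true, true, false, true, false, true, false, true] [true, false, true, true, false, true, false, true, true, false, true, true]
    [false, true, false, true, true, false, true, false, true, false, true, false] [true, false, true, true, false, true, false] (by decide +kernel) (by decide +kernel)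

theorem base6 (hV : NoFix 9 V) : Killed 9 V
    [([4, 1, 6, 5, 0, 3, 2, 8, 7], 1), ([4, 1, 2, 8, 5, 0, 3, 7, 6], 1)] :=
  killed_of_noFix hV e12 e13 (by decide +kernel) (by decide +kernel) (by decide +kernel)
    [true, true, false, true, false, true, true, false, true] [true, false, true, true, false, true, false, true, true]
    [false, true, false, true, false, true, true, false, true, false, true, false] [true] (by decide +kernel) (by decide +kernel)

theorem base7 (hV : NoFix 9 V) : Killed 9 V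
    [([0, 4, 6, 5, 1, 3, 2, 8, 7], 1), ([0, 4, 2, 8, 5, 1, 3, 7, 6], 1)] :=
  killed_of_noFix hV e14 e15 (by decide +kernel) (by decide +kernel) (by decide +kernel)
    [true, true, false, true, false, true, true, false, true] [true, false, true, true, false, true, false, true, true]
    [false, true, false, true, false, true, true, false, true, false, true, false] [true] (by decide +kernel) (by decide +kernel)

theorem base8 (hV : NoFix 9 V) : Killed 9 V
    [([3, 1, 7, 0, 4, 5, 6, 2, 8], 1), ([2, 6, 8, 3, 4, 5, 7, 1, 0], 1)] :=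
  killed_of_noFix hV e6 e16 (by decide +kernel) (by decide +kernel) (by decide +kernel)
    [true, true, false, true, false, true, true, false, true] [true, false, true, true, false, true, false, true, true]
    [false, true, false, true, false, true, true, false, true, false, true, false] [true] (by decide +kernel) (by decide +kernel)

theorem base9 (hV : NoFix 9 V) : Killed 9 V
    [([0, 3, 7, 1, 4, 5, 6, 2, 8], 1), ([6, 2, 8, 3, 4, 5, 7, 0, 1], 1)] :=
  killed_of_noFix hV e8 e17 (by decide +kernel) (by decide +kernel) (by decide +kernel)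
    [true, true, false, true, false, true, true, false, true] [true, false, true, true, false, true, false, true, true]
    [false, true, false, true, false, true, true, false, true, false, true, false] [true] (by decide +kernel) (by decide +kernel)

theorem base10 (hV : NoFix 9 V) : Killed 9 V
    [([3, 2, 1, 0, 6, 7, 4, 5, 8], 1), ([1, 8, 6, 7, 2, 3, 4, 5, 0], 1)] :=
  killed_of_noFix hV e18 e19 (by decide +kernel) (by decide +kernel) (by decide +kernel)
    [true, true, false, true, false, true, false, true] [true, false, true, true, false, true, false, true, true, false, true, true]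
    [false, true, false, true, true, false, true, false, true, false, true, false] [true, false, true, true, false, true, false] (by decide +kernel) (by decide +kernel)

theorem base11 (hV : NoFix 9 V) : Killed 9 V
    [([4, 1, 5, 6, 0, 2, 3, 8, 7], 1), ([4, 1, 2, 8, 6, 3, 0, 7, 5], 1)] :=
  killed_of_noFix hV e20 e21 (by decide +kernel) (by decide +kernel) (by decide +kernel)
    [true, true, false, true, false, true, true, false, true] [true, false, true, true, false, true, false, true, true]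
    [false, true, false, true, false, true, true, false, true, false, true, false] [true] (by decide +kernel) (by decide +kernel)

theorem base12 (hV : NoFix 9 V) : Killed 9 V
    [([0, 4, 5, 6, 1, 2, 3, 8, 7], 1), ([0, 4, 2, 8, 6, 3, 1, 7, 5], 1)] :=
  killed_of_noFix hV e22 e23 (by decide +kernel) (by decide +kernel) (by decide +kernel)
    [true, true, false, true, false, true, true, false, true] [true, false, true, true, false, true, false, true, true]
    [false, true, false, true, false, true, true, false, true, false, true, false] [true] (by decide +kernel) (by decide +kernel)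

theorem base13 (hV : NoFix 9 V) : Killed 9 V
    [([1, 0, 2, 3, 6, 5, 4, 7, 8], 1), ([5, 1, 2, 3, 0, 4, 6, 7, 8], 1)] :=
  killed_of_noFix hV e0 e24 (by decide +kernel) (by decide +kernel) (by decide +kernel)
    [true, true, false, true, false, true] [true, true, false, true, false, true, false]
    [true, false, true] [true, false, true, true, false, true, false] (by decide +kernel) (by decide +kernel)

theorem killSquare [Finite V] (hV : NoFix 9 V) (h2 : ∀ v : V, 2 • v = 0) : Killed 9 V squarePairTarget :=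
  killed_of_check2 h2 squarePairCert (valid_list [[(0, 1, 2, 3)], [(0, 2, 1, 3)], [(4, 5, 6, 7)], [(4, 6, 5, 7)], [(0, 1, 1, 2)], [(4, 5, 5, 6)], [(1, 2, 5, 6)], [(0, 4, 1, 5), (2, 6, 3, 7)]] (by decide +kernel))
    (fun S hS => by
      simp only [squarePairHyps, List.mem_cons, List.not_mem_nil, or_false] at hS
      rcases hS with rfl | rfl | rfl
      · exact base0 hV
      · exact base1 hV
      · exact base2 hV
    ) squarePairBase squarePairTerms ⟨_, squarePairCover⟩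

theorem killSquareI [Finite V] (hV : NoFix 9 V) (h2 : ∀ v : V, 2 • v = 0) : Killed 9 V
    [([1, 0, 3, 2, 4, 5, 6, 7, 8], 1), ([2, 3, 0, 1, 4, 5, 6, 7, 8], 1), ([0, 1, 2, 3, 5, 4, 7, 6, 8], 1), ([0, 1, 2, 3, 6, 7, 4, 5, 8], 1), ([1, 2, 0, 3, 4, 5, 6, 7, 8], 1), ([0, 1, 2, 3, 5, 6, 4, 7, 8], 1), ([0, 2, 1, 3, 4, 6, 5, 7, 8], 1)] :=
  have : Fact (Nat.Prime 2) := ⟨by decide⟩
  Killed.of_norm h2 (valid_list [[(0, 1, 2, 3)], [(0, 2, 1, 3)], [(4, 5, 6, 7)], [(4, 6, 5, 7)], [(0, 1, 1, 2)], [(4, 5, 5, 6)], [(1, 2, 5, 6)]] (by decide +kernel)) e25 (ly := [4, 5, 6, 7, 0, 1, 2, 3, 8]) (by decide +kernel) (by decide +kernel)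
    [] (by decide +kernel) (killSquare hV h2)

theorem killEQ [Finite V] (hV : NoFix 9 V) (h2 : ∀ v : V, 2 • v = 0) : Killed 9 V
    [([1, 0, 3, 2, 4, 5, 6, 7, 8], 1), ([2, 3, 0, 1, 4, 5, 6, 7, 8], 1), ([0, 1, 2, 3, 5, 4, 7, 6, 8], 1), ([0, 1, 2, 3, 6, 7, 4, 5, 8], 1), ([1, 2, 0, 3, 4, 5, 6, 7, 8], 1), ([0, 1, 2, 3, 5, 6, 4, 7, 8], 1)] :=
  have : Fact (Nat.Prime 2) := ⟨by decide⟩
  Killed.of_norm h2 (valid_list [[(0, 1, 2, 3)], [(0, 2, 1, 3)], [(4, 5, 6, 7)], [(4, 6, 5, 7)], [(0, 1, 1, 2)], [(4, 5, 5, 6)]] (by decide +kernel)) e26 (ly := [0, 2, 1, 3, 4, 6, 5, 7, 8]) (by decide +kernel) (by decide +kernel)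
    [(2, 1), (3, 1), (4, 1), (5, 1), (6, 1), (3, 2), (4, 2), (5, 2), (6, 2), (4, 3), (5, 3), (6, 3), (5, 4), (6, 4), (2, 5), (5, 5), (6, 5), (4, 6), (6, 6)] (by decide +kernel) (killSquareI hV h2)

theorem killDiag [Finite V] (hV : NoFix 9 V) (h2 : ∀ v : V, 2 • v = 0) : Killed 9 V diagPairTarget :=
  killed_of_check2 h2 diagPairCert (valid_list [[(0, 1, 2, 3)], [(0, 2, 1, 3)], [(4, 5, 6, 7)], [(4, 6, 5, 7)], [(0, 1, 1, 2), (4, 5, 5, 6)], [(1, 2, 5, 6)], [(0, 4, 1, 5), (2, 6, 3, 7)]] (by decide +kernel))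
    (fun S hS => by
      simp only [diagPairHyps, List.mem_cons, List.not_mem_nil, or_false] at hS
      rcases hS with rfl | rfl | rfl | rfl | rfl | rfl | rfl | rfl
      · exact base3 hV
      · exact base4 hV
      · exact base1 hV
      · exact base2 hV
      · exact base5 hV
      · exact base6 hV
      · exact base7 hV
      · exact killEQ hV h2
    ) diagPairBase diagPairTerms ⟨_, diagPairCover⟩

theorem killDiagI [Finite V] (hV : NoFix 9 V) (h2 : ∀ v : V, 2 • v = 0) : Killed 9 V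
    [([1, 0, 3, 2, 4, 5, 6, 7, 8], 1), ([2, 3, 0, 1, 4, 5, 6, 7, 8], 1), ([0, 1, 2, 3, 5, 4, 7, 6, 8], 1), ([0, 1, 2, 3, 6, 7, 4, 5, 8], 1), ([1, 2, 0, 3, 5, 6, 4, 7, 8], 1), ([0, 2, 1, 3, 4, 6, 5, 7, 8], 1)] :=
  have : Fact (Nat.Prime 2) := ⟨by decide⟩
  Killed.of_norm h2 (valid_list [[(0, 1, 2, 3)], [(0, 2, 1, 3)], [(4, 5, 6, 7)], [(4, 6, 5, 7)], [(0, 1, 1, 2), (4, 5, 5, 6)], [(1, 2, 5, 6)]] (by decide +kernel)) e25 (ly := [4, 5, 6, 7, 0, 1, 2, 3, 8]) (by decide +kernel) (by decide +kernel)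
    [] (by decide +kernel) (killDiag hV h2)

theorem killEd [Finite V] (hV : NoFix 9 V) (h2 : ∀ v : V, 2 • v = 0) : Killed 9 V
    [([1, 0, 3, 2, 4, 5, 6, 7, 8], 1), ([2, 3, 0, 1, 4, 5, 6, 7, 8], 1), ([0, 1, 2, 3, 5, 4, 7, 6, 8], 1), ([0, 1, 2, 3, 6, 7, 4, 5, 8], 1), ([1, 2, 0, 3, 5, 6, 4, 7, 8], 1)] :=
  have : Fact (Nat.Prime 2) := ⟨by decide⟩
  Killed.of_norm h2 (valid_list [[(0, 1, 2, 3)], [(0, 2, 1, 3)], [(4, 5, 6, 7)], [(4, 6, 5, 7)], [(0, 1, 1, 2), (4, 5, 5, 6)]] (by decide +kernel)) e26 (ly := [0, 2, 1, 3, 4, 6, 5, 7, 8]) (by decide +kernel) (by decide +kernel)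
    [(2, 1), (3, 1), (4, 1), (5, 1), (3, 2), (4, 2), (5, 2), (4, 3), (5, 3), (5, 4), (2, 5), (4, 5), (5, 5)] (by decide +kernel) (killDiagI hV h2)

theorem killAnti [Finite V] (hV : NoFix 9 V) (h2 : ∀ v : V, 2 • v = 0) : Killed 9 V antiPairTarget :=
  killed_of_check2 h2 antiPairCert (valid_list [[(0, 1, 2, 3)], [(0, 2, 1, 3)], [(4, 6, 5, 7)], [(4, 5, 6, 7)], [(0, 1, 1, 2), (4, 6, 6, 5)], [(1, 2, 5, 6)], [(0, 4, 1, 6), (2, 5, 3, 7)]] (by decide +kernel))
    (fun S hS => by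
      simp only [antiPairHyps, List.mem_cons, List.not_mem_nil, or_false] at hS
      rcases hS with rfl | rfl | rfl | rfl | rfl | rfl | rfl | rfl
      · exact base8 hV
      · exact base9 hV
      · exact base1 hV
      · exact base2 hV
      · exact base10 hV
      · exact base11 hV
      · exact base12 hV
      · exact (killEQ hV h2).of_sub h2 (valid_list [[(0, 1, 2, 3)], [(0, 2, 1, 3)], [(4, 6, 5, 7)], [(4, 5, 6, 7)], [(0, 1, 1, 2)], [(4, 6, 6, 5)]] (by decide +kernel)) [(2, 1), (3, 1), (4, 1), (5, 1), (6, 1), (3, 2), (4, 2), (5, 2), (6, 2), (4, 3), (5, 3), (6, 3), (5, 4), (6, 4), (2, 5), (5, 5), (6, 5), (4, 6), (6, 6)] (by decide +kernel)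
    ) antiPairBase antiPairTerms ⟨_, antiPairCover⟩

theorem killAntiI [Finite V] (hV : NoFix 9 V) (h2 : ∀ v : V, 2 • v = 0) : Killed 9 V
    [([1, 0, 3, 2, 4, 5, 6, 7, 8], 1), ([2, 3, 0, 1, 4, 5, 6, 7, 8], 1), ([0, 1, 2, 3, 6, 7, 4, 5, 8], 1), ([0, 1, 2, 3, 5, 4, 7, 6, 8], 1), ([1, 2, 0, 3, 6, 4, 5, 7, 8], 1), ([0, 2, 1, 3, 4, 6, 5, 7, 8], 1)] :=
  have : Fact (Nat.Prime 2) := ⟨by decide⟩
  Killed.of_norm h2 (valid_list [[(0, 1, 2, 3)], [(0, 2, 1, 3)], [(4, 6, 5, 7)], [(4, 5, 6, 7)], [(0, 1, 1, 2), (4, 6, 6, 5)], [(1, 2, 5, 6)]] (by decide +kernel)) e27 (ly := [4, 6, 5, 7, 0, 2, 1, 3, 8]) (by decide +kernel) (by decide +kernel)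
    [] (by decide +kernel) (killAnti hV h2)

theorem killEe0 [Finite V] (hV : NoFix 9 V) (h2 : ∀ v : V, 2 • v = 0) : Killed 9 V
    [([1, 0, 3, 2, 4, 5, 6, 7, 8], 1), ([2, 3, 0, 1, 4, 5, 6, 7, 8], 1), ([0, 1, 2, 3, 6, 7, 4, 5, 8], 1), ([0, 1, 2, 3, 5, 4, 7, 6, 8], 1), ([1, 2, 0, 3, 6, 4, 5, 7, 8], 1)] :=
  have : Fact (Nat.Prime 2) := ⟨by decide⟩
  Killed.of_norm h2 (valid_list [[(0, 1, 2, 3)], [(0, 2, 1, 3)], [(4, 6, 5, 7)], [(4, 5, 6, 7)], [(0, 1, 1, 2), (4, 6, 6, 5)]] (by decide +kernel)) e26 (ly := [0, 2, 1, 3, 4, 6, 5, 7, 8]) (by decide +kernel) (by decide +kernel)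
    [(2, 1), (3, 1), (4, 1), (5, 1), (3, 2), (4, 2), (5, 2), (4, 3), (5, 3), (5, 4), (2, 5), (4, 5), (5, 5)] (by decide +kernel) (killAntiI hV h2)

theorem killEe [Finite V] (hV : NoFix 9 V) (h2 : ∀ v : V, 2 • v = 0) : Killed 9 V
    [([1, 0, 3, 2, 4, 5, 6, 7, 8], 1), ([2, 3, 0, 1, 4, 5, 6, 7, 8], 1), ([0, 1, 2, 3, 5, 4, 7, 6, 8], 1), ([0, 1, 2, 3, 6, 7, 4, 5, 8], 1), ([1, 2, 0, 3, 6, 4, 5, 7, 8], 1)] :=
  (killEe0 hV h2).of_sub h2 (valid_list [[(0, 1, 2, 3)], [(0, 2, 1, 3)], [(4, 5, 6, 7)], [(4, 6, 5, 7)], [(0, 1, 1, 2), (4, 6, 6, 5)]] (by decide +kernel)) [] (by decide +kernel)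

theorem killOne [Finite V] (hV : NoFix 9 V) (h2 : ∀ v : V, 2 • v = 0) : Killed 9 V onePairTarget :=
  killed_of_check2 h2 onePairCert (valid_list [[(0, 1, 2, 3)], [(0, 2, 1, 3)], [(4, 5, 6, 7)], [(4, 6, 5, 7)], [(0, 1, 1, 2)], [(1, 2, 5, 6)]] (by decide +kernel))
    (fun S hS => by
      simp only [onePairHyps, List.mem_cons, List.not_mem_nil, or_false] at hS
      rcases hS with rfl | rfl | rfl | rfl | rfl | rfl | rfl
      · exact base13 hV
      · exact base0 hV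
      · exact base3 hV
      · exact base4 hV
      · exact killEQ hV h2
      · exact killEd hV h2
      · exact killEe hV h2
    ) onePairBase onePairTerms ⟨_, onePairCover⟩

theorem killEa [Finite V] (hV : NoFix 9 V) (h2 : ∀ v : V, 2 • v = 0) : Killed 9 V
    [([1, 0, 3, 2, 4, 5, 6, 7, 8], 1), ([2, 3, 0, 1, 4, 5, 6, 7, 8], 1), ([0, 1, 2, 3, 5, 4, 7, 6, 8], 1), ([0, 1, 2, 3, 6, 7, 4, 5, 8], 1), ([1, 2, 0, 3, 4, 5, 6, 7, 8], 1)] :=
  have : Fact (Nat.Prime 2) := ⟨by decide⟩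
  Killed.of_norm h2 (valid_list [[(0, 1, 2, 3)], [(0, 2, 1, 3)], [(4, 5, 6, 7)], [(4, 6, 5, 7)], [(0, 1, 1, 2)]] (by decide +kernel)) e26 (ly := [0, 2, 1, 3, 4, 6, 5, 7, 8]) (by decide +kernel) (by decide +kernel)
    [(2, 1), (3, 1), (4, 1), (5, 1), (3, 2), (4, 2), (5, 2), (4, 3), (5, 3), (5, 4), (2, 5), (5, 5)] (by decide +kernel) (killOne hV h2)

theorem killEb [Finite V] (hV : NoFix 9 V) (h2 : ∀ v : V, 2 • v = 0) : Killed 9 V
    [([1, 0, 3, 2, 4, 5, 6, 7, 8], 1), ([2, 3, 0, 1, 4, 5, 6, 7, 8], 1), ([0, 1, 2, 3, 5, 4, 7, 6, 8], 1), ([0, 1, 2, 3, 6, 7, 4, 5, 8], 1), ([0, 1, 2, 3, 5, 6, 4, 7, 8], 1)] :=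
  (killEa hV h2).conj e25 (valid_list [[(0, 1, 2, 3)], [(0, 2, 1, 3)], [(4, 5, 6, 7)], [(4, 6, 5, 7)], [(4, 5, 5, 6)]] (by decide +kernel)) (by decide +kernel)

theorem killE [Finite V] (hV : NoFix 9 V) (h2 : ∀ v : V, 2 • v = 0) : Killed 9 V
    [([1, 0, 3, 2, 4, 5, 6, 7, 8], 1), ([2, 3, 0, 1, 4, 5, 6, 7, 8], 1), ([0, 1, 2, 3, 5, 4, 7, 6, 8], 1), ([0, 1, 2, 3, 6, 7, 4, 5, 8], 1)] :=
  Killed.of_ninths h2 (valid_list [[(0, 1, 2, 3)], [(0, 2, 1, 3)], [(4, 5, 6, 7)], [(4, 6, 5, 7)]] (by decide +kernel)) e28 e29 (ly := [1, 2, 0, 3, 4, 5, 6, 7, 8]) (lz := [0, 1, 2, 3, 5, 6, 4, 7, 8])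
    (lu := [1, 2, 0, 3, 5, 6, 4, 7, 8]) (lt := [1, 2, 0, 3, 6, 4, 5, 7, 8]) (by decide +kernel) (by decide +kernel)
    (by decide +kernel) (by decide +kernel) (by decide +kernel) (by decide +kernel) (by decide +kernel)
    [(2, 1), (3, 1), (4, 1), (3, 2), (4, 2), (4, 3)] (by decide +kernel) (by decide +kernel) (killEa hV h2) (killEb hV h2) (killEd hV h2) (killEe hV h2)

/-- The characteristic-2 module fact. -/
theorem exists_fixed [Finite V] [Nontrivial V] (hp : ∀ v : V, 2 • v = 0) :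
    ∃ w : V, w ≠ 0 ∧ ∃ S : Subgroup (alternatingGroup (Fin 9)), ¬ Group.IsSolvable S ∧ ∀ s ∈ S, s • w = w := by
  have : Fact (Nat.Prime 2) := ⟨by decide⟩
  by_contra hcon
  have hV : NoFix 9 V := fun w hw S hS => by
    by_contra h
    exact hcon ⟨w, hw, S, hS, fun s hs => by by_contra h'; exact h ⟨s, hs, h'⟩⟩
  have k3 : Killed 9 V [([1, 0, 3, 2, 4, 5, 6, 7, 8], 1), ([2, 3, 0, 1, 4, 5, 6, 7, 8], 1), ([0, 1, 2, 3, 5, 4, 7, 6, 8], 1)] :=
    Killed.of_fix hp e30 (ly := [0, 1, 2, 3, 6, 7, 4, 5, 8]) (by decide +kernel) (by decide +kernel) (by decide +kernel)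
      (killE hV hp)
  have k2 : Killed 9 V [([1, 0, 3, 2, 4, 5, 6, 7, 8], 1), ([2, 3, 0, 1, 4, 5, 6, 7, 8], 1)] :=
    Killed.of_fix hp e31 (ly := [0, 1, 2, 3, 5, 4, 7, 6, 8]) (by decide +kernel) (by decide +kernel) (by decide +kernel)
      (k3)
  have k1 : Killed 9 V [([1, 0, 3, 2, 4, 5, 6, 7, 8], 1)] :=
    Killed.of_fix hp e32 (ly := [2, 3, 0, 1, 4, 5, 6, 7, 8]) (by decide +kernel) (by decide +kernel) (by decide +kernel)
      (k2)
  have k0 : Killed 9 V [] :=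
    Killed.of_fix hp e33 (ly := [1, 0, 3, 2, 4, 5, 6, 7, 8]) (by decide +kernel) (by decide +kernel) (by decide +kernel)
      (k1)
  obtain ⟨v, hv⟩ := exists_ne (0 : V)
  exact hv (k0 v (by simp [SFix]))

end CfsgLib.SolvCent.Two
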